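import Cfsg.Agent.GO.N27
import Cfsg.Agent.GO.Sr
import Cfsg.Agent.H3.Soft

/-! General lemmas on the sectional `2`-rank; Alperin's lemma. -/

set_option autoImplicit false
set_option linter.unusedSectionVars false
set_option linter.unusedVariables false

namespace Cfsg.Agent.GO

open Cfsg Subgroup Cfsg.Agent.FT Cfsg.Agent.GW
open scoped commutatorElement

universe u

variable {G : Type u} [Group G] [Finite G] {D : Set G} {p : ℕ}
  {A B E H J K L M P Q R S T U V W X Y Z : Subgroup G} {a b d e g r s t v w x y z : G}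

variable {c f : G} {N : Subgroup G} {k : ℕ}

namespace Fg

theorem two_card (h : A ≤ B) (hn : ¬ B ≤ A) : 2 * #A ≤ #B := by
  rw [← FT.card_mul_relIndex h, mul_comm]; exact Nat.mul_le_mul_left _ (one_lt_relIndex hn)

theorem rel_mono (h : K ≤ L) : H.relIndex K ≤ H.relIndex L := relIndex_le_of_le_right h (relIndex_pos _ _).ne'
theorem rel_anti (h : H ≤ K) : K.relIndex L ≤ H.relIndex L := relIndex_le_of_le_left h (relIndex_pos _ _).ne'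
theorem rel_le_mul (N X H : Subgroup G) : N.relIndex H ≤ N.relIndex (X ⊓ H) * X.relIndex H := by
  rw [relIndex_inf_mul_relIndex]; exact rel_anti inf_le_left

theorem mem_sup2 (hn : x ∈ N(K)) (h2 : x * x ∈ K) (hy : y ∈ K ⊔ ⟪x⟫) : y ∈ K ∨ ∃ c ∈ K, y = c * x := by
  by_cases hx : x ∈ K
  · exact Or.inl (sup_le le_rfl (zpowers_le.2 hx) hy)
  by_cases h : y ∈ K
  · exact Or.inl h
  · exact Or.inr ⟨y * x⁻¹, H3.mul_mem_of_relIndex_two (H3.relIndex_sup_zpowers Nat.prime_two hn hx (by rwa [sq])) hy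
      (inv_mem (mem_sup_right (mem_zpowers x))) h (by rwa [inv_mem_iff]), by group⟩

theorem nrm_sup (nW : P ≤ N(W)) (hs : s ∈ P) (hc : ∀ g ∈ P, ⁅s, g⁆ ∈ W) : P ≤ N(W ⊔ ⟪s⟫) :=
  norms_of_comm_le ((comm_sup_le (X := W) (sup_le (le_nrm W) (zpowers_le.2 (nW hs))) (comm_le_left nW) (by
    rw [commutator_comm]
    exact comm_zpowers_le (nW hs) nW hc)).trans le_sup_left)

theorem four_mem (aW : Abelem 2 W) (cW : #W ≤ 4) (hx : x ∈ W) (hy : y ∈ W) (x1 : x ≠ 1) (y1 : y ≠ 1) (xy : x ≠ y)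
    (hw : w ∈ W) : w = 1 ∨ w = x ∨ w = y ∨ w = x * y := by
  have x2 := aW.pow hx
  have y2 := aW.pow hy
  have hn : y ∉ ⟪x⟫ := by rw [H3.mem_zpowers_two x2]; rintro (e | e); exacts [y1 e, xy e.symm]
  have hc : y ∈ N(⟪x⟫) := cen_le_nrm _ (by rw [cen_zpowers, mem_cen1]; exact aW.ab.comm hy hx)
  have e : ⟪x⟫ ⊔ ⟪y⟫ = W := eq_of_card_le (sup_le (zpowers_le.2 hx) (zpowers_le.2 hy)) (by
    rw [H3.card_sup_zpowers Nat.prime_two hc hn (y2 ▸ one_mem _), card_zpowers', orderOf_eq_prime x2 x1]; exact cW)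
  rcases mem_sup2 hc (by rw [← sq, y2]; exact one_mem _) (e ▸ hw) with h | ⟨c, h, rfl⟩ <;>
    rcases (H3.mem_zpowers_two x2).1 h with rfl | rfl <;> simp

theorem sr_two (hW : #W ≤ 4) (h1 : ∀ c ∈ K, ∀ x ∈ K, x * c * x⁻¹ = c⁻¹ → c ∈ W) : SR 2 K := fun H M hH hM hs => by
  classical
  let r : G → G := fun n => if h : ∃ x ∈ H, x * x = n then h.choose else 1
  have hr : ∀ x ∈ H, r (x * x) ∈ H ∧ r (x * x) * r (x * x) = x * x := fun x hx => by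
    have h : ∃ y ∈ H, y * y = x * x := ⟨x, hx, rfl⟩
    simp only [r, dif_pos h]; exact h.choose_spec
  let f : H → M × W := fun x => (⟨x * x, hs _ x.2⟩, ⟨(r (x * x))⁻¹ * x, by
    obtain ⟨h2, h3⟩ := hr _ x.2
    refine h1 _ (hH (mul_mem (inv_mem h2) x.2)) _ (hH h2) ?_
    calc _ = (x : G)⁻¹ * (x * x) * (r (x * x))⁻¹ := by group
      _ = _ := by conv_lhs => enter [1, 2]; rw [← h3]
                  group⟩)
  have hf : Function.Injective f := fun x y e => by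
    obtain ⟨e1, e2⟩ := Prod.ext_iff.1 e
    have e1 : (x : G) * x = y * y := congrArg Subtype.val e1
    have e2 : (r (x * x))⁻¹ * x = (r (y * y))⁻¹ * y := congrArg Subtype.val e2
    rw [e1] at e2
    exact Subtype.ext (mul_left_cancel e2)
  have := Nat.card_le_card_of_injective f hf
  rw [Nat.card_prod] at this
  calc _ ≤ _ := this
    _ ≤ #M * 4 := Nat.mul_le_mul_left _ hW
    _ = _ := by ring

theorem inv_four (h2 : PiElt {2} c) (c2 : c * c ≠ 1) :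
    ∃ f ∈ ⟪c⟫, f * f ≠ 1 ∧ f * f * (f * f) = 1 ∧ ∀ x : G, x * c * x⁻¹ = c⁻¹ → x * f * x⁻¹ = f⁻¹ := by
  obtain ⟨f, hf, h1, h3⟩ := exists_pow_sq (K := ⊥) (e := c * c) (sq c ▸ h2.pow 2) (by rwa [mem_bot])
  obtain ⟨i, rfl⟩ := mem_zpowers_iff.1 hf
  rw [(Commute.refl c).mul_zpow, mem_bot] at h1 h3
  exact ⟨c ^ i, zpow_mem (mem_zpowers c) i, h1, h3, fun x e => by rw [← conj_zpow, e, inv_zpow]⟩

theorem sr_four (hN : SR 2 N) (hsq : ∀ x ∈ N, x * x ∈ Y) (hi : N.relIndex P ≤ 8)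
    (hs : ∀ H ≤ P, (∀ s ∈ H, s * s ∈ Y) → N.relIndex H ≤ 4) : SR 4 P := fun H M hH hM h => by
  have e := card_inf_mul_relIndex N H
  by_cases h1 : ∀ s ∈ H, s * s ∈ Y
  · have h2 := hN (N ⊓ H) (M ⊓ (N ⊓ H)) inf_le_left inf_le_right fun x hx => ⟨h x hx.2, mul_mem hx hx⟩
    have h3 : #(M ⊓ (N ⊓ H)) ≤ #M := card_le inf_le_left
    have := hs H hH h1
    nlinarith
  · push Not at h1
    obtain ⟨s, hs, h1⟩ := h1
    have h2 := hN (N ⊓ H) (M ⊓ Y ⊓ (N ⊓ H)) inf_le_left inf_le_right fun x hx => ⟨⟨h x hx.2, hsq x hx.1⟩, mul_mem hx hx⟩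
    have h3 : 2 * #(M ⊓ Y ⊓ (N ⊓ H)) ≤ #M := two_card (inf_le_left.trans inf_le_left) fun k => h1 (k (h s hs)).1.2
    have := (rel_mono (H := N) hH).trans hi
    nlinarith

theorem comm_sq (h : ∀ s ∈ H, s * s ∈ Y) (hs : s ∈ H) (ht : t ∈ H) : ⁅s, t⁆ ∈ Y := by
  have : ⁅s, t⁆ = s * s * (s⁻¹ * t * (s⁻¹ * t)) * (t⁻¹ * t⁻¹) := by rw [commutatorElement_def]; group
  rw [this]
  exact mul_mem (mul_mem (h _ hs) (h _ (mul_mem (inv_mem hs) ht))) (h _ (inv_mem ht))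

/-- elements commuting with `s` modulo `X` -/
def cm (X : Subgroup G) (s : G) : Subgroup G where
  carrier := {g | g ∈ N(X) ∧ ⁅s, g⁆ ∈ X}
  one_mem' := ⟨one_mem _, by simp⟩
  mul_mem' := by
    rintro x y ⟨h1, h2⟩ ⟨k1, k2⟩
    refine ⟨mul_mem h1 k1, ?_⟩
    have : ⁅s, x * y⁆ = ⁅s, x⁆ * (x * ⁅s, y⁆ * x⁻¹) := by simp only [commutatorElement_def]; group
    rw [this]; exact mul_mem h2 (conj_mem h1 k2)
  inv_mem' := by
    rintro x ⟨h1, h2⟩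
    refine ⟨inv_mem h1, ?_⟩
    have : ⁅s, x⁻¹⁆ = x⁻¹ * ⁅s, x⁆⁻¹ * x := by simp only [commutatorElement_def]; group
    rw [this]; exact conj_mem' h1 (inv_mem h2)

/-- `A` is a maximal normal abelian subgroup of exponent `4` of `P`, `W = Ω₁(A)` -/
structure Fa (P A W : Subgroup G) : Prop where
  pP : PGrp 2 P
  ne : ∀ E ≤ P, P ≤ N(E) → Abelem 2 E → #E ≤ 4
  le : A ≤ P
  nA : P ≤ N(A)
  ab : Ab A
  memW : ∀ x, x ∈ W ↔ x ∈ A ∧ x * x = 1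
  sw : ∀ a ∈ A, a * a ∈ W
  om : ∀ x ∈ P ⊓ C(A), x * x * (x * x) = 1 → x ∈ A

theorem alperin (pP : PGrp 2 P) : ∃ A ≤ P, P ≤ N(A) ∧ Ab A ∧ (∀ a ∈ A, a * a * (a * a) = 1) ∧
    ∀ x ∈ P ⊓ C(A), x * x * (x * x) = 1 → x ∈ A := by
  obtain ⟨A, -, ⟨h1, h2, h3, h4⟩, mA⟩ := exists_max (A := ⊥)
    (fun A => A ≤ P ∧ P ≤ N(A) ∧ Ab A ∧ ∀ a ∈ A, a * a * (a * a) = 1) ⟨bot_le, norms_bot _, ab_bot, by simp⟩
  refine ⟨A, h1, h2, h3, h4, ?_⟩
  obtain ⟨M, k0, ⟨k1, k2, k3⟩, mM⟩ := exists_max (A := A)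
    (fun M => M ≤ P ⊓ C(A) ∧ P ≤ N(M) ∧ ∀ x ∈ M, x * x * (x * x) = 1 → x ∈ A)
    ⟨le_inf h1 h3.le_cen, h2, fun x hx _ => hx⟩
  by_cases hn : P ⊓ C(A) ≤ M
  · exact fun x hx => k3 x (hn hx)
  obtain ⟨x, hx, n1, n2, n3⟩ := exists_mod pP inf_le_left (norms_subcent (le_nrm P) h2) hn
  have hle : M ⊔ ⟪x⟫ ≤ P ⊓ C(A) := sup_le k1 (zpowers_le.2 hx)
  refine absurd (mM (M ⊔ ⟪x⟫) ⟨hle, nrm_sup k2 hx.1 n3, fun y hy y4 => ?_⟩ le_sup_left ▸ mem_sup_right (mem_zpowers x)) n1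
  by_cases hyM : y ∈ M
  · exact k3 y hyM y4
  have i2 := H3.relIndex_sup_zpowers Nat.prime_two (k2 hx.1) n1 (by rwa [sq])
  have sq2 : ∀ u ∈ M ⊔ ⟪x⟫, u * u * (u * u) = 1 → u * u ∈ A := fun u hu u4 =>
    k3 _ ((H3.mul_mem_iff_of_relIndex_two i2 hu hu).2 Iff.rfl) (by rw [u4, mul_one])
  have yc := hle hy
  have key : ∀ g ∈ P, ⁅y, g⁆ ∈ A := fun g hg => by
    have hu : g * y⁻¹ * g⁻¹ ∈ M ⊔ ⟪x⟫ := conj_mem (nrm_sup k2 hx.1 n3 hg) (inv_mem hy)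
    have u4 : g * y⁻¹ * g⁻¹ * (g * y⁻¹ * g⁻¹) * (g * y⁻¹ * g⁻¹ * (g * y⁻¹ * g⁻¹)) = 1 := by
      calc _ = g * (y * y * (y * y))⁻¹ * g⁻¹ := by group
        _ = 1 := by rw [y4]; group
    have e0 : ⁅y, g⁆ = y * (g * y⁻¹ * g⁻¹) := by rw [commutatorElement_def]; group
    have uM : g * y⁻¹ * g⁻¹ ∉ M := fun h => hyM (by simpa [mul_assoc] using inv_mem (conj_mem' (k2 hg) h))
    have s1 := sq2 _ hy y4
    have s2 := sq2 _ hu u4
    generalize g * y⁻¹ * g⁻¹ = u at *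
    have cM : y * u ∈ M := H3.mul_mem_of_relIndex_two i2 hy hu hyM uM
    rw [e0]
    have uc := hle hu
    have c1 : ∀ v ∈ M ⊔ ⟪x⟫, ∀ a ∈ A, a * v = v * a := fun v hv => mem_cen.1 (hle hv).2
    refine k3 _ cM (by_contra fun h => ?_)
    obtain ⟨f, hf, f2, f4, fi⟩ := inv_four (c := y * u * (y * u)) (pP.piElt (k1 (mul_mem cM cM)).1) h
    have fA := k3 f (zpowers_le.2 (mul_mem cM cM) hf) f4
    have := fi y (by
      have a1 : y * (y * u) * y⁻¹ = y * y * (u * u) * (y * u)⁻¹ := by group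
      have a2 := c1 _ (inv_mem (mul_mem hy hu)) _ (mul_mem s1 s2)
      have a3 : y * y * (u * u) * (y * y * (u * u)) = 1 := by
        rw [mul_assoc (y * y), ← mul_assoc (u * u), h3.comm s2 s1, mul_assoc (y * y), u4, mul_one, y4]
      rw [← conj_mul (b := y), a1]
      generalize y * y * (u * u) = k at *
      rw [mul_assoc k, ← mul_assoc (y * u)⁻¹, ← a2, mul_assoc k, ← mul_assoc k, a3]; group)
    rw [← c1 y hy f fA, mul_inv_cancel_right] at this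
    exact f2 (by conv_lhs => enter [2]; rw [this]
                 group)
  have := mA (A ⊔ ⟪y⟫) ⟨sup_le h1 (zpowers_le.2 yc.1), nrm_sup h2 yc.1 key, h3.sup (ab_zpowers y) (zpowers_le.2 yc.2),
    fun a ha => by
      rcases mem_sup2 (h2 yc.1) (sq2 _ hy y4) ha with ha | ⟨c, hc, rfl⟩
      · exact h4 a ha
      · have e : Commute c y := mem_cen.1 yc.2 c hc
        have : ∀ u : G, u * u * (u * u) = u ^ 4 := fun u => by simp [pow_succ, mul_assoc]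
        rw [this, e.mul_pow, ← this, ← this, h4 c hc, y4, mul_one]⟩ le_sup_left
  exact this ▸ mem_sup_right (mem_zpowers y)

theorem exists_fa (pP : PGrp 2 P) (ne : ∀ E ≤ P, P ≤ N(E) → Abelem 2 E → #E ≤ 4) : ∃ A W, Fa P A W := by
  obtain ⟨A, h1, h2, h3, h4, h5⟩ := alperin pP
  let W : Subgroup G :=
    { carrier := {x | x ∈ A ∧ x * x = 1}
      one_mem' := ⟨one_mem _, mul_one _⟩
      mul_mem' := by
        rintro x y ⟨a1, a2⟩ ⟨b1, b2⟩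
        exact ⟨mul_mem a1 b1, by rw [mul_assoc, ← mul_assoc y, h3.comm b1 a1, mul_assoc, b2, mul_one, a2]⟩
      inv_mem' := by
        rintro x ⟨a1, a2⟩
        exact ⟨inv_mem a1, by rw [← mul_inv_rev, a2, inv_one]⟩ }
  exact ⟨A, W, pP, ne, h1, h2, h3, fun _ => Iff.rfl, fun a ha => ⟨mul_mem ha ha, h4 a ha⟩, h5⟩

end Fg

end Cfsg.Agent.GO
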