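import Cfsg.Agent.GO.Fs
import Cfsg.Agent.GO.Mw1

/-! Groups with abelian intersections of Sylow 2-subgroups, I: offenders on a self-centralising abelian subgroup. -/

set_option autoImplicit false
set_option linter.unusedSectionVars false
set_option linter.unusedVariables false
set_option linter.style.haveILetI false

namespace Cfsg.Agent.GO

open Cfsg Subgroup Cfsg.Agent.FT Cfsg.Agent.GW
open scoped commutatorElement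

universe u

variable {G : Type u} [Group G] [Finite G] {D : Set G} {p : ℕ}
  {A B E H J K L M P Q R S T U V W X Y Z : Subgroup G} {a b d e g r s t v w x y z : G}

namespace Ai

theorem cmul (a x y : G) : ⁅a, x * y⁆ = ⁅a, x⁆ * (x * ⁅a, y⁆ * x⁻¹) := by simp only [commutatorElement_def]; group

theorem mulc (a x y : G) : ⁅x * y, a⁆ = x * ⁅y, a⁆ * x⁻¹ * ⁅x, a⁆ := by simp only [commutatorElement_def]; group

theorem ccj (g x y : G) : g * ⁅x, y⁆ * g⁻¹ = ⁅g * x * g⁻¹, g * y * g⁻¹⁆ := by simp only [commutatorElement_def]; group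

theorem fx (h : x * y = y * x) : x * y * x⁻¹ = y := by rw [h, mul_inv_cancel_right]

theorem c1 : ⁅x, y⁆ = 1 ↔ x * y = y * x := commutatorElement_eq_one_iff_mul_comm

theorem cA (hg : g ∈ N(A)) (ha : a ∈ A) : ⁅a, g⁆ ∈ A := by
  have := mul_mem ha (conj_mem hg (inv_mem ha))
  simpa only [commutatorElement_def, mul_assoc] using this

theorem xm (hP : PGrp 2 P) (hQ : Q ≤ P) (nQ : P ≤ N(Q)) (h : ¬ Q ≤ Y) :
    ∃ x ∈ Q, x ∉ Y ∧ x * x ∈ Y ∧ ∀ g ∈ P, ⁅x, g⁆ ∈ Y := by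
  haveI : Fact (Nat.Prime 2) := ⟨Nat.prime_two⟩
  simpa only [sq] using H3.exists_central_mod_of_le (N := Y) hP.isPGroup hQ nQ h

/-- `N(A) / C(A)` has trivial intersection Sylow subgroups -/
structure TA (A T M : Subgroup G) : Prop where
  ab : Ab A
  syl : Syl 2 T N(A)
  AT : A ≤ T
  sc : T ⊓ C(A) ≤ A
  TM : T ≤ M
  CM : C(A) ≤ M
  ne : ¬ N(A) ≤ M
  ti : ∀ g ∈ N(A), ∀ t ∈ T, t ∉ A → g * t * g⁻¹ ∈ M → g ∈ M

/-- the consequences of the existence of an offender -/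
structure OF (A T M Z : Subgroup G) (g : G) : Prop where
  mem : ∀ z, z ∈ Z ↔ z ∈ A ∧ z ∈ C(T)
  gN : g ∈ N(A)
  gM : g ∉ M
  qd : ∀ a ∈ A, ∀ t ∈ T, ⁅a, t⁆ ∈ Z
  ce : ∀ t ∈ T, t ∉ A → ∀ a ∈ A, ⁅a, t⁆ ∈ cj g Z → a ∈ Z
  sq : ∀ a ∈ A, a * a ∈ Z ∧ a * a ∈ cj g Z
  inv : ∀ a ∈ A, ∃ z ∈ Z, ∃ i ∈ A, i * i = 1 ∧ a = z * i
  cE : ∀ e ∈ Z, e ∈ cj g Z → g * e = e * g
  idx : Z.relIndex A = A.relIndex T
  dc : ∀ y ∈ N(A), y ∈ M ∨ ∃ t ∈ T, g⁻¹ * t * y ∈ M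

namespace TA

variable (h : TA A T M)
include h

theorem pA : PGrp 2 A := h.syl.pi.mono h.AT

theorem ti' (hg : g ∈ N(A)) (h1 : g ∉ M) (ht : t ∈ T) (h2 : t ∉ A) : g⁻¹ * t * g ∉ M := fun c =>
  h1 (inv_mem_iff.1 (h.ti g⁻¹ (inv_mem hg) t ht h2 (by rwa [inv_inv])))

theorem st (hK : K ≤ N(A)) (ho : ∀ R ≤ K, OddG R → R ≤ C(A)) (h1 : t ∈ K) (ht : t ∈ T) (h2 : t ∉ A) : K ≤ M := by
  obtain ⟨P, hP, tP⟩ := (h.syl.pi.piElt ht).zpowers.exists_syl (zpowers_le.2 h1)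
  obtain ⟨g, hg, e⟩ := h.syl.syl_Jsub hP.pi (hP.le.trans hK)
  have gM := h.ti g hg t ht h2 (h.TM (e (conj_mem_cj.2 (tP (mem_zpowers t)))))
  refine le_of_forall_syl fun p pp _ => ?_
  by_cases c : p = 2
  · exact ⟨P, c ▸ hP, (cj_le_iff_of_mem gM).1 (e.trans h.TM)⟩
  · obtain ⟨R, hR⟩ := exists_syl p K
    exact ⟨R, hR, (ho R hR.le (hR.pi.p' c)).trans h.CM⟩

theorem not_cen (ht : t ∈ T) (h2 : t ∉ A) : t ∉ C(Ω[2](A)) := fun c => h.ne fun g hg => by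
  have n : N(A) ⊓ C(Ω[2](A)) ⊴ N(A) := subcent_nml (norms_Ohm 2 le_rfl)
  have m : t ∈ N(A) ⊓ C(Ω[2](A)) := ⟨h.syl.le ht, c⟩
  exact h.ti g hg t ht h2 (h.st n.le (fun R hR o => coprime_abelian_faithful_Ohm1 (hR.trans inf_le_left)
    (h.pA.cop o) h.ab h.pA (hR.trans inf_le_right)) m ht h2 (n.conj_mem hg m))

theorem core (hB : B ≤ T) (hn : ¬ B ≤ A) (hZ : Z = A ⊓ C(B)) (hq : ∀ a ∈ A, ∀ b ∈ B, ⁅a, b⁆ ∈ Z)
    (hc : Z.relIndex A ≤ A.relIndex B) (h1 : B ≤ K) (h2 : K ≤ N(A)) (h3 : ¬ K ≤ M) : ∃ g ∈ K, g ∉ M ∧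
    (∀ b ∈ B, b ∉ A → ∀ a ∈ A, ⁅a, b⁆ ∈ cj g Z → a ∈ Z) ∧ MulEq Z (cj g Z) A ∧
    (∀ a ∈ cj g Z, a ∉ Z → ∀ z ∈ Z, ∃ e ∈ Z ⊓ cj g Z, ∃ b ∈ B, z = e * ⁅a, b⁆) ∧
    (∀ e ∈ Z, e ∈ cj g Z → g * e = e * g) ∧ Z.relIndex A = A.relIndex B ∧ ¬ cj g Z ≤ Z := by
  obtain ⟨L, ⟨l1, l2, l3⟩, mn⟩ := exists_min_fun (fun L => B ≤ L ∧ L ≤ K ∧ ¬ L ≤ M) (fun L => #L) ⟨h1, le_rfl, h3⟩
  obtain ⟨g, gL, gM⟩ := SetLike.not_le_iff_exists.1 l3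
  have gN := h2 (l2 gL)
  have ZA : Z ≤ A := hZ ▸ inf_le_left
  have ZB : ∀ z ∈ Z, ∀ b ∈ B, b * z = z * b := fun z hz => mem_cen.1 (hZ ▸ hz).2
  have gA : cj g Z ≤ A := (cj_mono g ZA).trans (cj_of_mem_nrm gN).le
  have gen : ∀ x ∈ L, x ∉ M → ∀ H, B ≤ H → ∀ b ∈ B, b ∉ A → x * b * x⁻¹ ∈ H → L ≤ H := fun x hx k H i b hb i1 i2 =>
    inf_eq_left.1 (eq_of_le_of_card_ge inf_le_left (mn _ ⟨le_inf l1 i, inf_le_left.trans l2, fun c =>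
      k (h.ti x (h2 (l2 hx)) b (hB hb) i1 (c ⟨conj_mem (le_nrm _ hx) (l1 hb), i2⟩))⟩))
  have gen' : ∀ H, cj g B ≤ H → ∀ b ∈ B, b ∉ A → b ∈ H → L ≤ H := fun H i b hb i1 i2 => by
    have := gen g⁻¹ (inv_mem gL) (by rwa [inv_mem_iff]) (cj g⁻¹ H) (cj_le_iff.1 i) b hb i1 (conj_mem_cj.2 i2)
    rwa [← cj_le_iff, cj_of_mem gL] at this
  obtain ⟨b0, b1, b2⟩ := SetLike.not_le_iff_exists.1 hn
  have gc : ∀ a ∈ cj g Z, ∀ b ∈ B, g * b * g⁻¹ * a = a * (g * b * g⁻¹) := fun a ha b hb => by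
    obtain ⟨z, hz, rfl⟩ := mem_cj'.1 ha
    rw [conj_mul, conj_mul, ZB z hz b hb]
  have cE : ∀ e ∈ Z, e ∈ cj g Z → ∀ x ∈ L, x * e = e * x := fun e e1 e2 x hx => mem_cen1.1
    (gen g gL gM C[e] (fun b hb => mem_cen1.2 (ZB e e1 b hb)) b0 b1 b2 (mem_cen1.2 (gc e e2 b0 b1)) hx)
  let H (a : G) : Subgroup G :=
    { carrier := {x | x ∈ L ∧ ⁅a, x⁆ ∈ Z ⊓ cj g Z}
      one_mem' := ⟨L.one_mem, by simp⟩
      mul_mem' := fun {x y} hx hy => ⟨L.mul_mem hx.1 hy.1, by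
        rw [cmul, fx (cE _ hy.2.1 hy.2.2 x hx.1)]; exact mul_mem hx.2 hy.2⟩
      inv_mem' := fun {x} hx => ⟨L.inv_mem hx.1, by
        have : ⁅a, x⁻¹⁆ = x⁻¹ * ⁅a, x⁆⁻¹ * x⁻¹⁻¹ := by simp only [commutatorElement_def]; group
        have i := inv_mem hx.2
        rw [this, fx (cE _ i.1 i.2 _ (L.inv_mem hx.1))]; exact i⟩ }
  have ps : ∀ a, L ≤ H a → ∀ b ∈ B, ⁅a, g * b * g⁻¹⁆ = ⁅a, b⁆ := fun a k b hb => by
    have e1 := cmul a g b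
    have e2 := cmul a (g * b * g⁻¹) g
    have i1 := (k gL).2
    have i2 := (k (l1 hb)).2
    rw [fx (cE _ i2.1 i2.2 g gL)] at e1
    rw [fx (cE _ i1.1 i1.2 _ (conj_mem (le_nrm _ gL) (l1 hb))), inv_mul_cancel_right, e1,
      h.ab.comm (ZA i1.1) (ZA i2.1)] at e2
    exact (mul_right_cancel e2).symm
  have key : ∀ a ∈ cj g Z, ∀ b ∈ B, b ∉ A → ⁅a, b⁆ ∈ cj g Z → a ∈ Z := fun a ha b hb i1 i2 => by
    have := ps a (gen' _ (fun x hx => ?_) b hb i1 ⟨l1 hb, hq a (gA ha) b hb, i2⟩)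
    · exact hZ ▸ ⟨gA ha, mem_cen.2 fun x hx => (c1.1 (by rw [← this x hx, c1, gc a ha x hx])).symm⟩
    obtain ⟨y, hy, rfl⟩ := mem_cj'.1 hx
    exact ⟨conj_mem (le_nrm _ gL) (l1 hy), by rw [c1.2 (gc a ha y hy).symm]; exact one_mem _⟩
  have nz : ¬ cj g Z ≤ Z := fun c => by
    have e : cj g Z = Z := eq_of_card_eq c (card_cj g Z)
    refine gM (h.ti g gN b0 (hB b1) b2 ((mul_mem_cancel_left (inv_mem (h.TM (hB b1)))).1 (h.CM (mem_cen.2 fun a ha => ?_))))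
    have := ps a⁻¹ (gen g gL gM _ (fun b hb => ⟨l1 hb, by rw [e, inf_idem]; exact hq _ (inv_mem ha) b hb⟩) b0 b1 b2
      ⟨conj_mem (le_nrm _ gL) (l1 b1), ?_⟩) b0 b1
    · simp only [commutatorElement_def, inv_inv] at this
      calc a * (b0⁻¹ * (g * b0 * g⁻¹)) = b0⁻¹ * a * (a⁻¹ * b0 * a * b0⁻¹) * (g * b0 * g⁻¹) := by group
        _ = _ := by rw [← this]; group
    · have i := conj_mem_cj (g := g).2 (hq _ (conj_mem' gN (inv_mem ha)) b0 b1)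
      rw [ccj, show g * (g⁻¹ * a⁻¹ * g) * g⁻¹ = a⁻¹ by group] at i
      exact ⟨e ▸ i, i⟩
  have cnt : ∀ a ∈ cj g Z, a ∉ Z → ∃ W : Subgroup G, (∀ y ∈ W, ∃ b ∈ B, y = ⁅a, b⁆) ∧ W ≤ Z ∧ #W = A.relIndex B ∧
      (Z ⊓ cj g Z) ⊓ W = ⊥ := fun a a1 a2 => by
    let f : B →* G :=
      { toFun := fun v => ⁅a, (v : G)⁆
        map_one' := by simp
        map_mul' := fun v w => by rw [coe_mul, cmul, fx (ZB _ (hq a (gA a1) _ w.2) _ v.2)] }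
    have hk : f.ker = A.subgroupOf B := by
      ext v
      rw [MonoidHom.mem_ker, mem_subgroupOf]
      exact ⟨fun k => by_contra fun c => a2 (key a a1 v v.2 c ((show ⁅a, (v : G)⁆ = 1 from k) ▸ one_mem _)),
        fun k => c1.2 (h.ab.comm (gA a1) k)⟩
    refine ⟨f.range, fun y ⟨v, e⟩ => ⟨v, v.2, e.symm⟩, fun y ⟨v, e⟩ => e ▸ hq a (gA a1) _ v.2, ?_,
      eq_bot_iff.2 fun y ⟨i, v, e⟩ => ?_⟩
    · rw [← Nat.card_congr (QuotientGroup.quotientKerEquivRange f).toEquiv, hk]; rfl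
    · subst e
      exact c1.2 (h.ab.comm (gA a1) (by_contra fun c => a2 (key a a1 v v.2 c i.2)))
  obtain ⟨a0, a1, a2⟩ := SetLike.not_le_iff_exists.1 nz
  have n1 := card_mul_le ZA gA
  have n2 := FT.card_mul_relIndex ZA
  have p1 := card_pos Z
  have p2 := card_pos (Z ⊓ cj g Z : Subgroup G)
  rw [card_cj] at n1
  have n4 : #Z ≤ Z.relIndex A * #(Z ⊓ cj g Z : Subgroup G) := by
    refine Nat.le_of_mul_le_mul_left ?_ p1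
    rwa [← mul_assoc, n2]
  obtain ⟨W, -, w2, w3, w4⟩ := cnt a0 a1 a2
  have n3 := card_mul_le (inf_le_left : Z ⊓ cj g Z ≤ Z) w2
  rw [w4, card_bot, mul_one, w3] at n3
  have n5 : Z.relIndex A = A.relIndex B := hc.antisymm (Nat.le_of_mul_le_mul_left (n3.trans (by rwa [mul_comm])) p2)
  have mu : MulEq Z (cj g Z) A := mulEq_of_card ZA gA (by
    rw [card_cj, ← n2, mul_assoc, n5, mul_comm (A.relIndex B)]; exact Nat.mul_le_mul_left _ n3)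
  refine ⟨g, l2 gL, gM, fun b hb i a ha k => ?_, mu, fun a i1 i2 z hz => ?_, fun e e1 e2 => cE e e1 e2 g gL, n5, nz⟩
  · obtain ⟨z, hz, z', hz', rfl⟩ := mu.mul a ha
    rw [mulc, c1.2 (ZB z hz b hb).symm, mul_one, fx (h.ab.comm (ZA hz) (ZA (hq _ (gA hz') b hb)))] at k
    exact mul_mem hz (key z' hz' b hb i k)
  · obtain ⟨W, w1, w2, w3, w4⟩ := cnt a i1 i2
    obtain ⟨e, he, w, hw, rfl⟩ := (mulEq_of_card (inf_le_left : Z ⊓ cj g Z ≤ Z) w2 (by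
      rwa [w4, card_bot, mul_one, w3, ← n5, mul_comm])).mul z hz
    obtain ⟨b, hb, rfl⟩ := w1 w hw
    exact ⟨e, he, b, hb, rfl⟩

theorem of (hB : B ≤ T) (hn : ¬ B ≤ A) (hZ : Z = A ⊓ C(B)) (hq : ∀ a ∈ A, ∀ b ∈ B, ⁅a, b⁆ ∈ Z)
    (hc : Z.relIndex A ≤ A.relIndex B) : (∀ t ∈ T, ∃ a ∈ A, ∃ b ∈ B, t = a * b) ∧ ∃ g, OF A T M Z g := by
  have BN : B ≤ N(A) := hB.trans h.syl.le
  obtain ⟨g, gN, gM, k1, k2, k3, k4, k5, k6⟩ := h.core hB hn hZ hq hc BN le_rfl h.ne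
  have ZA : Z ≤ A := hZ ▸ inf_le_left
  have ZB : ∀ z ∈ Z, ∀ b ∈ B, b * z = z * b := fun z hz => mem_cen.1 (hZ ▸ hz).2
  have gA : cj g Z ≤ A := (cj_mono g ZA).trans (cj_of_mem_nrm gN).le
  obtain ⟨b0, b1, b2⟩ := SetLike.not_le_iff_exists.1 hn
  obtain ⟨a0, a1, a2⟩ := SetLike.not_le_iff_exists.1 k6
  have w1 := hq a0 (gA a1) b0 b1
  have st : ∀ y ∈ N(A), y ∈ C[⁅a0, b0⁆] → y ∈ M := fun y hy c => by_contra fun k => by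
    obtain ⟨x, x1, -, x2, -⟩ := h.core hB hn hZ hq hc (K := N(A) ⊓ C[⁅a0, b0⁆])
      (le_inf BN fun b hb => mem_cen1.2 (ZB _ w1 b hb)) inf_le_left fun i => k (i ⟨hy, c⟩)
    exact a2 (x2 b0 b1 b2 a0 (gA a1) (by rw [← fx (mem_cen1.1 x1.2)]; exact conj_mem_cj.2 w1))
  have or : ∀ y ∈ N(A), y * ⁅a0, b0⁆ * y⁻¹ ∈ Z → y ∈ M := fun y hy c => by_contra fun k =>
    h.ti' hy k (hB b1) b2 (st _ (mul_mem (mul_mem (inv_mem hy) (BN b1)) hy) (mem_cen1.2 (by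
      have := ZB _ c b0 b1
      calc y⁻¹ * b0 * y * ⁅a0, b0⁆ = y⁻¹ * (b0 * (y * ⁅a0, b0⁆ * y⁻¹)) * y := by group
        _ = _ := by rw [this]; group)))
  have dc : ∀ y ∈ N(A), y ∈ M ∨ ∃ t ∈ B, g⁻¹ * t * y ∈ M := fun y hy => by
    obtain ⟨z, hz, z', hz', e⟩ := k2.mul _ (conj_mem hy (ZA w1))
    by_cases c : z' ∈ Z
    · exact .inl (or y hy (e ▸ mul_mem hz c))
    obtain ⟨e', he, b, hb, i⟩ := k3 z' hz' c _ (inv_mem hz)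
    refine .inr ⟨b⁻¹, inv_mem hb, or _ (mul_mem (mul_mem (inv_mem gN) (inv_mem (BN hb))) hy) ?_⟩
    have : g⁻¹ * b⁻¹ * y * ⁅a0, b0⁆ * (g⁻¹ * b⁻¹ * y)⁻¹ = g⁻¹ * (z' * e'⁻¹) * g := by
      have i1 := h.ab.comm (ZA (inv_mem he.1)) (gA hz')
      have i2 := ZB _ (inv_mem he.1) b hb
      calc _ = g⁻¹ * (b⁻¹ * (y * ⁅a0, b0⁆ * y⁻¹) * b) * g := by group
        _ = g⁻¹ * (b⁻¹ * (b * z' * b⁻¹ * z'⁻¹ * (e'⁻¹ * z')) * b) * g := by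
          rw [e, ← inv_inv z, i, commutatorElement_def]; group
        _ = g⁻¹ * (z' * b⁻¹ * (e'⁻¹ * b)) * g := by rw [i1]; group
        _ = _ := by rw [← i2]; group
    rw [this]
    exact mem_cj.1 (mul_mem hz' (inv_mem he.2))
  have TB : ∀ t ∈ T, ∃ a ∈ A, ∃ b ∈ B, t = a * b := fun t ht => by
    obtain i | ⟨b, hb, i⟩ := dc (t * g) (mul_mem (h.syl.le ht) gN)
    · exact (gM ((mul_mem_cancel_left (h.TM ht)).1 i)).elim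
    have : b * t ∈ A := by_contra fun c => h.ti' gN gM (mul_mem (hB hb) ht) c (by simpa only [mul_assoc] using i)
    exact ⟨_, conj_mem' (BN hb) this, b⁻¹, inv_mem hb, by group⟩
  have ab : ∀ a ∈ A, ∀ a' ∈ A, ∀ b ∈ B, ⁅a, a' * b⁆ = ⁅a, b⁆ := fun a ha a' ha' b hb => by
    rw [cmul, c1.2 (h.ab.comm ha ha'), one_mul, fx (h.ab.comm ha' (ZA (hq a ha b hb)))]
  have s2 : ∀ a ∈ A, ∀ b ∈ B, ⁅a * a, b⁆ = ⁅a, b⁆ * ⁅a, b⁆ := fun a ha b hb => by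
    rw [mulc, fx (h.ab.comm ha (ZA (hq a ha b hb)))]
  have s1 : ∀ a ∈ A, a * a ∈ Z := fun a ha => by
    obtain ⟨b, c1', c2, c3, -⟩ := xm (h.syl.pi.mono hB) le_rfl (le_nrm B) hn
    refine k1 b c1' c2 _ (mul_mem ha ha) ?_
    rw [s2 a ha b c1', ← fx (ZB _ (hq a ha b c1') b c1'), ← mul_assoc, ← mul_assoc, fx (ZB _ (hq a ha b c1') b c1'),
      show ⁅a, b⁆ * b * ⁅a, b⁆ * b⁻¹ = ⁅a, b * b⁆ by rw [cmul]; group, c1.2 (h.ab.comm ha c3)]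
    exact one_mem _
  refine ⟨TB, g, fun z => ⟨fun k => ⟨ZA k, mem_cen.2 fun t ht => ?_⟩, fun k => hZ ▸ ⟨k.1, cen_anti hB k.2⟩⟩, gN, gM,
    fun a ha t ht => ?_, fun t ht i a ha k => ?_, fun a ha => ⟨s1 a ha, mem_cj.2 ?_⟩, fun a ha => ?_, k4, ?_,
    fun y hy => (dc y hy).imp_right fun ⟨t, i, j⟩ => ⟨t, hB i, j⟩⟩
  · obtain ⟨a, ha, b, hb, rfl⟩ := TB t ht
    rw [mul_assoc, ZB z k b hb, ← mul_assoc, h.ab.comm ha (ZA k), mul_assoc]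
  · obtain ⟨a', ha', b, hb, rfl⟩ := TB t ht
    rw [ab a ha a' ha' b hb]; exact hq a ha b hb
  · obtain ⟨a', ha', b, hb, rfl⟩ := TB t ht
    rw [ab a ha a' ha' b hb] at k
    exact k1 b hb (fun c => i (mul_mem ha' c)) a ha k
  · convert s1 _ (conj_mem' gN ha) using 1; group
  · obtain ⟨z, hz, z', hz', rfl⟩ := k2.mul a ha
    obtain ⟨e, he, b, hb, i⟩ := k3 a0 a1 a2 _ (mem_cj.1 hz')
    refine ⟨z * e, mul_mem hz he.1, g * ⁅a0, b⁆ * g⁻¹, gA (conj_mem_cj.2 (hq _ (gA a1) b hb)), ?_, ?_⟩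
    · rw [conj_mul, ← s2 _ (gA a1) b hb, c1.2 (ZB _ (s1 _ (gA a1)) b hb).symm]; group
    · rw [← fx (k4 e he.1 he.2), mul_assoc, conj_mul, ← i]; group
  · rw [k5, ← relIndex_sup_norm BN]
    congr 1
    exact le_antisymm (sup_le h.AT hB) fun t ht => let ⟨a, ha, b, hb, e⟩ := TB t ht
      e ▸ mul_mem (mem_sup_left ha) (mem_sup_right hb)

/-- transvections -/
theorem tv (ht : t ∈ T) (h1 : t ∉ A) (h2 : C[t].relIndex A ≤ 2) : ∃ g, OF A T M (A ⊓ C[t]) g ∧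
    (A ⊓ C[t]).relIndex A = 2 := by
  have tN := h.syl.le ht
  have i1 : (A ⊓ C[t]).relIndex A = 2 := by
    rw [inf_relIndex_left]
    exact h2.antisymm (one_lt_relIndex fun c => h1 (h.sc ⟨ht, mem_cen.2 fun a ha => mem_cen1.1 (c ha)⟩))
  have hn : ¬ ⟪t⟫ ≤ A := fun c => h1 (c (mem_zpowers t))
  refine (h.of (Z := A ⊓ C[t]) (zpowers_le.2 ht) hn (by rw [cen_zpowers]) (fun a ha b hb => ?_)
    (i1.le.trans (one_lt_relIndex hn))).2.imp fun g k => ⟨k, i1⟩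
  have bc : ∀ x ∈ A ⊓ C[t], b * x = x * b := fun x hx => mem_cen.1 ((cen_zpowers t).ge hx.2) b hb
  by_cases c : a ∈ A ⊓ C[t]
  · rw [c1.2 (bc a c).symm]; exact one_mem _
  have := H3.mul_mem_of_relIndex_two i1 ha (conj_mem (zpowers_le.2 tN hb) (inv_mem ha)) c fun k => c (by
    have := bc _ k
    rw [inv_mul_cancel_right, mul_assoc b, mul_right_inj] at this
    have e : a⁻¹ = b * a⁻¹ * b⁻¹ := by rw [mul_assoc]; exact this.symm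
    exact inv_mem_iff.1 (e ▸ k))
  simpa only [commutatorElement_def, mul_assoc] using this

end TA

end Ai

end Cfsg.Agent.GO
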