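import Cfsg.Agent.GO.Ai1

/-! Groups with abelian intersections of Sylow 2-subgroups, II: fusion. -/

set_option autoImplicit false
set_option linter.unusedSectionVars false
set_option linter.unusedVariables false
set_option linter.style.haveILetI false

namespace Cfsg.Agent.GO

open Cfsg Subgroup Cfsg.Agent.FT Cfsg.Agent.GW
open scoped commutatorElement

universe u

variable {G : Type u} [Group G] [Finite G] {p : ℕ}
  {A B D E H J K L M P Q R S T U V W X Y Z : Subgroup G} {a b c d e g j m n r s t v w x y z : G}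

namespace Ai

/-- a non-abelian subgroup of `S` lies in no other Sylow `2`-subgroup -/
structure AI (S : Subgroup G) : Prop where
  syl : Syl 2 S ⊤
  uq : ∀ D ≤ S, ¬ Ab D → ∀ g, cj g D ≤ S → g ∈ N(S)
  nab : ¬ Ab S

/-- maximal abelian subgroups -/
structure MA (S A : Subgroup G) : Prop where
  le : A ≤ S
  ab : Ab A
  sc : S ⊓ C(A) ≤ A

/-- `C(A) (N(A) ∩ N(S))` -/
def MM (S A : Subgroup G) : Subgroup G where
  carrier := {g | g ∈ N(A) ∧ ∃ c ∈ C(A), g * c ∈ N(S)}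
  one_mem' := ⟨one_mem _, 1, one_mem _, by simp⟩
  mul_mem' := fun {x y} ⟨h1, c, h2, h3⟩ ⟨k1, d, k2, k3⟩ => ⟨mul_mem h1 k1, y⁻¹ * c * y * d,
    mul_mem (conj_mem' (norms_cent le_rfl k1) h2) k2, by convert mul_mem h3 k3 using 1; group⟩
  inv_mem' := fun {x} ⟨h1, c, h2, h3⟩ => ⟨inv_mem h1, x * c⁻¹ * x⁻¹, conj_mem (norms_cent le_rfl h1) (inv_mem h2),
    by convert inv_mem h3 using 1; group⟩

theorem mm_of (h1 : g ∈ N(A)) (h2 : g ∈ N(S)) : g ∈ MM S A := ⟨h1, 1, one_mem _, by rwa [mul_one]⟩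

theorem mm_act (h : g ∈ MM S A) : ∃ m ∈ N(S), m ∈ N(A) ∧ ∀ a ∈ A, g * a * g⁻¹ = m * a * m⁻¹ :=
  let ⟨h1, c, h2, h3⟩ := h
  ⟨g * c, h3, mul_mem h1 (cen_le_nrm _ h2), fun a ha => by
    rw [mul_assoc g c, ← mem_cen.1 h2 a ha]; group⟩

/-- essential subgroups -/
structure EE (S A : Subgroup G) : Prop extends MA S A where
  ne : ¬ N(A) ≤ MM S A

theorem MA.eq (hA : MA S A) (hB : MA S B) (h : A ≤ B) : A = B :=
  h.antisymm fun x hx => hA.sc ⟨hB.le hx, hB.ab.cents h le_rfl hx⟩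

theorem MA.cj (hA : MA S A) (hm : m ∈ N(S)) : MA S (FT.cj m A) :=
  ⟨(cj_mono m hA.le).trans (cj_of_mem_nrm hm).le, hA.ab.cj m, by
    have := cj_mono m hA.sc
    rwa [cj_inf, cj_cen, cj_of_mem_nrm hm] at this⟩

theorem EE.cj (hA : EE S A) (hm : m ∈ N(S)) : EE S (FT.cj m A) := ⟨hA.toMA.cj hm, fun k => hA.ne fun g hg => by
  obtain ⟨-, c, h2, h3⟩ := k (x := m * g * m⁻¹) (by rw [← cj_nrm]; exact conj_mem_cj.2 hg)
  rw [← cj_cen] at h2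
  exact ⟨hg, _, mem_cj.1 h2, by convert mul_mem (mul_mem (inv_mem hm) h3) hm using 1; group⟩⟩

theorem MA.nab (hA : MA S A) (ht : t ∈ S) (h1 : t ∉ A) (h2 : A ≤ P) (h3 : t ∈ P) : ¬ Ab P := fun c =>
  h1 (hA.sc ⟨ht, c.cents h2 le_rfl h3⟩)

namespace AI

variable (h : AI S)
include h

theorem pS : PGrp 2 S := h.syl.pi

theorem up (hP : P ≤ S) (h1 : A ≤ P) (h2 : ¬ P ≤ A) : ∃ t ∈ P, t ∈ N(A) ∧ t ∉ A :=
  let ⟨t, i, j⟩ := SetLike.exists_of_lt ((h.pS.mono hP).lt_subnorm (lt_of_le_not_ge h1 h2)); ⟨t, i.1, i.2, j⟩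

theorem nabT (hA : MA S A) : ¬ Ab (S ⊓ N(A)) :=
  let ⟨_, i, j, k⟩ := h.up le_rfl hA.le fun c => h.nab (hA.ab.mono c)
  hA.nab i k (le_inf hA.le (le_nrm A)) ⟨i, j⟩

theorem le (hD : D ≤ S) (hn : ¬ Ab D) (hP : PGrp 2 P) (h1 : D ≤ P) : P ≤ S := by
  obtain ⟨g, -, e⟩ := h.syl.syl_Jsub hP le_top
  have k := h.uq D hD hn g ((cj_mono g h1).trans e)
  rwa [cj_le_iff, cj_of_mem_nrm (inv_mem k)] at e

theorem sylT (hA : MA S A) (h1 : S ⊓ N(A) ≤ K) (h2 : K ≤ N(A)) : Syl 2 (S ⊓ N(A)) K := by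
  obtain ⟨P, hP, e⟩ := (h.pS.mono (inf_le_left : S ⊓ N(A) ≤ S)).exists_syl h1
  rwa [e.antisymm (le_inf (h.le inf_le_left (h.nabT hA) hP.pi e) (hP.le.trans h2))]

theorem ta (hA : EE S A) : TA A (S ⊓ N(A)) (MM S A) := by
  have TM : S ⊓ N(A) ≤ MM S A := fun t ht => mm_of ht.2 (le_nrm S ht.1)
  refine ⟨hA.ab, h.sylT hA.toMA inf_le_right le_rfl, le_inf hA.le (le_nrm A), (inf_le_inf_right _ inf_le_left).trans hA.sc,
    TM, fun c hc => ⟨cen_le_nrm _ hc, c⁻¹, inv_mem hc, by simp⟩, hA.ne, fun g hg t ht h1 h2 => ?_⟩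
  have l : A ⊔ ⟪t⟫ ≤ S := sup_le hA.le (zpowers_le.2 ht.1)
  obtain ⟨m, hm, e⟩ := (h.sylT hA.toMA TM fun _ k => k.1).syl_Jsub ((h.pS.mono l).cj g) (by
    rw [cj_sup, cj_of_mem_nrm hg, cj_zpowers]
    exact sup_le ((le_inf hA.le (le_nrm A)).trans TM) (zpowers_le.2 h2))
  rw [cj_cj] at e
  exact (mul_mem_cancel_left hm).1 (mm_of (mul_mem hm.1 hg) (h.uq _ l
    (hA.nab ht.1 h1 le_sup_left (mem_sup_right (mem_zpowers t))) _ (e.trans inf_le_left)))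

theorem fus (R : G → G → Prop) (sy : ∀ {x y}, R x y → R y x) (tr : ∀ {x y z}, R x y → R y z → R x z)
    (hm : ∀ m ∈ N(S), ∀ x ∈ S, R x (m * x * m⁻¹)) (hD : ∀ D, EE S D → ∀ n ∈ N(D), ∀ x ∈ D, R x (n * x * n⁻¹))
    (hx : x ∈ S) (hg : g * x * g⁻¹ ∈ S) : R x (g * x * g⁻¹) := by
  have ch : ∀ y, Syl 2 (S ⊓ C[y]) C[y] → ∀ x ∈ S, ∀ g, g * x * g⁻¹ = y → R x y := fun y hy x hx g e => by
    obtain ⟨c, hc, i⟩ := hy.syl_Jsub ((h.pS.mono (inf_le_left : S ⊓ C[x] ≤ S)).cj g) (by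
      rw [← e, ← cj_cen1]; exact cj_mono g inf_le_right)
    rw [cj_cj] at i
    have e' : c * g * x * (c * g)⁻¹ = y := by rw [← fx (mem_cen1.1 hc), ← e]; group
    generalize c * g = g at i e'
    subst e'
    by_cases k : Ab (S ⊓ C[x])
    swap
    · exact hm g (h.uq _ inf_le_left k g (i.trans inf_le_left)) x hx
    have xD : x ∈ S ⊓ C[x] := ⟨hx, self_mem_cen1 x⟩
    have hA : MA S (S ⊓ C[x]) := ⟨inf_le_left, k, inf_le_inf_left _ (cen_le_cen1 xD)⟩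
    generalize S ⊓ C[x] = D at *
    obtain ⟨n, hn, j⟩ := (h.sylT hA inf_le_right le_rfl).syl_Jsub
      ((h.pS.mono (inf_le_left : S ⊓ N(cj g D) ≤ S)).cj g⁻¹) (by rw [cj_le_iff, inv_inv, cj_nrm]; exact inf_le_right)
    rw [cj_cj] at j
    have hB : MA S (cj g D) := ⟨i.trans inf_le_left, k.cj g, fun z hz => by
      have := hA.sc (x := n * g⁻¹ * z * (n * g⁻¹)⁻¹) ⟨(j (conj_mem_cj.2 ⟨hz.1, cen_le_nrm _ hz.2⟩)).1, by
        have : z ∈ cj g C(D) := by rw [cj_cen]; exact hz.2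
        rw [show n * g⁻¹ * z * (n * g⁻¹)⁻¹ = n * (g⁻¹ * z * g) * n⁻¹ by group]
        exact conj_mem (norms_cent le_rfl hn) (mem_cj.1 this)⟩
      exact mem_cj.2 (by convert conj_mem' hn this using 1; group)⟩
    have hm' := inv_mem (h.uq _ inf_le_left (h.nabT hB) _ (j.trans inf_le_left))
    have r := hm _ hm' _ (hA.le (conj_mem hn xD))
    rw [show (n * g⁻¹)⁻¹ * (n * x * n⁻¹) * (n * g⁻¹)⁻¹⁻¹ = g * x * g⁻¹ by group] at r
    refine tr ?_ r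
    by_cases c : N(D) ≤ MM S D
    · obtain ⟨m, m1, -, m2⟩ := mm_act (c hn)
      exact m2 x xD ▸ hm m m1 x hx
    · exact hD D ⟨hA, c⟩ n hn x xD
  obtain ⟨P, hP, e⟩ := (h.pS.piElt hx).zpowers.exists_syl (zpowers_le_cen1 x)
  obtain ⟨u, -, i⟩ := h.syl.syl_Jsub hP.pi le_top
  have k := hP.cj u
  rw [cj_cen1] at k
  rw [← k.max (h.pS.mono inf_le_left) (le_inf i k.le) inf_le_right] at k
  exact tr (ch _ k x hx u rfl) (sy (ch _ k _ hg (u * g⁻¹) (by group)))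

theorem fus' (R : G → G → Prop) (tr : ∀ {x y z}, R x y → R y z → R x z)
    (hm : ∀ m ∈ N(S), ∀ x ∈ S, R x (m * x * m⁻¹)) (hD : MA S D) (k : OF D (S ⊓ N(D)) (MM S D) Z g)
    (hg : ∀ x ∈ D, R x (g * x * g⁻¹)) (hn : n ∈ N(D)) (hx : x ∈ D) : R x (n * x * n⁻¹) := by
  have a : ∀ n ∈ MM S D, R x (n * x * n⁻¹) := fun n hn => by
    obtain ⟨m, m1, -, m2⟩ := mm_act hn
    exact m2 x hx ▸ hm m m1 x (hD.le hx)
  obtain c | ⟨t, ht, c⟩ := k.dc n hn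
  · exact a n c
  have i := conj_mem c.1 hx
  convert tr (tr (a _ c) (hg _ i)) (hm t⁻¹ (inv_mem (le_nrm S ht.1)) _ (hD.le (conj_mem k.gN i))) using 1
  group

theorem foc (hG : _root_.commutator G = ⊤) (hm : ∀ m ∈ N(S), ∀ x ∈ S, x⁻¹ * (m * x * m⁻¹) ∈ K)
    (hD : ∀ D, EE S D → ∀ n ∈ N(D), ∀ x ∈ D, x⁻¹ * (n * x * n⁻¹) ∈ K) : S ≤ K := by
  haveI : Fact (Nat.Prime 2) := ⟨Nat.prime_two⟩
  have f := fun x g => h.fus (x := x) (g := g) (fun x y => x⁻¹ * y ∈ K) (fun k => by simpa using inv_mem k)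
    (fun k l => by convert mul_mem k l using 1; group) hm hD
  obtain ⟨T, rfl⟩ := (syl_top_iff Nat.prime_two).1 h.syl
  have h2 := commutator_inf_eq_focalSubgroup T
  rw [hG, top_inf_eq] at h2
  rw [h2, focalSubgroup_def, closure_le]
  generalize (T : Subgroup G) = P at *
  rintro _ ⟨h3, x, hx, g, rfl⟩
  have hy : g * x⁻¹ * g⁻¹ ∈ P := by
    rwa [commutatorElement_def, mul_assoc x, mul_assoc x, Subgroup.mul_mem_cancel_left _ hx] at h3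
  rw [SetLike.mem_coe]
  convert f _ g (inv_mem hx) hy using 1
  rw [commutatorElement_def]; group

theorem cl2 [IsSimpleGroup G] (nab : ¬ IsMulCommutative G) (h1 : B ≠ ⊥) (h2 : Ab B) (h3 : B ≤ S) (h4 : N(S) ≤ N(B))
    (hD : ∀ D, EE S D → ∀ n ∈ N(D), ∀ x ∈ D, x ∈ B → n * x * n⁻¹ ∈ B) : ⁅S, S⁆ ≤ C(S) := by
  have : IsStronglyClosed B S := ⟨h3, fun x hx g hg => (h.fus (fun x y => x ∈ B ↔ y ∈ B) Iff.symm Iff.trans
    (fun m hm x _ => mem_normalizer_iff.1 (h4 hm) x) (fun D k n hn x hx => ⟨hD D k n hn x hx, fun c => by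
      simpa [mul_assoc] using hD D k _ (inv_mem hn) _ (conj_mem hn hx) c⟩) (h3 hx) hg).1 hx⟩
  rcases gs_simple fs nab h.syl h2 this h1 with k | k | k
  · obtain ⟨Z, R, f⟩ := k.top.frame h.syl
    exact (k.top.der (as_top nab) f).trans f.cen
  · exact (h.nab (k.top.el h.syl).ab).elim
  · exact (h.nab (k.top.el h.syl).1.ab).elim

theorem pair (hA : EE S A) (hB : MA S B) (h1 : A ≠ B) (h2 : B ≤ N(A)) (h3 : A ≤ N(B)) (h4 : #A ≤ #B) :
    (∀ t ∈ S ⊓ N(A), ∃ a ∈ A, ∃ b ∈ B, t = a * b) ∧ ∃ g, OF A (S ⊓ N(A)) (MM S A) (A ⊓ B) g := by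
  refine (h.ta hA).of (le_inf hB.le h2) (fun c => h1 (hB.eq hA.toMA c).symm) (le_antisymm (inf_le_inf_left _ hB.ab.le_cen)
    fun x hx => ⟨hx.1, hB.sc ⟨hA.le hx.1, hx.2⟩⟩) (fun a ha b hb => ⟨cA (h2 hb) ha, ?_⟩) ?_
  · rw [← commutatorElement_inv]; exact B.inv_mem (cA (h3 ha) hb)
  · refine Nat.le_of_mul_le_mul_left ?_ (card_pos (A ⊓ B : Subgroup G))
    rwa [card_inf_mul_relIndex, FT.card_mul_relIndex inf_le_left]

/-- all essential subgroups are normal -/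
theorem nrm [IsSimpleGroup G] (nab : ¬ IsMulCommutative G) (k : ∀ A, EE S A → S ≤ N(A)) : ⁅S, S⁆ ≤ C(S) := by
  by_cases c : ∃ A, EE S A
  swap
  · exact h.cl2 nab (h.pS.center_ne_bot (syl_ne nab h.syl)) (ab_iff.2 (center_le_cen inf_le_left)) inf_le_left (norms_center le_rfl)
      fun D i => (c ⟨D, i⟩).elim
  obtain ⟨A, hA, mn⟩ := exists_min_fun (EE S) (fun A => #A) c.choose_spec
  by_cases c : ∀ B, EE S B → B = A
  · refine h.cl2 nab (fun e => h.nab (hA.ab.mono (le_trans (by rw [e, cen_bot, inf_top_eq]) hA.sc))) hA.ab hA.le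
      (fun m hm => cj_eq_self.1 (c _ (hA.cj hm))) fun D i n hn x hx _ => c D i ▸ conj_mem hn hx
  push Not at c
  obtain ⟨B, hB, c⟩ := c
  obtain ⟨-, g, o⟩ := h.pair hA hB.toMA c.symm (hB.le.trans (k A hA)) (hA.le.trans (k B hB)) (mn B hB)
  obtain ⟨d, -⟩ := h.pair hA hB.toMA c.symm (hB.le.trans (k A hA)) (hA.le.trans (k B hB)) (mn B hB)
  rw [inf_eq_left.2 (k A hA)] at o d
  have q : ∀ a ∈ A, ∀ t ∈ S, ⁅a, t⁆ ∈ C(S) := fun a ha t ht => ((o.mem _).1 (o.qd a ha t ht)).2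
  have n : S ≤ N(C(S)) := norms_cent (le_nrm S)
  refine commutator_le.2 fun x hx y hy => ?_
  obtain ⟨a, ha, b, hb, rfl⟩ := d x hx
  rw [mulc]
  refine mul_mem (conj_mem (n (hA.le ha)) ?_) (q a ha y hy)
  obtain ⟨a', ha', b', hb', rfl⟩ := d y hy
  rw [cmul, c1.2 (hB.ab.comm hb hb'), mul_one, mul_inv_cancel, mul_one, ← commutatorElement_inv]
  exact inv_mem (q a' ha' b (hB.le hb))

end AI

end Ai

end Cfsg.Agent.GO
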