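import Cfsg.Agent.GO.Ai2

/-! Groups with abelian intersections of Sylow 2-subgroups, III: a non-normal essential subgroup. -/

set_option autoImplicit false
set_option linter.unusedSectionVars false
set_option linter.unusedVariables false
set_option linter.style.haveILetI false

namespace Cfsg.Agent.GO

open Cfsg Subgroup Cfsg.Agent.FT Cfsg.Agent.GW
open scoped commutatorElement

universe u

variable {G : Type u} [Group G] [Finite G] {p : ℕ}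
  {A B D E H J K L M P Q R S T U V W X Y Z : Subgroup G} {a b c d e g j m n r s t u v w x y z : G}

namespace Ai

theorem idx2 (h : ∀ x ∈ D, ∀ y ∈ D, x ∉ H → y ∉ H → x * y ∈ H) : H.relIndex D ≤ 2 := by
  by_cases c : D ≤ H
  · rw [relIndex_eq_one.2 c]; exact one_le_two
  obtain ⟨a, ha, k⟩ := SetLike.not_le_iff_exists.1 c
  refine (relIndex_eq_two_iff.2 ⟨a, ha, fun b hb => ?_⟩).le
  by_cases i : b ∈ H
  · exact .inr ⟨i, fun j => k ((mul_mem_cancel_left i).1 j)⟩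
  · exact .inl ⟨h b hb a ha i k, i⟩

theorem OF.c2 (o : OF A T M Z g) (hA : Ab A) (ha : a ∈ A) (ht : t ∈ T) : ⁅a, t⁆ * ⁅a, t⁆ = 1 := by
  have := mulc t a a
  rw [fx (hA.comm ha ((o.mem _).1 (o.qd a ha t ht)).1)] at this
  rw [← this, c1]
  exact (mem_cen.1 ((o.mem _).1 (o.sq a ha).1).2 t ht).symm

/-- a non-normal essential subgroup and its conjugate -/
structure PR (S A B T Z : Subgroup G) (s g : G) : Prop where
  ai : AI S
  hA : EE S A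
  sS : s ∈ S
  sT : s ∈ N(T)
  ns : s ∉ T
  eB : B = cj s A
  eT : T = S ⊓ N(A)
  eZ : Z = A ⊓ B
  o : OF A T (MM S A) Z g
  dec : ∀ t ∈ T, ∃ a ∈ A, ∃ b ∈ B, t = a * b

theorem AI.pr (h : AI S) (hA : EE S A) (hn : ¬ S ≤ N(A)) : ∃ B T Z s g, PR S A B T Z s g := by
  obtain ⟨s, s1, s2, s3⟩ := h.up le_rfl (inf_le_left : S ⊓ N(A) ≤ S) fun c => hn (c.trans inf_le_right)
  have AT : A ≤ S ⊓ N(A) := le_inf hA.le (le_nrm A)
  have e := cj_of_mem_nrm s2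
  obtain ⟨d, g, o⟩ := h.pair hA (hA.toMA.cj (le_nrm S s1)) (fun c => s3 ⟨s1, cj_eq_self.1 c.symm⟩)
    (((cj_mono s AT).trans e.le).trans inf_le_right)
    (AT.trans (e.ge.trans (by rw [← cj_nrm]; exact cj_mono s inf_le_right))) (card_cj s A).ge
  exact ⟨_, _, _, s, g, h, hA, s1, s2, s3, rfl, rfl, rfl, o, d⟩

namespace PR

variable (h : PR S A B T Z s g)
include h

theorem hB : EE S B := h.eB ▸ h.hA.cj (le_nrm S h.sS)
theorem TS : T ≤ S := h.eT ▸ inf_le_left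
theorem TN : T ≤ N(A) := h.eT ▸ inf_le_right
theorem AT : A ≤ T := h.eT ▸ le_inf h.hA.le (le_nrm A)
theorem BT : B ≤ T := h.eB ▸ (cj_mono s h.AT).trans (cj_of_mem_nrm h.sT).le
theorem ZA : Z ≤ A := h.eZ ▸ inf_le_left
theorem ZB : Z ≤ B := h.eZ ▸ inf_le_right
theorem mZ (ha : x ∈ A) (hb : x ∈ B) : x ∈ Z := h.eZ ▸ ⟨ha, hb⟩
theorem zc (hz : z ∈ Z) (ht : t ∈ T) : t * z = z * t := mem_cen.1 ((h.o.mem z).1 hz).2 t ht
theorem nab : ¬ Ab T := h.eT ▸ h.ai.nabT h.hA.toMA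
theorem ne : A ≠ B := fun c => h.ns (h.eT ▸ ⟨h.sS, cj_eq_self.1 (h.eB.symm.trans c.symm)⟩)

theorem nZ : N(T) ≤ N(Z) := by
  have : Z = Z(T) := le_antisymm (fun z hz => ⟨h.AT (h.ZA hz), ((h.o.mem z).1 hz).2⟩)
    fun z hz => (h.o.mem z).2 ⟨h.hA.sc ⟨h.TS hz.1, cen_anti h.AT hz.2⟩, hz.2⟩
  rw [this]; exact norms_center le_rfl

theorem cenA (ha : a ∈ A) (h1 : a ∉ Z) (ht : t ∈ T) (e : a * t = t * a) : t ∈ A :=
  by_contra fun c => h1 (h.o.ce t ht c a ha (c1.2 e ▸ one_mem _))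

theorem cenB (hb : b ∈ B) (h1 : b ∉ Z) (ht : t ∈ T) (e : b * t = t * b) : t ∈ B := by
  rw [h.eB, mem_cj] at hb ⊢
  refine h.cenA hb (fun c => h1 (by simpa [mul_assoc] using conj_mem (h.nZ h.sT) c)) (conj_mem' h.sT ht) ?_
  calc _ = s⁻¹ * (b * t) * s := by group
    _ = _ := by rw [e]; group

theorem sqB (hb : b ∈ B) : b * b ∈ Z ∧ b * b ∈ cj g Z := by
  obtain ⟨a, ha, rfl⟩ := mem_cj'.1 (h.eB ▸ hb)
  obtain ⟨z, hz, i, hi, e, rfl⟩ := h.o.inv a ha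
  have k := conj_mem (h.nZ h.sT) hz
  have : s * (z * i) * s⁻¹ * (s * (z * i) * s⁻¹) = s * z * s⁻¹ * (s * z * s⁻¹) := by
    rw [conj_mul, conj_mul, mul_assoc z, ← mul_assoc i, h.zc hz (h.AT hi), mul_assoc z i, e, mul_one]
  rw [this]
  exact h.o.sq _ (h.ZA k)

theorem invo (ht : t ∈ T) (e : t * t = 1) : t ∈ A ∨ t ∈ B := by
  obtain ⟨a, ha, b, hb, rfl⟩ := h.dec t ht
  by_cases c : b ∈ A
  · exact .inl (mul_mem ha c)
  refine .inr (mul_mem (h.ZB (h.o.ce b (h.BT hb) c a ha ?_)) hb)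
  have i := h.zc (h.o.sq a ha).1 (h.BT (inv_mem hb))
  have : ⁅a, b⁆ * (a * a * (b * b)) = 1 := by
    rw [← e, commutatorElement_def]
    calc _ = a * b * a⁻¹ * (b⁻¹ * (a * a)) * (b * b) := by group
      _ = _ := by rw [i]; group
  rw [eq_inv_of_mul_eq_one_left this]
  exact inv_mem (mul_mem (h.o.sq a ha).2 (h.sqB hb).2)

theorem der (hx : x ∈ T) (hy : y ∈ T) : ⁅x, y⁆ ∈ Z := by
  obtain ⟨a, ha, b, hb, rfl⟩ := h.dec x hx
  rw [mulc]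
  refine mul_mem (conj_mem (h.nZ (le_nrm T (h.AT ha))) ?_) (h.o.qd a ha y hy)
  obtain ⟨a', ha', b', hb', rfl⟩ := h.dec y hy
  rw [cmul, c1.2 (h.hB.ab.comm hb hb'), mul_one, mul_inv_cancel, mul_one, ← commutatorElement_inv]
  exact inv_mem (h.o.qd a' ha' b (h.BT hb))

theorem two (hD : EE S D) (h1 : D ≤ T) : D = A ∨ D = B := by
  by_contra c
  rw [not_or] at c
  obtain ⟨t, t1, t2, t3⟩ := h.ai.up h.TS h1 fun k => h.nab (hD.ab.mono k)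
  refine (h.ai.ta hD).not_cen ⟨h.TS t1, t2⟩ t3 (centsC (Ohm_le_iff.2 fun x hx e => mem_cen.2 fun y hy => h.zc ?_ hy) t1)
  by_contra k
  rcases h.invo (h1 hx) (sq x ▸ e) with i | i
  · exact c.1 (hD.toMA.eq h.hA.toMA fun y hy => h.cenA i k (h1 hy) (hD.ab.comm hx hy))
  · exact c.2 (hD.toMA.eq h.hB.toMA fun y hy => h.cenB i k (h1 hy) (hD.ab.comm hx hy))

theorem swA (hx : x ∈ S ⊓ N(T)) (h1 : x ∉ T) : cj x A = B :=
  (h.two (h.hA.cj (le_nrm S hx.1)) ((cj_mono x h.AT).trans (cj_of_mem_nrm hx.2).le)).resolve_left fun c =>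
    h1 (h.eT ▸ ⟨hx.1, cj_eq_self.1 c⟩)

theorem swB (hx : x ∈ S ⊓ N(T)) (h1 : x ∉ T) : cj x B = A :=
  (h.two (h.hB.cj (le_nrm S hx.1)) ((cj_mono x h.BT).trans (cj_of_mem_nrm hx.2).le)).resolve_right fun c =>
    h.ne (cj_eq_cj.1 ((h.swA hx h1).trans c.symm))

theorem mul (hx : x ∈ S ⊓ N(T)) (h1 : x ∉ T) (hy : y ∈ S ⊓ N(T)) (h2 : y ∉ T) : x * y ∈ T :=
  h.eT ▸ ⟨mul_mem hx.1 hy.1, cj_eq_self.1 (by rw [← cj_cj, h.swA hy h2, h.swB hx h1])⟩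

theorem imp (ha : a ∈ A) (hb : b ∈ A) (a1 : a ∉ Z) (b1 : b ∉ Z) (ab : a * b ∉ Z) (hD : EE S D) (h1 : D ≤ S ⊓ N(T)) :
    D ≤ T := by
  by_contra h2
  have T1 : T ≤ S ⊓ N(T) := le_inf h.TS (le_nrm T)
  have ta := h.ai.ta hD
  have inZ : ∀ x ∈ D, x ∉ T → ∀ i ∈ D, i ∈ A ∨ i ∈ B → i ∈ Z := fun x hx k i hi e => by
    have f := fx (hD.ab.comm hx hi)
    rcases e with e | e
    · exact h.mZ e (h.swA (h1 hx) k ▸ f ▸ conj_mem_cj.2 e)
    · exact h.mZ (h.swB (h1 hx) k ▸ f ▸ conj_mem_cj.2 e) e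
  have fxc : ∀ x ∈ D, x ∉ T → ∀ z ∈ Z, x * z = z * x → ∀ y ∈ S ⊓ N(T), y * z = z * y := fun x hx k z hz e y hy => by
    by_cases c : y ∈ T
    · exact h.zc hz c
    have := h.zc hz (h.mul hy c (h1 hx) k)
    rwa [mul_assoc, e, ← mul_assoc, ← mul_assoc, mul_left_inj] at this
  obtain ⟨x, hx, xT, x2⟩ : ∃ x ∈ D, x ∉ T ∧ x * x = 1 := by
    by_contra c
    push Not at c
    obtain ⟨x, hx, xT⟩ := SetLike.not_le_iff_exists.1 h2
    obtain ⟨t, t1, t2, t3⟩ := h.ai.up inf_le_left h1 fun k => h.nab (hD.ab.mono (T1.trans k))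
    refine ta.not_cen ⟨t1.1, t2⟩ t3 (centsC (Ohm_le_iff.2 fun i hi e => mem_cen.2 fun y hy => ?_) t1)
    rw [sq] at e
    exact fxc x hx xT i (inZ x hx xT i hi (h.invo (by_contra fun k => c i hi k e) e)) (hD.ab.comm hx hi) y hy
  have fD : ∀ z ∈ Z, x * z * x⁻¹ = z → z ∈ D := fun z hz e => hD.sc ⟨h.hA.le (h.ZA hz), mem_cen.2 fun y hy =>
    fxc x hx xT z hz (mul_inv_eq_iff_eq_mul.1 e) y (h1 hy)⟩
  have xB : ∀ a ∈ A, x * a * x⁻¹ ∈ B := fun a ha => h.swA (h1 hx) xT ▸ conj_mem_cj.2 ha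
  have xx : ∀ a, x * (x * a * x⁻¹) * x⁻¹ = a := fun a => by
    calc _ = x * x * a * (x * x)⁻¹ := by group
      _ = a := by rw [x2]; group
  have yT : ∀ a ∈ A, a * (x * a * x⁻¹) ∈ T := fun a ha => mul_mem (h.AT ha) (h.BT (xB a ha))
  have yx : ∀ a, ⁅a * (x * a * x⁻¹), x⁆ = ⁅a, x * a * x⁻¹⁆ := fun a => by
    have := xx a⁻¹
    simp only [commutatorElement_def]
    calc _ = a * (x * a * x⁻¹) * (x * (x * a⁻¹ * x⁻¹) * x⁻¹) * (x * a * x⁻¹)⁻¹ := by group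
      _ = _ := by rw [this]
  have yD : ∀ a ∈ A, a ∉ Z → a * (x * a * x⁻¹) ∉ D := fun a ha k c => by
    have e := c1.1 ((yx a).symm.trans (c1.2 (hD.ab.comm c hx)))
    have i := h.mZ (h.cenA ha k (h.BT (xB a ha)) e) (xB a ha)
    exact k (xx a ▸ conj_mem (h.nZ (h1 hx).2) i)
  have yN : ∀ a ∈ A, a * (x * a * x⁻¹) ∈ S ⊓ N(D) := fun a ha => ⟨h.TS (yT a ha), mem_nrm.2 fun d hd => by
    have cZ := h.o.qd a ha _ (h.BT (xB a ha))
    have k : ∀ d ∈ D, d ∈ T → ⁅a * (x * a * x⁻¹), d⁆ ∈ D := fun d hd k => fD _ (h.der (yT a ha) k) (by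
      rw [ccj, fx (hD.ab.comm hx hd), ← conj_mul, xx,
        show x * a * x⁻¹ * a = ⁅a, x * a * x⁻¹⁆⁻¹ * (a * (x * a * x⁻¹)) by rw [commutatorElement_def]; group,
        mulc d, c1.2 (h.zc (inv_mem cZ) k).symm, mul_one,
        fx (h.zc (inv_mem cZ) (h.AT (h.ZA (h.der (yT a ha) k)))).symm])
    have : ⁅a * (x * a * x⁻¹), d⁆ ∈ D := by
      by_cases c : d ∈ T
      · exact k d hd c
      have i := mul_mem hd (inv_mem hx)
      rw [← inv_mul_cancel_right d x, cmul, yx]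
      refine mul_mem (k _ i (h.mul (h1 hd) c (h1 (inv_mem hx)) (by rwa [inv_mem_iff]))) (conj_mem (le_nrm D i) (fD _ cZ ?_))
      rw [ccj, xx, ← commutatorElement_inv, inv_eq_of_mul_eq_one_left (h.o.c2 h.hA.ab ha (h.BT (xB a ha)))]
    simpa [commutatorElement_def] using mul_mem this hd⟩
  obtain ⟨t, t1, t2, t3⟩ : ∃ t ∈ S ⊓ N(D), t ∉ D ∧ ∀ d ∈ D, d ∈ T → d ∈ C[t] := by
    by_cases c : Z ≤ D
    · refine ⟨_, yN a ha, yD a ha a1, fun d hd k => mem_cen1.2 (h.zc (inZ x hx xT d hd (.inr ?_)) (yT a ha)).symm⟩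
      obtain ⟨u, hu, v, hv, rfl⟩ := h.dec d k
      refine mul_mem (h.ZB (by_contra fun i => yD u hu i ?_)) hv
      have f := fx (hD.ab.comm hx hd)
      rw [← conj_mul] at f
      have vA : x * v * x⁻¹ ∈ A := h.swB (h1 hx) xT ▸ conj_mem_cj.2 hv
      have : v⁻¹ * (x * u * x⁻¹) ∈ Z := h.mZ (by
        have i1 := conj_mem' (h.TN (h.BT hv)) hu
        rw [show v⁻¹ * (x * u * x⁻¹) = v⁻¹ * (x * u * x⁻¹ * (x * v * x⁻¹)) * (x * v * x⁻¹)⁻¹ by group, f, ← mul_assoc]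
        exact mul_mem i1 (inv_mem vA)) (mul_mem (inv_mem hv) (xB u hu))
      convert mul_mem hd (c this) using 1; group
    · obtain ⟨t, t1, t2, -, t3⟩ := xm (h.ai.pS.mono inf_le_left) ((h.ZA.trans h.AT).trans T1) (inf_le_right.trans h.nZ) c
      exact ⟨t, ⟨h.hA.le (h.ZA t1), mem_nrm.2 fun d hd => by
        simpa [commutatorElement_def] using mul_mem (t3 d (h1 hd)) hd⟩, t2, fun d _ k => mem_cen1.2 (h.zc t1 k)⟩
  obtain ⟨u, o, i⟩ := ta.tv t1 t2 (idx2 fun y hy z hz k l => t3 _ (mul_mem hy hz)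
    (h.mul (h1 hy) (fun c => k (t3 y hy c)) (h1 hz) fun c => l (t3 z hz c)))
  have m := H3.mul_mem_of_relIndex_two (o.idx ▸ i) (yN a ha) (yN b hb) (yD a ha a1) (yD b hb b1)
  have e := mem_cen.1 ((o.mem _).1 ⟨m, t3 _ m (mul_mem (yT a ha) (yT b hb))⟩).2 _ (yN a ha)
  rw [mul_assoc _ (b * _), mul_right_inj] at e
  have z1 := h.der (h.BT (xB a ha)) (h.AT hb)
  have z2 := h.der (h.BT (xB b hb)) (h.AT ha)
  have e1 : a * (x * a * x⁻¹) * (b * (x * b * x⁻¹)) = ⁅x * a * x⁻¹, b⁆ * (a * b * (x * (a * b) * x⁻¹)) := by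
    rw [← mul_assoc _ (a * b), ← mul_assoc _ a, ← h.zc z1 (h.AT ha), commutatorElement_def]; group
  have e2 : b * (x * b * x⁻¹) * (a * (x * a * x⁻¹)) = ⁅x * b * x⁻¹, a⁆ * (a * b * (x * (a * b) * x⁻¹)) := by
    rw [h.hA.ab.comm ha hb, ← mul_assoc _ (b * a), ← mul_assoc _ b, ← h.zc z2 (h.AT hb), commutatorElement_def]; group
  rw [e1, e2, mul_left_inj] at e
  refine yD _ (mul_mem ha hb) ab ((mul_mem_cancel_left (fD _ z1 ?_)).1 (e1 ▸ m))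
  rw [ccj, xx, e, ← commutatorElement_inv a, inv_eq_of_mul_eq_one_left (h.o.c2 h.hA.ab ha (h.BT (xB b hb)))]

theorem small (hG : _root_.commutator G = ⊤) : Z.relIndex A ≤ 2 := idx2 fun a ha b hb a1 b1 => by_contra fun ab => by
  have k := fun D => h.imp (D := D) ha hb a1 b1 ab
  have n : ∀ m ∈ N(S), m ∈ N(S ⊓ N(T)) → m ∈ N(T) := fun m h1 h2 => mem_nrm.2 fun t ht => by
    have i : ∀ D, EE S D → D ≤ T → ∀ x ∈ D, m * x * m⁻¹ ∈ T := fun D hD l x hx => k _ (hD.cj h1)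
      ((cj_mono m (l.trans (le_inf h.TS (le_nrm T)))).trans (cj_of_mem_nrm h2).le) (conj_mem_cj.2 hx)
    obtain ⟨x, hx, y, hy, rfl⟩ := h.dec t ht
    rw [← conj_mul]
    exact mul_mem (i A h.hA h.AT x hx) (i B h.hB h.BT y hy)
  have e : S ≤ S ⊓ N(T) := by_contra fun c =>
    let ⟨t, t1, t2, t3⟩ := h.ai.up le_rfl inf_le_left c; t3 ⟨t1, n t (le_nrm S t1) t2⟩
  refine h.ns (h.ai.foc hG (fun m hm x hx => ?_) (fun D hD m hm x hx =>
    k D hD (hD.le.trans e) (mul_mem (inv_mem hx) (conj_mem hm hx))) h.sS)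
  have mT := n m hm (by rwa [← e.antisymm inf_le_left])
  by_cases c : x ∈ T
  · exact mul_mem (inv_mem c) (conj_mem mT c)
  · exact h.mul (inv_mem (e hx)) (by rwa [inv_mem_iff]) (e (conj_mem hm hx)) fun i => c ((mem_normalizer_iff.1 mT x).2 i)

end PR

end Ai

end Cfsg.Agent.GO
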