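import Cfsg.Agent.GO.Ai3

/-! Groups with abelian intersections of Sylow 2-subgroups, IV: essential subgroups with transvections. -/

set_option autoImplicit false
set_option linter.unusedSectionVars false
set_option linter.unusedVariables false
set_option linter.style.haveILetI false

namespace Cfsg.Agent.GO

open Cfsg Subgroup Cfsg.Agent.FT Cfsg.Agent.GW
open scoped commutatorElement

universe u

variable {G : Type u} [Group G] [Finite G] {p : ℕ}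
  {A B D E H J K L M P Q R S T U V W X Y Z : Subgroup G} {a b c d e g j m n r s t u v w x y z : G}

namespace Ai

theorem uq2 (hz : Invo z) (h1 : z ∈ ⟪u⟫) (h2 : y ∈ ⟪u⟫) (e : y * y = 1) : y = 1 ∨ y = z :=
  hz.mem_zpowers.1 ((cyc_zpowers u).mem_of_pow_card (zpowers_le.2 h1) h2 (by rw [hz.card, sq, e]))

/-- `[D, N_S(D)] = ⟨j⟩` has order two -/
structure Ty (S D : Subgroup G) (j : G) : Prop where
  ee : EE S D
  ne : j ≠ 1
  cm : ∀ d ∈ D, ∀ t ∈ S ⊓ N(D), ⁅d, t⁆ = 1 ∨ ⁅d, t⁆ = j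

structure TT (S D Z : Subgroup G) (g j : G) : Prop extends Ty S D j where
  o : OF D (S ⊓ N(D)) (MM S D) Z g
  i2 : Z.relIndex D = 2
  ex : ∃ d ∈ D, ∃ t ∈ S ⊓ N(D), j = ⁅d, t⁆
  ng : j ∉ cj g Z

theorem AI.ty (h : AI S) (hD : EE S D) (o : OF D (S ⊓ N(D)) (MM S D) Z g) (i : Z.relIndex D = 2) : ∃ j, Ty S D j := by
  obtain ⟨t, t1, t2, t3⟩ := h.up le_rfl hD.le fun c => h.nab (hD.ab.mono c)
  obtain ⟨a, a1, a2⟩ := SetLike.not_le_iff_exists.1 fun c : D ≤ Z => by simp [relIndex_eq_one.2 c] at i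
  have zc : ∀ z ∈ Z, ∀ t ∈ S ⊓ N(D), ⁅z, t⁆ = 1 := fun z hz t ht => c1.2 (mem_cen.1 ((o.mem z).1 hz).2 t ht).symm
  refine ⟨⁅a, t⁆, hD, fun c => a2 (o.ce t ⟨t1, t2⟩ t3 a a1 (c ▸ one_mem _)), fun d hd s hs => ?_⟩
  by_cases c : d ∈ Z
  · exact .inl (zc d c s hs)
  by_cases c' : s ∈ D
  · exact .inl (c1.2 (hD.ab.comm hd c'))
  have e1 := zc _ (H3.mul_mem_of_relIndex_two i hd a1 c a2) s hs
  have e2 := c1.2 (hD.ab.comm a1 (H3.mul_mem_of_relIndex_two (o.idx ▸ i) hs ⟨t1, t2⟩ c' t3))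
  rw [mulc, fx (hD.ab.comm hd (cA hs.2 a1))] at e1
  rw [cmul, fx (mem_cen.1 ((o.mem _).1 (o.qd a a1 t ⟨t1, t2⟩)).2 s hs)] at e2
  exact .inr (mul_left_cancel (e1.trans e2.symm))

theorem AI.tt (h : AI S) (k : Ty S D j) : ∃ Z g, TT S D Z g j := by
  have hD := k.ee
  obtain ⟨t, t1, t2, t3⟩ := h.up le_rfl hD.le fun c => h.nab (hD.ab.mono c)
  obtain ⟨d, d1, d2⟩ : ∃ d ∈ D, ⁅d, t⁆ ≠ 1 := by
    by_contra c
    push Not at c
    exact t3 (hD.sc ⟨t1, mem_cen.2 fun d hd => c1.1 (c d hd)⟩)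
  have e := (k.cm d d1 t ⟨t1, t2⟩).resolve_left d2
  have j2 : j * j = 1 := by
    have := mulc t d d
    rw [fx (hD.ab.comm d1 (cA t2 d1)), e] at this
    exact (this ▸ k.cm _ (mul_mem d1 d1) t ⟨t1, t2⟩).resolve_right fun c => k.ne (mul_eq_left.1 c)
  have ji := invo_of j2 k.ne
  obtain ⟨g, o, i⟩ := (h.ta hD).tv ⟨t1, t2⟩ t3 ((H3.relIndex_centralizer_le_card D ⟪j⟫ fun x hx =>
    ji.mem_zpowers.2 (k.cm x hx t ⟨t1, t2⟩)).trans ji.card.le)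
  exact ⟨_, g, k, o, i, ⟨d, d1, t, ⟨t1, t2⟩, e.symm⟩, fun c => d2 (c1.2 (mem_cen1.1 (o.ce t ⟨t1, t2⟩ t3 d d1 (e ▸ c)).2))⟩

theorem Ty.cj (k : Ty S D j) (hm : m ∈ N(S)) : Ty S (FT.cj m D) (m * j * m⁻¹) :=
  ⟨k.ee.cj hm, fun c => k.ne (by simpa using c), fun d hd t ht => by
    have : t ∈ FT.cj m (S ⊓ N(D)) := by rwa [cj_inf, cj_nrm, cj_of_mem_nrm hm]
    obtain ⟨d, d1, rfl⟩ := mem_cj'.1 hd
    obtain ⟨t, t1, rfl⟩ := mem_cj'.1 this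
    rw [← ccj]
    exact (k.cm d d1 t t1).imp (fun e => by rw [e]; group) fun e => by rw [e]⟩

namespace TT

variable (k : TT S D Z g j)
include k

theorem ZD : Z ≤ D := fun z hz => ((k.o.mem z).1 hz).1
theorem jZ : j ∈ Z := let ⟨d, d1, t, t1, e⟩ := k.ex; e ▸ k.o.qd d d1 t t1
theorem jD : j ∈ D := k.ZD k.jZ
theorem ji : Invo j := let ⟨d, d1, t, t1, e⟩ := k.ex; invo_of (e ▸ k.o.c2 k.ee.ab d1 t1) k.ne

theorem fix (hm : m ∈ MM S D) : m * j * m⁻¹ = j := by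
  obtain ⟨n, n1, n2, e⟩ := mm_act hm
  obtain ⟨d, d1, t, t1, i⟩ := k.ex
  rw [e j k.jD]
  have := k.cm _ (conj_mem n2 d1) _ (conj_mem (normsI (zpowers_le.2 n1) (norms_norm (zpowers_le.2 n2)) (mem_zpowers n)) t1)
  rw [← ccj, ← i] at this
  exact this.resolve_left fun c => k.ne (by simpa using c)

theorem nZ (hm : m ∈ MM S D) (hz : z ∈ Z) : m * z * m⁻¹ ∈ Z := by
  obtain ⟨n, n1, n2, e⟩ := mm_act hm
  rw [e z (k.ZD hz)]
  exact (k.o.mem _).2 ⟨conj_mem n2 (k.ZD hz), conj_mem (norms_cent (normsI (zpowers_le.2 n1)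
    (norms_norm (zpowers_le.2 n2))) (mem_zpowers n)) ((k.o.mem z).1 hz).2⟩

theorem gj : g * j * g⁻¹ ∉ Z := fun c => k.ng (by
  have e := k.o.cE _ c (conj_mem_cj.2 k.jZ)
  rw [inv_mul_cancel_right, mul_right_inj] at e
  exact e ▸ conj_mem_cj.2 k.jZ)

theorem out (hn : n ∈ N(D)) (h : n * j * n⁻¹ ≠ j) : n * j * n⁻¹ = g * j * g⁻¹ ∨ n * j * n⁻¹ = g * j * g⁻¹ * j := by
  obtain ⟨t, ht, i⟩ := (k.o.dc n hn).resolve_left fun c => h (k.fix c)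
  have w := conj_mem k.o.gN k.jD
  have e : n * j * n⁻¹ = ⁅g * j * g⁻¹, t⁻¹⁆⁻¹ * (g * j * g⁻¹) := by
    calc _ = t⁻¹ * g * (g⁻¹ * t * n * j * (g⁻¹ * t * n)⁻¹) * g⁻¹ * t := by group
      _ = _ := by rw [k.fix i, commutatorElement_def]; group
  rcases k.cm _ w _ (inv_mem ht) with c | c
  · exact .inl (by rw [e, c]; group)
  · exact .inr (by rw [e, c, k.ji.inv, k.ee.ab.comm k.jD w])

theorem outZ (hn : n ∈ N(D)) (h : n * j * n⁻¹ ≠ j) : n * j * n⁻¹ ∉ Z := fun c => k.gj (by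
  rcases k.out hn h with e | e
  · exact e ▸ c
  · exact (mul_mem_cancel_right k.jZ).1 (e ▸ c))

theorem inM (hn : n ∈ N(D)) (h : n * j * n⁻¹ = j) : n ∈ MM S D := (k.o.dc n hn).resolve_right fun ⟨t, ht, i⟩ => k.gj (by
  have e := k.fix i
  have e2 := mem_cen.1 ((k.o.mem j).1 k.jZ).2 t ht
  rw [show g⁻¹ * t * n * j * (g⁻¹ * t * n)⁻¹ = g⁻¹ * (t * (n * j * n⁻¹) * t⁻¹) * g by group, h, fx e2] at e
  rw [show g * j * g⁻¹ = j by nth_rewrite 1 [← e]; group]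
  exact k.jZ)

theorem cen (h : AI S) (hv : v ∈ D) (h1 : v ∉ Z) : S ⊓ C[v] = D := by
  refine le_antisymm (by_contra fun c => ?_) (le_inf k.ee.le (k.ee.ab.le_cen1 hv))
  obtain ⟨t, t1, t2, t3⟩ := h.up inf_le_left (le_inf k.ee.le (k.ee.ab.le_cen1 hv)) c
  exact h1 (k.o.ce t ⟨t1.1, t2⟩ t3 v hv (c1.2 (mem_cen1.1 t1.2).symm ▸ one_mem _))

/-- the commutators with `g` -/
theorem gc (h : ∀ n ∈ N(D), n * j * n⁻¹ ∈ K) (hd : d ∈ D) : d⁻¹ * (g * d * g⁻¹) ∈ K := by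
  have gN := k.o.gN
  have i2 : (FT.cj g Z).relIndex D = 2 := by rw [← k.i2, ← relIndex_cj g Z D, cj_of_mem_nrm gN]
  have a : ∀ y, y ∈ K → g * y * g⁻¹ ∈ K → ∀ d, (d * y)⁻¹ * (g * (d * y) * g⁻¹) ∈ K → d⁻¹ * (g * d * g⁻¹) ∈ K :=
    fun y h1 h2 d h3 => by convert mul_mem (mul_mem h1 h3) (inv_mem h2) using 1; group
  have b : ∀ d ∈ Z, d ∈ FT.cj g Z → d⁻¹ * (g * d * g⁻¹) ∈ K := fun d h1 h2 => by
    rw [fx (k.o.cE d h1 h2), inv_mul_cancel]; exact one_mem _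
  have c : ∀ d ∈ Z, d⁻¹ * (g * d * g⁻¹) ∈ K := fun d h1 => by
    by_cases i : d ∈ FT.cj g Z
    · exact b d h1 i
    · exact a j (by simpa using h 1 (one_mem _)) (h g gN) d
        (b _ (mul_mem h1 k.jZ) (H3.mul_mem_of_relIndex_two i2 (k.ZD h1) k.jD i k.ng))
  by_cases i : d ∈ Z
  · exact c d i
  · exact a _ (h g gN) (by convert h _ (mul_mem gN gN) using 1; group) d
      (c _ (H3.mul_mem_of_relIndex_two k.i2 hd (conj_mem gN k.jD) i k.gj))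

end TT

/-- the class of involutions generating the dihedral group -/
def CJ (S : Subgroup G) (v j : G) : Prop := ∃ D n, Ty S D j ∧ n ∈ N(D) ∧ v = n * j * n⁻¹ ∧ v ≠ j

theorem CJ.cj (k : CJ S v j) (hm : m ∈ N(S)) : CJ S (m * v * m⁻¹) (m * j * m⁻¹) :=
  let ⟨D, n, h1, h2, h3, h4⟩ := k
  ⟨_, m * n * m⁻¹, h1.cj hm, by rw [← cj_nrm]; exact conj_mem_cj.2 h2, by rw [h3]; group, fun c => h4 (by simpa using c)⟩

theorem TT.cj (k : TT S D Z g j) : CJ S (g * j * g⁻¹) j := ⟨D, g, k.toTy, k.o.gN, rfl, fun c => k.gj (c.symm ▸ k.jZ)⟩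

namespace AI

variable (h : AI S)
include h

theorem cj1 (k : CJ S v j) : ∃ Z g, TT S (S ⊓ C[v]) Z g j ∧ v ∈ S ∧ v ∉ Z ∧ Invo v ∧
    (v = g * j * g⁻¹ ∨ v = g * j * g⁻¹ * j) := by
  obtain ⟨D, n, h1, h2, rfl, h4⟩ := k
  obtain ⟨Z, g, t⟩ := h.tt h1
  have i := conj_mem h2 t.jD
  rw [t.cen h i (t.outZ h2 h4)]
  exact ⟨Z, g, t, t.ee.le i, t.outZ h2 h4, t.ji.conj n, t.out h2 h4⟩

theorem vS (k : CJ S v j) : v ∈ S := let ⟨_, _, _, i, _⟩ := h.cj1 k; i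
theorem vi (k : CJ S v j) : Invo v := let ⟨_, _, _, _, _, i, _⟩ := h.cj1 k; i
theorem ji (k : CJ S v j) : Invo j := let ⟨_, _, i, _⟩ := h.cj1 k; i.ji
theorem ee (k : CJ S v j) : EE S (S ⊓ C[v]) := let ⟨_, _, i, _⟩ := h.cj1 k; i.ee

theorem nsq (k : CJ S v j) (hx : x ∈ S) (e : x * v = v * x) : x * x ≠ j := fun c =>
  let ⟨_, _, i, _⟩ := h.cj1 k; i.ng (c ▸ (i.o.sq x ⟨hx, mem_cen1.2 e⟩).2)

theorem comm (k : CJ S v j) (l : CJ S w z) (e : v * w = w * v) : z = j ∧ (w = v ∨ w = v * j) := by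
  have e1 : S ⊓ C[w] = S ⊓ C[v] := (h.ee l).toMA.eq (h.ee k).toMA
    (le_inf inf_le_left ((h.ee l).ab.le_cen1 ⟨h.vS k, mem_cen1.2 e⟩))
  obtain ⟨Z, g, t, -, -, -, i⟩ := h.cj1 k
  obtain ⟨D, n, h1, h2, rfl, h4⟩ := l
  obtain ⟨Z', g', t'⟩ := h.tt h1
  rw [t'.cen h (conj_mem h2 t'.jD) (t'.outZ h2 h4)] at e1
  subst e1
  obtain ⟨d, d1, s, s1, e2⟩ := t.ex
  obtain rfl : j = z := e2.trans ((h1.cm d d1 s s1).resolve_left (e2 ▸ t.ne))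
  refine ⟨rfl, ?_⟩
  rcases t.out h2 h4 with c | c <;> rcases i with i | i
  · exact .inl (c.trans i.symm)
  · exact .inr (by rw [c, ← t.ji.cancel' (g * j * g⁻¹), ← i])
  · exact .inr (by rw [c, ← i])
  · exact .inl (c.trans i.symm)

theorem jz (k : CJ S v j) (l : CJ S w z) (e : v ≠ w) : j ∈ ⟪v * w⟫ := by
  obtain ⟨n, hn⟩ := (h.pS.piElt (mul_mem (h.vS k) (h.vS l))).exists_pow
  induction n generalizing w z with
  | zero => exact (e (by rw [← (h.vi l).inv]; exact eq_inv_of_mul_eq_one_left (by simpa using hn))).elim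
  | succ n ih =>
    by_cases c : v * w = w * v
    · rw [(h.comm k l c).2.resolve_left e.symm, (h.vi k).cancel]; exact mem_zpowers j
    have i : v * (w * v * w⁻¹) = (v * w) ^ 2 := by rw [(h.vi l).inv, sq]; group
    refine zpowers_le.2 (pow_mem (mem_zpowers _) 2) (i ▸ ih (k.cj (le_nrm S (h.vS l))) (fun d => c (eq_mul_inv_iff_mul_eq.1 d)) ?_)
    rw [i, ← pow_mul, ← pow_succ', hn]

theorem jeq (k : CJ S v j) (l : CJ S w z) : z = j := by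
  by_cases e : v = w
  · exact (h.comm k l (e ▸ rfl)).1
  refine (uq2 (h.ji k) (h.jz k l e) ?_ (h.ji l).sq).resolve_left (h.ji l).ne
  have := h.jz l k (Ne.symm e)
  rwa [← zpowers_inv, mul_inv_rev, (h.vi k).inv, (h.vi l).inv] at this

end AI

theorem PR.start (h : PR S A B T Z s g) (hG : _root_.commutator G = ⊤) : ∃ a b z, CJ S a z ∧ CJ S b z ∧ ⁅a, b⁆ = z := by
  have o := h.eT ▸ h.o
  obtain ⟨j, k⟩ := h.ai.ty h.hA o ((h.small hG).antisymm (one_lt_relIndex fun c =>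
    h.ne (h.hA.toMA.eq h.hB.toMA (c.trans h.ZB))))
  obtain ⟨Y, u, t⟩ := h.ai.tt k
  obtain rfl : Y = Z := Subgroup.ext fun x => (t.o.mem x).trans (o.mem x).symm
  have c := t.cj.cj (le_nrm S h.sS)
  have aA := conj_mem t.o.gN t.jD
  have bB : s * (u * j * u⁻¹) * s⁻¹ ∈ B := h.eB ▸ conj_mem_cj.2 aA
  refine ⟨_, _, j, t.cj, h.ai.jeq t.cj c ▸ c, (k.cm _ aA _ (h.eT ▸ h.BT bB)).resolve_left fun e => t.gj ?_⟩
  exact (mem_normalizer_iff.1 (h.nZ h.sT) _).2 (h.mZ (h.cenA aA t.gj (h.BT bB) (c1.1 e)) bB)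

end Ai

end Cfsg.Agent.GO
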