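import Cfsg.Agent.GO.Ai4

/-! Groups with abelian intersections of Sylow 2-subgroups, V: the dihedral case. -/

set_option autoImplicit false
set_option linter.unusedSectionVars false
set_option linter.unusedVariables false
set_option linter.style.haveILetI false

namespace Cfsg.Agent.GO

open Cfsg Subgroup Cfsg.Agent.FT Cfsg.Agent.GW
open scoped commutatorElement

universe u

variable {G : Type u} [Group G] [Finite G] {p : ℕ}
  {A B D E H J K L M P Q R S T U V W X Y Z : Subgroup G} {a b c d e g j m n r s t u v w x y z : G}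

namespace Ai

theorem sqU (h : t ∈ ⟪u ^ 2⟫) : ∃ x ∈ ⟪u⟫, t = x * x :=
  let ⟨l, e⟩ := mem_zpowers_iff.1 h
  ⟨u ^ l, zpow_mem_zpowers u l, by rw [← e, ← zpow_natCast, ← zpow_mul, ← zpow_add]; congr 1; push_cast; ring⟩

structure DH (S : Subgroup G) (a u z w : G) : Prop where
  ai : AI S
  ca : CJ S a z
  cu : CJ S (a * u) z
  cw : CJ S (a * w) z
  w2 : w * w = z
  mx : ∀ c, CJ S c z → orderOf (a * c) ≤ orderOf u

theorem AI.dh (h : AI S) (ha : CJ S a z) (hb : CJ S b z) (e : ⁅a, b⁆ = z) : ∃ u w, DH S a u z w := by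
  obtain ⟨c, hc, mx⟩ := Set.exists_max_image {c | CJ S c z} (fun c => orderOf (a * c)) (Set.toFinite _) ⟨a, ha⟩
  exact ⟨a * c, a * b, h, ha, by rwa [(h.vi ha).cancel], by rwa [(h.vi ha).cancel],
    by rw [← e, commutatorElement_def, (h.vi ha).inv, (h.vi hb).inv]; group, mx⟩

namespace DH

variable (h : DH S a u z w)
include h

theorem ia : Invo a := h.ai.vi h.ca
theorem iz : Invo z := h.ai.ji h.ca
theorem aS : a ∈ S := h.ai.vS h.ca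
theorem uS : u ∈ S := (mul_mem_cancel_left h.aS).1 (h.ai.vS h.cu)
theorem US : ⟪u⟫ ≤ S := zpowers_le.2 h.uS
theorem zM (hm : m ∈ N(S)) : m * z * m⁻¹ = z := h.ai.jeq h.ca (h.ca.cj hm)
theorem cj (hc : CJ S c z) (hm : m ∈ N(S)) : CJ S (m * c * m⁻¹) z := h.zM hm ▸ hc.cj hm

theorem inv (hy : y ∈ ⟪u⟫) : a * y * a⁻¹ = y⁻¹ := by
  obtain ⟨i, rfl⟩ := mem_zpowers_iff.1 hy
  rw [← conj_zpow, ← inv_zpow, h.ia.inv, eq_inv_of_mul_eq_one_left (show a * u * a * u = 1 by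
    rw [← (h.ai.vi h.cu).sq]; group)]

theorem cU (hy : y ∈ ⟪u⟫) : CJ S (a * y) z := by
  have k : ∀ x ∈ ⟪u⟫, x⁻¹ * a = a * x := fun x hx => by rw [← h.inv hx]; group
  obtain i | ⟨t, i, rfl⟩ := H3.mem_zpowers_sq_or hy <;> obtain ⟨x, hx, rfl⟩ := sqU i
  · convert h.cj h.ca (le_nrm S (h.US (inv_mem hx))) using 1
    rw [k x hx]; group
  · convert h.cj h.cu (le_nrm S (h.US (inv_mem hx))) using 1
    rw [← mul_assoc x⁻¹, k x hx, inv_inv, mul_assoc x, (ab_zpowers u).comm hx (mem_zpowers u)]; group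

theorem pw (hx : x ∈ S) : ∃ k, orderOf x = 2 ^ k :=
  let ⟨_, e⟩ := (h.ai.pS.piElt hx).exists_pow
  let ⟨k, _, i⟩ := (Nat.dvd_prime_pow Nat.prime_two).1 (orderOf_dvd_of_pow_eq_one e); ⟨k, i⟩

theorem ord : ∃ n, 1 ≤ n ∧ orderOf u = 2 ^ (n + 1) := by
  haveI : Fact (Nat.Prime 2) := ⟨Nat.prime_two⟩
  obtain ⟨k, e⟩ := h.pw h.uS
  have := h.mx _ h.cw
  rw [h.ia.cancel, e, orderOf_eq_prime_pow (p := 2) (n := 1) (by rw [pow_one, sq, h.w2]; exact h.iz.ne)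
    (by rw [pow_succ, pow_one, pow_mul, sq w, h.w2, sq, h.iz.sq]), Nat.pow_le_pow_iff_right one_lt_two] at this
  exact ⟨k - 1, by omega, by rw [e]; congr 1; omega⟩

theorem zU : z ∈ ⟪u⟫ := by
  obtain ⟨n, -, e⟩ := h.ord
  have := h.ai.jz h.ca h.cu fun c => by
    rw [left_eq_mul.1 c, orderOf_one] at e
    exact absurd e (Nat.one_lt_two_pow n.succ_ne_zero).ne
  rwa [h.ia.cancel] at this

theorem inU (hc : CJ S c z) : a * c ∈ ⟪u⟫ := by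
  obtain ⟨k, hk⟩ := (h.ai.pS.piElt (mul_mem h.aS (h.ai.vS hc))).exists_pow
  obtain ⟨n, -, e⟩ := h.ord
  induction k generalizing c with
  | zero => rw [show a * c = 1 by simpa using hk]; exact one_mem _
  | succ k ih =>
    have ic := h.ai.vi hc
    have cS := h.ai.vS hc
    have i : a * (c * a * c⁻¹) = (a * c) ^ 2 := by rw [ic.inv, sq]; group
    have m := ih (h.cj h.ca (le_nrm S cS)) (by rw [i, ← pow_mul, ← pow_succ', hk])
    obtain ⟨l, hl⟩ := h.pw (mul_mem h.aS cS)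
    have m2 := H3.mem_zpowers_pow_of_pow Nat.prime_two e n.le_succ m (by
      rw [i, ← pow_mul, ← pow_succ']
      exact orderOf_dvd_iff_pow_eq_one.1 (hl ▸ pow_dvd_pow 2 ((Nat.pow_le_pow_iff_right one_lt_two).1 (hl ▸ e ▸ h.mx c hc))))
    rw [Nat.add_sub_cancel_left, pow_one] at m2
    obtain ⟨x, hx, e2⟩ := sqU m2
    have c1 := h.cU hx
    have i1 := h.ai.vi c1
    have e3 : c * (a * x) * a = a * (c * (a * x)) := by
      have t2 : c * a = a⁻¹ * x * x * c := by rw [mul_assoc _ x x, ← e2]; group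
      have t3 : a * c = (c * a)⁻¹ := by rw [mul_inv_rev, h.ia.inv, ic.inv]
      have t4 : a * (c * (a * x)) = c * x⁻¹ := by
        rw [← mul_assoc a, t3, t2]
        calc _ = c⁻¹ * x⁻¹ * (x⁻¹ * (a * a) * x) := by group
          _ = _ := by rw [h.ia.sq, ic.inv]; group
      rw [t4, ← h.inv hx, h.ia.inv]; group
    by_cases d : c * (a * x) = a * x * c
    · rcases (h.ai.comm c1 hc d.symm).2 with r | r
      · rw [r, h.ia.cancel]; exact hx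
      · rw [r, ← mul_assoc, h.ia.cancel]; exact mul_mem hx h.zU
    have s1 := h.ai.vS c1
    have := h.ai.jz hc (h.cj hc (le_nrm S s1)) fun r => d (eq_mul_inv_iff_mul_eq.1 r)
    rw [show c * (a * x * c * (a * x)⁻¹) = (c * (a * x)) ^ 2 by rw [i1.inv, sq]; group] at this
    obtain ⟨y, hy, r⟩ := sqU this
    exact (h.ai.nsq h.ca (zpowers_le.2 (mul_mem cS s1) hy) (mem_cen1.1 (zpowers_le.2 (mem_cen1.2 e3) hy)) r.symm).elim

theorem wU : w ∈ ⟪u⟫ := h.ia.cancel w ▸ h.inU h.cw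

theorem aU (hm : m ∈ N(S)) : a * (m * a * m⁻¹) ∈ ⟪u⟫ := h.inU (h.cj h.ca hm)

theorem nU : N(S) ≤ N(⟪u⟫) := fun m hm => mem_nrm_of_cj_le (by
  rw [cj_zpowers, zpowers_le]
  convert mul_mem (inv_mem (h.aU hm)) (h.inU (h.cj h.cu hm)) using 1; group)

theorem aw : a * w ≠ w * a := fun c => h.iz.ne (by
  rw [← h.w2]; nth_rewrite 1 [← fx c]; rw [h.inv h.wU, inv_mul_cancel])

theorem zD (hD : EE S D) : z ∈ D :=
  hD.sc ⟨h.US h.zU, mem_cen.2 fun d hd => mul_inv_eq_iff_eq_mul.1 (h.zM (le_nrm S (hD.le hd)))⟩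

theorem all (hD : EE S D) : ∃ Z g, TT S D Z g z := by
  have ta := h.ai.ta hD
  by_cases c : ⟪u⟫ ≤ D
  · have aN : a ∈ N(D) := mem_nrm.2 fun d hd => by
      convert mul_mem (c (h.aU (le_nrm S (hD.le hd)))) hd using 1
      rw [h.ia.inv]; group
    obtain ⟨v, v1, v2, v3⟩ : ∃ v ∈ D, v * v = 1 ∧ a * v ≠ v * a := by
      by_contra k
      push Not at k
      exact ta.not_cen ⟨h.aS, aN⟩ (fun i => h.aw (hD.ab.comm i (c h.wU))) (centsC (Ohm_le_iff.2 fun x hx e =>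
        (cen_zpowers a).ge (mem_cen1.2 (k x hx (sq x ▸ e)).symm)) (mem_zpowers a))
    have e1 : a * (v * a * v⁻¹) = a * v * a⁻¹ * v⁻¹ := by rw [h.ia.inv]; group
    have e2 := hD.ab.comm (conj_mem aN v1) (inv_mem v1)
    have e := (uq2 (y := a * v * a⁻¹ * v⁻¹) h.iz h.zU (e1 ▸ h.aU (le_nrm S (hD.le v1))) (by
      calc _ = a * v * a⁻¹ * (v⁻¹ * (a * v * a⁻¹)) * v⁻¹ := by group
        _ = a * (v * v) * a⁻¹ * (v * v)⁻¹ := by rw [← e2]; group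
        _ = 1 := by rw [v2]; group)).resolve_left fun k => v3 (c1.1 k)
    have e3 := hD.ab.comm v1 (c h.wU)
    refine (h.ai.nsq h.ca (hD.le (mul_mem v1 (c h.wU))) (mul_inv_eq_iff_eq_mul.1 ?_).symm ?_).elim
    · rw [← conj_mul, h.inv h.wU, mul_inv_eq_iff_eq_mul.1 e, ← h.w2, mul_assoc w, ← e3, ← mul_assoc w, ← e3]; group
    · rw [mul_assoc, ← mul_assoc w, ← e3, ← mul_assoc, ← mul_assoc, v2, one_mul, h.w2]
  obtain ⟨x, x1, x2, x3, -⟩ := xm (h.ai.pS.mono h.US) le_rfl (le_nrm _) c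
  have k : ∀ d ∈ D, ⁅d, x⁆ ∈ ⟪z⟫ := fun d hd => by
    have i := conj_mem (h.nU (le_nrm S (hD.le hd))) x1
    have e2 := (ab_zpowers u).comm i (inv_mem x1)
    refine h.iz.mem_zpowers.2 (uq2 h.iz h.zU (mul_mem i (inv_mem x1)) ?_)
    calc _ = d * x * d⁻¹ * (x⁻¹ * (d * x * d⁻¹)) * x⁻¹ := by rw [commutatorElement_def]; group
      _ = d * (x * x) * d⁻¹ * (x * x)⁻¹ := by rw [← e2]; group
      _ = 1 := by rw [fx (hD.ab.comm hd x3), mul_inv_cancel]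
  obtain ⟨g, o, i⟩ := ta.tv ⟨h.US x1, mem_nrm.2 fun d hd => by
    convert mul_mem (inv_mem (zpowers_le.2 (h.zD hD) (k d hd))) hd using 1
    rw [commutatorElement_def]; group⟩ x2 ((H3.relIndex_centralizer_le_card D ⟪z⟫ k).trans h.iz.card.le)
  obtain ⟨j, t⟩ := h.ai.ty hD o i
  obtain ⟨Z, g, t⟩ := h.ai.tt t
  exact ⟨Z, g, h.ai.jeq h.ca t.cj ▸ t⟩

theorem cK (hc : CJ S c z) : c ∈ ⟪u⟫ ⊔ ⟪a⟫ :=
  h.ia.cancel c ▸ mul_mem (mem_sup_right (mem_zpowers a)) (mem_sup_left (h.inU hc))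

theorem nK (k : TT S D Z g z) (hn : n ∈ N(D)) : n * z * n⁻¹ ∈ ⟪u⟫ ⊔ ⟪a⟫ := by
  by_cases c : n * z * n⁻¹ = z
  · rw [c]; exact mem_sup_left h.zU
  · exact h.cK ⟨D, n, k.toTy, hn, rfl, c⟩

theorem foc (hG : _root_.commutator G = ⊤) (h1 : ⟪u⟫ ⊔ ⟪a⟫ ≤ K) (hm : ∀ m ∈ N(S), ∀ x ∈ S, x⁻¹ * (m * x * m⁻¹) ∈ K) :
    S ≤ K := h.ai.foc hG hm fun D hD n hn x hx =>
  let ⟨_, _, k⟩ := h.all hD
  h.ai.fus' (fun x y => x⁻¹ * y ∈ K) (fun k l => by convert mul_mem k l using 1; group) hm hD.toMA k.o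
    (fun _ i => k.gc (fun _ i => h1 (h.nK k i)) i) hn hx

theorem odd {i : ℤ} (e : m * u * m⁻¹ = u ^ i) (hm : m ∈ N(S)) : Odd i := Int.not_even_iff_odd.1 fun ⟨l, c⟩ => h.iz.ne (by
  obtain ⟨k, hk⟩ := mem_zpowers_iff.1 h.zU
  rw [← h.zM hm, ← hk, ← conj_zpow, e, ← zpow_mul, mul_comm i, zpow_mul, hk, c, zpow_add, ← (Commute.refl z).mul_zpow,
    h.iz.sq, one_zpow])

theorem com (hx : x ∈ N(S)) (hy : y ∈ N(S)) : (x * y)⁻¹ * (y * x) ∈ (⟪u⟫ ⊔ ⟪a⟫) ⊔ C(⟪u⟫ ⊔ ⟪a⟫) := by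
  have f : ∀ m ∈ N(S), ∃ i k : ℤ, m * a * m⁻¹ = a * u ^ i ∧ m * u * m⁻¹ = u ^ (2 * k + 1) := fun m hm => by
    obtain ⟨i, e⟩ := mem_zpowers_iff.1 (h.aU hm)
    obtain ⟨k, e'⟩ := mem_zpowers_iff.1 (conj_mem (h.nU hm) (mem_zpowers u))
    obtain ⟨l, rfl⟩ := h.odd e'.symm hm
    exact ⟨i, l, by rw [e, h.ia.cancel], e'.symm⟩
  obtain ⟨i, k, e1, e2⟩ := f x hx
  obtain ⟨j, l, f1, f2⟩ := f y hy
  have g1 : ∀ {x y : G} {k l : ℤ}, x * u * x⁻¹ = u ^ k → y * u * y⁻¹ = u ^ l → x * y * u * (x * y)⁻¹ = u ^ (k * l) :=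
    fun {x y k l} e f => by rw [zpow_mul, ← e, conj_zpow, ← f]; group
  have g2 : ∀ {x y : G} {k i j : ℤ}, x * u * x⁻¹ = u ^ k → x * a * x⁻¹ = a * u ^ i → y * a * y⁻¹ = a * u ^ j →
      x * y * a * (x * y)⁻¹ = a * u ^ (i + k * j) := fun {x y k i j} e f g => by
    rw [zpow_add, zpow_mul, ← e, conj_zpow, ← mul_assoc a, ← f, conj_mul, ← g]; group
  have a1 := g1 e2 f2
  have a2 := g1 f2 e2
  have b1 := g2 e2 e1 f1
  have b2 := g2 f2 f1 e1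
  have m := mul_mem hx hy
  generalize x * y = p at *
  generalize y * x = q at *
  have t := conj_mem' (h.nU m) (zpow_mem_zpowers u (l * i - k * j))
  have c1 : p⁻¹ * q * u * (p⁻¹ * q)⁻¹ = u := by
    calc _ = p⁻¹ * (q * u * q⁻¹) * p := by group
      _ = u := by rw [a2, mul_comm (2 * l + 1), ← a1]; group
  have c2 : p⁻¹ * q * a * (p⁻¹ * q)⁻¹ = a * (p⁻¹ * u ^ (l * i - k * j) * p) * (p⁻¹ * u ^ (l * i - k * j) * p) := by
    calc _ = p⁻¹ * (q * a * q⁻¹) * p := by group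
      _ = p⁻¹ * (a * u ^ (i + (2 * k + 1) * j) * (u ^ (l * i - k * j) * u ^ (l * i - k * j))) * p := by
        rw [b2, mul_assoc a, ← zpow_add, ← zpow_add]; congr 4; ring
      _ = _ := by rw [← b1]; group
  generalize p⁻¹ * u ^ (l * i - k * j) * p = t' at *
  generalize p⁻¹ * q = c at *
  rw [← inv_mul_cancel_left t' c]
  refine mul_mem (mem_sup_left (mem_sup_left (inv_mem t))) (mem_sup_right ?_)
  rw [cen_sup, cen_zpowers, cen_zpowers]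
  refine ⟨mem_cen1.2 (mul_inv_eq_iff_eq_mul.1 ?_), mem_cen1.2 (mul_inv_eq_iff_eq_mul.1 ?_)⟩
  · calc _ = t' * (c * u * c⁻¹) * t'⁻¹ := by group
      _ = u := by rw [c1, fx ((ab_zpowers u).comm t (mem_zpowers u))]
  · calc _ = t' * (c * a * c⁻¹) * t'⁻¹ := by group
      _ = t' * (a * t' * a⁻¹) * a := by rw [c2]; group
      _ = a := by rw [h.inv t]; group

theorem KS : ⟪u⟫ ⊔ ⟪a⟫ ≤ S := sup_le h.US (zpowers_le.2 h.aS)

theorem MK : N(S) ≤ N(⟪u⟫ ⊔ ⟪a⟫) := fun m hm => mem_nrm_of_cj_le (by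
  rw [cj_sup, cj_of_mem_nrm (h.nU hm), cj_zpowers]
  exact sup_le le_sup_left (zpowers_le.2 (h.cK (h.cj h.ca hm))))

theorem dec (hG : _root_.commutator G = ⊤) (hx : x ∈ S) : ∃ k ∈ ⟪u⟫ ⊔ ⟪a⟫, ∃ r ∈ S ⊓ C(⟪u⟫ ⊔ ⟪a⟫), x = k * r := by
  obtain ⟨k, hk, r, hr, rfl⟩ := (mulEq_sup (cen_le_nrm _)).mul x (h.foc hG le_sup_left (fun m hm x hx => by
    convert h.com (inv_mem hm) (le_nrm S hx) using 1; group) hx)
  exact ⟨k, hk, r, ⟨(mul_mem_cancel_left (h.KS hk)).1 hx, hr⟩, rfl⟩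

theorem oddC (hP : P ≤ N(S)) (ho : OddG P) : P ≤ C(⟪u⟫ ⊔ ⟪a⟫) := by
  have h1 : P ≤ C(⟪u⟫) := coprime_abelian_faithful_Ohm1 (hP.trans h.nU) ((h.ai.pS.mono h.US).cop ho) (ab_zpowers u)
    (h.ai.pS.mono h.US) (centsC (Ohm_le_iff.2 fun x hx e => mem_cen.2 fun m hm => by
      rcases uq2 h.iz h.zU hx (sq x ▸ e) with rfl | rfl
      · simp
      · exact mul_inv_eq_iff_eq_mul.1 (h.zM (hP hm))))
  refine coprime_commGG1P (hP.trans h.MK) ((h.ai.pS.mono h.KS).cop ho) (commutator_eq_bot_iff_le_centralizer.2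
    (le_trans (commutator_le.2 fun x hx m hm => ?_) (centsC h1)))
  obtain i | ⟨y, hy, rfl⟩ := Fg.mem_sup2 (h.nU (le_nrm S h.aS)) (h.ia.sq ▸ one_mem _) hx
  · rw [Ai.c1.2 (mem_cen.1 (h1 hm) x i)]; exact one_mem _
  · rw [mulc, Ai.c1.2 (mem_cen.1 (h1 hm) y hy), mul_one]
    refine conj_mem (le_nrm _ hy) ?_
    convert h.aU (hP hm) using 1
    rw [commutatorElement_def, h.ia.inv]; group

theorem main [IsSimpleGroup G] (nab : ¬ IsMulCommutative G) (hG : _root_.commutator G = ⊤) :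
    (∃ m : ℕ, 2 ≤ m ∧ Nonempty (S ≃* DihedralGroup m)) ∨ ⁅S, S⁆ ≤ C(S) := by
  let F : Subgroup G :=
    { carrier := {x | ∀ D, EE S D → ∀ n ∈ N(D), n * x * n⁻¹ ∈ D ⊓ C(S ⊓ N(D))}
      one_mem' := fun D _ n _ => by simp
      mul_mem' := fun hx hy D k n hn => by rw [← conj_mul]; exact mul_mem (hx D k n hn) (hy D k n hn)
      inv_mem' := fun hx D k n hn => by rw [← conj_inv]; exact inv_mem (hx D k n hn) }
  have hA := h.ai.ee h.ca
  have FA : F ≤ S ⊓ C[a] := fun x hx => by simpa using (hx _ hA 1 (one_mem _)).1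
  by_cases c : F = ⊥
  swap
  · have MF : N(S) ≤ N(F) := fun m hm => mem_nrm.2 fun x hx D k n hn => by
      have := hx _ (k.cj (inv_mem hm)) (m⁻¹ * n * m⁻¹⁻¹) (by rw [← cj_nrm]; exact conj_mem_cj.2 hn)
      rw [← cj_nrm, ← cj_of_mem_nrm (inv_mem hm), ← cj_inf, ← cj_cen, ← cj_inf, mem_cj] at this
      convert this using 1; group
    refine .inr (h.ai.cl2 nab c (hA.ab.mono FA) (FA.trans inf_le_left) MF fun D hD n hn x hx => ?_)
    obtain ⟨Z, g, k⟩ := h.all hD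
    refine h.ai.fus' (fun x y => x ∈ F → y ∈ F) (fun k l => l ∘ k) (fun m hm x _ => conj_mem (MF hm)) hD.toMA k.o
      (fun x _ i => ?_) hn hx
    rwa [fx (k.o.cE x ((k.o.mem x).2 (by simpa using i D hD 1 (one_mem _)))
      (mem_cj.2 ((k.o.mem _).2 (by simpa using i D hD g⁻¹ (inv_mem k.o.gN)))))]
  have RA : S ⊓ C(⟪u⟫ ⊔ ⟪a⟫) ≤ S ⊓ C[a] := inf_le_inf_left _ (cen_le_cen1 (mem_sup_right (mem_zpowers a)))
  have CR : N(S) ⊓ C(⟪u⟫ ⊔ ⟪a⟫) ≤ C(S ⊓ C(⟪u⟫ ⊔ ⟪a⟫)) := fun m hm => mem_cen.2 fun r hr => by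
    have : r⁻¹ * (m * r * m⁻¹) ∈ F := fun D hD n hn => by
      obtain ⟨Z, g, k⟩ := h.all hD
      have vK := h.nK k k.o.gN
      have e := k.cen h.ai (conj_mem k.o.gN k.jD) k.gj
      have rD : r ∈ D := e ▸ ⟨hr.1, cen_le_cen1 vK hr.2⟩
      have mD : m ∈ N(D) := e ▸ normsI (zpowers_le.2 hm.1) (zpowers_le.2 (le_nrm _ (cen_le_cen1 vK hm.2))) (mem_zpowers m)
      have m' := k.inM (mul_mem (mul_mem hn mD) (inv_mem hn)) (by
        have := mem_cen.1 hm.2 _ (h.nK k (inv_mem hn))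
        calc _ = n * (m * (n⁻¹ * z * n⁻¹⁻¹)) * (m⁻¹ * n⁻¹) := by group
          _ = z := by rw [← this]; group)
      have r' := conj_mem hn rD
      rw [show n * (r⁻¹ * (m * r * m⁻¹)) * n⁻¹ = (n * r * n⁻¹)⁻¹ * (n * m * n⁻¹ * (n * r * n⁻¹) * (n * m * n⁻¹)⁻¹) by group]
      refine (k.o.mem _).1 ?_
      by_cases i : n * r * n⁻¹ ∈ Z
      · exact mul_mem (inv_mem i) (k.nZ m' i)
      · exact H3.mul_mem_of_relIndex_two k.i2 (inv_mem r') (conj_mem m'.1 r') (by rwa [inv_mem_iff]) fun j =>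
          i (by convert k.nZ (inv_mem m') j using 1; group)
    rw [c, mem_bot, inv_mul_eq_one] at this
    exact eq_mul_inv_iff_mul_eq.1 this
  have SR : S ≤ C(S ⊓ C(⟪u⟫ ⊔ ⟪a⟫)) := fun x hx => by
    obtain ⟨k, hk, r, hr, rfl⟩ := h.dec hG hx
    exact mul_mem (centsC inf_le_right hk) ((hA.ab.mono RA).le_cen hr)
  have MR : N(S) ≤ C(S ⊓ C(⟪u⟫ ⊔ ⟪a⟫)) := le_of_forall_syl' fun p P pp hP => by
    by_cases e : p = 2
    · subst e
      exact (h.ai.le le_rfl h.ai.nab (h.ai.pS.sup hP.pi hP.le) le_sup_left).trans' le_sup_right |>.trans SR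
    · exact (le_inf hP.le (h.oddC hP.le (hP.pi.p' e))).trans CR
  have e := h.foc hG le_rfl fun m hm x hx => by
    obtain ⟨k, hk, r, hr, rfl⟩ := h.dec hG hx
    have i := mul_mem (inv_mem hk) (conj_mem (h.MK hm) hk)
    rw [← conj_mul, fx (mem_cen.1 (MR hm) r hr).symm, mul_inv_rev, mul_assoc, ← mul_assoc k⁻¹, mem_cen.1 hr.2 _ i,
      inv_mul_cancel_left]
    exact i
  obtain ⟨n, n1, n2⟩ := h.ord
  have k : H3.MCD S u a (n + 1) := ⟨⟨by omega, n2, fun i => h.aw ((ab_zpowers u).comm i h.wU), h.KS.antisymm e,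
    by rw [sq, h.ia.sq]; exact one_mem _, .inl (h.inv (mem_zpowers u))⟩, h.inv (mem_zpowers u), by rw [sq, h.ia.sq]⟩
  exact .inl ⟨_, Nat.le_self_pow n.succ_ne_zero 2, k.iso⟩

end DH

theorem AI.main [IsSimpleGroup G] (h : AI S) (nab : ¬ IsMulCommutative G) :
    (∃ m : ℕ, 2 ≤ m ∧ Nonempty (S ≃* DihedralGroup m)) ∨ ⁅S, S⁆ ≤ C(S) := by
  have hG : _root_.commutator G = ⊤ := (IsSimpleGroup.eq_bot_or_eq_top_of_normal _ inferInstance).resolve_left fun k =>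
    nab ⟨⟨fun x y => c1.1 (mem_bot.1 (k ▸ commutator_mem_commutator (mem_top x) (mem_top y)))⟩⟩
  by_cases c : ∀ A, EE S A → S ≤ N(A)
  · exact .inr (h.nrm nab c)
  push Not at c
  obtain ⟨A, hA, c⟩ := c
  obtain ⟨B, T, Z, s, g, k⟩ := h.pr hA c
  obtain ⟨a, b, z, h1, h2, h3⟩ := k.start hG
  obtain ⟨u, w, d⟩ := h.dh h1 h2 h3
  exact d.main nab hG

end Ai

end Cfsg.Agent.GO
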