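import Cfsg.Agent.GO.AmM

/-! From the Borel subgroup to the whole amalgam `3² : GL₂(3)`. -/

set_option autoImplicit false

namespace Cfsg.Agent.H10.Am

open Subgroup

variable {G : Type*} [Group G] {a b z t s : G}

theorem pG [Finite G] {A B : Subgroup G} (h : AC a b z t s) (hz : z ≠ 1) (ha : a ∈ A ⊓ B) (hb : b ∈ A ⊓ B)
    (hzA : z ∈ A ⊓ B) (ht : t ∈ A ⊓ B) (hs : s ∈ A ⊓ B) (cA : Nat.card A = 432) (cB : Nat.card B = 432)
    (nA : ∀ g ∈ A, ∀ x ∈ closure ({a, z} : Set G), g * x * g⁻¹ ∈ closure ({a, z} : Set G))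
    (oA : ∀ g ∈ A, g * a = a * g → g * z = z * g → g ∈ closure ({a, z} : Set G))
    (nB : ∀ g ∈ B, ∀ x ∈ closure ({b, z} : Set G), g * x * g⁻¹ ∈ closure ({b, z} : Set G))
    (oB : ∀ g ∈ B, g * b = b * g → g * z = z * g → g ∈ closure ({b, z} : Set G)) (hgen : A ⊔ B = ⊤) :
    ∃ m n, AM a b z t s m n ∧ closure ({a, b, z, t, s, m, n} : Set G) = ⊤ := by
  have e : closure ({b, z⁻¹} : Set G) = closure {b, z} := by
    refine le_antisymm ((closure_le _).2 ?_) ((closure_le _).2 ?_)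
    · rintro y (rfl | rfl)
      · exact subset_closure (by simp)
      · exact inv_mem (subset_closure (by simp))
    · rintro y (rfl | rfl)
      · exact subset_closure (by simp)
      · exact inv_mem_iff.1 (subset_closure (by simp))
  obtain ⟨m, -, m1, m2, m3, m4, m5, m6⟩ := pM h hz ha.1 hb.1 hzA.1 ht.1 hs.1 cA nA oA
  obtain ⟨n, -, n1, n2, n3, n4, n5, n6⟩ := pM h.pM_symm (inv_ne_one.2 hz) hb.2 ha.2 (inv_mem hzA.2) hs.2 ht.2 cB
    (e ▸ nB) (fun g hg k1 k2 => e ▸ oB g hg k1 (Commute.inv_right_iff.1 k2).eq)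
  refine ⟨m, n, ⟨h, m1, m2, m3, m4, m5, n1, n2.trans h.ts.symm, n3.trans (inv_inv z), ?_, n5⟩, ?_⟩
  · rw [← n4]; group
  · rw [eq_top_iff, ← hgen, m6, n6, sup_le_iff]
    refine ⟨closure_mono ?_, (closure_le _).2 ?_⟩
    · rintro y (rfl | rfl | rfl | rfl | rfl | rfl) <;> simp
    · rintro y (rfl | rfl | rfl | rfl | rfl | rfl)
      iterate 2 exact subset_closure (by simp)
      · exact inv_mem (subset_closure (by simp))
      iterate 3 exact subset_closure (by simp)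

theorem pG_O (h : AC a b z t s) {x : G} (hx : x ∈ closure ({a, z} : Set G)) : ∃ i < 3, ∃ j : ℕ, x = a ^ i * z ^ j := by
  have a3 : a ^ 3 = 1 := by rw [pow_three', h.a3]
  have z3 : z ^ 3 = 1 := by rw [pow_three', h.z3]
  have az : Commute a z := h.az
  have em : ∀ i j k l : ℕ, a ^ i * z ^ j * (a ^ k * z ^ l) = a ^ (i + k) * z ^ (j + l) := fun i j k l => by
    simp only [pow_add]
    exact (az.symm.pow_pow _ _).mul_mul_mul_comm _ _
  have : ∃ i j : ℕ, x = a ^ i * z ^ j := by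
    induction hx using closure_induction with
    | mem x hx =>
      rcases hx with rfl | rfl
      · exact ⟨1, 0, by simp⟩
      · exact ⟨0, 1, by simp⟩
    | one => exact ⟨0, 0, by simp⟩
    | mul x y _ _ hx hy =>
      obtain ⟨i, j, rfl⟩ := hx
      obtain ⟨k, l, rfl⟩ := hy
      exact ⟨_, _, em ..⟩
    | inv x _ hx =>
      obtain ⟨i, j, rfl⟩ := hx
      refine ⟨2 * i, 2 * j, ?_⟩
      rw [inv_eq_iff_mul_eq_one, em, show i + 2 * i = 3 * i by ring, show j + 2 * j = 3 * j by ring, pow_mul, pow_mul, a3, z3]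
      simp
  obtain ⟨i, j, rfl⟩ := this
  exact ⟨i % 3, Nat.mod_lt _ (by norm_num), j, by rw [← pow_eq_pow_mod _ a3]⟩

theorem pH {A : Subgroup G} (h : AC a b z t s) (hz : z ≠ 1) (hb : b ∈ A) (ht : t ∈ A) (hs : s ∈ A)
    (nO : ∀ g ∈ A, ∀ x ∈ closure ({a, z} : Set G), g * x * g⁻¹ ∈ closure ({a, z} : Set G))
    (cO : ∀ g ∈ A, g * a = a * g → g * z = z * g → g ∈ closure ({a, z} : Set G)) :
    ∀ g ∈ A, Commute g z → g ∈ closure ({a, b, z, t, s} : Set G) := fun g hg gz => by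
  have a3 : a ^ 3 = 1 := by rw [pow_three', h.a3]
  have z3 : z ^ 3 = 1 := by rw [pow_three', h.z3]
  have az : Commute a z := h.az
  have bz : Commute b z := h.bz
  have mH : ∀ y ∈ ({a, b, z, t, s} : Set G), y ∈ closure ({a, b, z, t, s} : Set G) := fun y hy => subset_closure hy
  have same : ∀ k ∈ A, k ∈ closure ({a, b, z, t, s} : Set G) → Commute k z → g * a * g⁻¹ = k * a * k⁻¹ →
      g ∈ closure ({a, b, z, t, s} : Set G) := fun k hk k1 k2 e1 => by
    have := cO _ (A.mul_mem (A.inv_mem hk) hg) (by rw [mul_assoc, mul_inv_eq_iff_eq_mul.1 e1]; group)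
      (k2.inv_left.mul_left gz).eq
    have := mul_mem k1 (closure_mono (by rintro y (rfl | rfl) <;> simp) this)
    rwa [mul_inv_cancel_left] at this
  have d1 : b * a * b⁻¹ = a * z ^ 2 := by
    rw [(az.pow_right 2).eq, show z ^ 2 = z⁻¹ by rw [eq_inv_iff_mul_eq_one, ← pow_succ, z3], ← h.ab]; group
  have dn : ∀ n : ℕ, b ^ n * a * (b ^ n)⁻¹ = a * z ^ (2 * n) := fun n => by
    induction n with
    | zero => simp
    | succ n ih =>
      calc b ^ (n + 1) * a * (b ^ (n + 1))⁻¹ = b * (b ^ n * a * (b ^ n)⁻¹) * b⁻¹ := by group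
        _ = b * a * b⁻¹ * (b * z ^ (2 * n) * b⁻¹) := by rw [ih]; group
        _ = _ := by rw [d1, (bz.pow_right _).eq, mul_inv_cancel_right, mul_assoc, ← pow_add]; ring_nf
  obtain ⟨i, hi, j, e⟩ := pG_O h (nO g hg a (subset_closure (by simp)))
  interval_cases i
  · exfalso
    have k : a = z ^ j := by
      rw [pow_zero, one_mul, mul_inv_eq_iff_eq_mul, ← (gz.pow_right j).eq] at e
      exact mul_left_cancel e
    exact hz (by rw [← h.ab, k, ← (bz.pow_right j).eq]; group)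
  · refine same (b ^ (2 * j)) (pow_mem hb _) (pow_mem (mH _ (by simp)) _) (bz.pow_left _) ?_
    rw [dn, e, pow_one, show 2 * (2 * j) = 3 * j + j by ring, pow_add, pow_mul, z3, one_pow, one_mul]
  · have tsz : Commute (t * s) z := mul_inv_eq_iff_eq_mul.1 (by
      calc t * s * z * (t * s)⁻¹ = t * (s * z * s⁻¹) * t⁻¹ := by group
        _ = (t * z * t⁻¹)⁻¹ := by rw [h.sz]; group
        _ = z := by rw [h.tz, inv_inv])
    refine same (b ^ j * (t * s)) (mul_mem (pow_mem hb _) (mul_mem ht hs))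
      (mul_mem (pow_mem (mH _ (by simp)) _) (mul_mem (mH _ (by simp)) (mH _ (by simp)))) ((bz.pow_left _).mul_left tsz) ?_
    calc g * a * g⁻¹ = (a * z ^ (2 * j))⁻¹ := by
          rw [e, eq_inv_iff_mul_eq_one, ((az.symm.pow_left j).mul_mul_mul_comm _ _), ← pow_succ, a3, ← pow_add,
            show j + 2 * j = 3 * j by ring, pow_mul, z3, one_pow, one_mul]
      _ = b ^ j * (t * a * t⁻¹) * (b ^ j)⁻¹ := by rw [← dn, h.ta]; group
      _ = b ^ j * (t * (s * a * s⁻¹) * t⁻¹) * (b ^ j)⁻¹ := by rw [h.sa, mul_inv_cancel_right]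
      _ = _ := by group

end Cfsg.Agent.H10.Am
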