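import Cfsg.Agent.H10.Am0

/-! The element `m` of the amalgam `3² : GL₂(3)`. -/

set_option autoImplicit false
set_option maxRecDepth 100000

namespace Cfsg.Agent.H10.Am

open Subgroup

variable {G : Type*} [Group G] {a b z t s : G}

theorem AC.pM_symm (h : AC a b z t s) : AC b a z⁻¹ s t where
  a3 := h.b3
  b3 := h.a3
  z3 := by rw [← mul_inv_rev, ← mul_inv_rev, ← mul_assoc, h.z3, inv_one]
  tt := h.ss
  ss := h.tt
  ts := h.ts.symm
  az := (Commute.inv_right h.bz).eq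
  bz := (Commute.inv_right h.az).eq
  ab := by rw [← h.ab]; group
  ta := h.sb
  tb := h.sa
  tz := by rw [← conj_inv, h.sz]
  sa := h.tb
  sb := h.ta
  sz := by rw [← conj_inv, h.tz]

def pM_f (i : ℕ) (p : ℕ × ℕ) : ℕ × ℕ :=
  if i = 0 then (p.2, 2 * p.1 % 3) else if i = 1 then (p.1, (2 * p.1 + p.2) % 3) else (p.1, 2 * p.2 % 3)

def pM_T : Finset ((ℕ × ℕ) × ℕ × ℕ) :=
  ((Finset.range 3 ×ˢ Finset.range 3) ×ˢ (Finset.range 3 ×ˢ Finset.range 3)).filter fun x =>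
    x.1 ≠ (0, 0) ∧ x.2 ≠ (0, 0) ∧ x.2 ≠ x.1 ∧ x.2 ≠ (2 * x.1.1 % 3, 2 * x.1.2 % 3)

theorem pM_c : (pM_T.erase ((0, 2), (1, 0))).card = 47 := by decide +kernel

theorem pM_w : ∀ x ∈ pM_T, ∃ w ∈ ([[], [0], [1], [2], [0, 0], [1, 0], [2, 0], [0, 1], [1, 1], [2, 1], [0, 2], [1, 2], [0, 0, 0], [1, 0, 0], [2, 0, 0], [0, 1, 0], [1, 1, 0], [2, 1, 0], [1, 2, 0], [1, 0, 1], [2, 0, 1], [0, 1, 1], [0, 2, 1], [1, 0, 2], [0, 1, 2], [1, 0, 0, 0], [0, 1, 0, 0], [1, 1, 0, 0], [2, 1, 0, 0], [1, 2, 0, 0], [1, 0, 1, 0], [2, 0, 1, 0], [0, 2, 1, 0], [0, 1, 2, 0], [0, 1, 0, 1], [1, 1, 0, 1], [2, 1, 0, 1], [1, 2, 0, 1], [1, 0, 1, 1], [2, 0, 1, 1], [1, 0, 2, 1], [1, 1, 0, 2], [0, 1, 0, 0, 0], [1, 0, 1, 0, 0], [1, 1, 0, 1, 0], [1, 2, 0, 1, 0], [1, 0, 2, 1, 0], [0, 1, 0, 1, 1]] : List (List ℕ)),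
    w.foldr pM_f (1, 0) = x.1 ∧ w.foldr pM_f (0, 1) = x.2 := by decide +kernel

theorem pM [Finite G] {A : Subgroup G} (h : AC a b z t s) (hz : z ≠ 1) (ha : a ∈ A) (hb : b ∈ A) (hzA : z ∈ A)
    (ht : t ∈ A) (hs : s ∈ A) (cA : Nat.card A = 432)
    (nO : ∀ g ∈ A, ∀ x ∈ closure ({a, z} : Set G), g * x * g⁻¹ ∈ closure ({a, z} : Set G))
    (cO : ∀ g ∈ A, g * a = a * g → g * z = z * g → g ∈ closure ({a, z} : Set G)) :
    ∃ m ∈ A, m * m = t ∧ m * s * m⁻¹ = t * s ∧ m * a * m⁻¹ = z⁻¹ ∧ m * z * m⁻¹ = a ∧ (m * b) ^ 3 = 1 ∧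
      A = closure {a, b, z, t, s, m} := by
  classical
  have a3 : a ^ 3 = 1 := by rw [pow_three', h.a3]
  have z3 : z ^ 3 = 1 := by rw [pow_three', h.z3]
  have ai : a⁻¹ = a ^ 2 := by rw [inv_eq_iff_mul_eq_one, ← pow_succ', a3]
  have zi : z⁻¹ = z ^ 2 := by rw [inv_eq_iff_mul_eq_one, ← pow_succ', z3]
  have az : Commute a z := h.az
  obtain ⟨e, he⟩ : ∃ e : ℕ × ℕ → G, ∀ p, e p = a ^ p.1 * z ^ p.2 := ⟨_, fun _ => rfl⟩
  have em : ∀ p q, e p * e q = e (p.1 + q.1, p.2 + q.2) := fun p q => by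
    simp only [he, pow_add]
    exact (az.symm.pow_pow _ _).mul_mul_mul_comm _ _
  have e3 : ∀ i j, e (i % 3, j % 3) = e (i, j) := fun i j => by
    simp only [he, ← pow_eq_pow_mod _ a3, ← pow_eq_pow_mod _ z3]
  have ei : ∀ p, e (2 * p.1 % 3, 2 * p.2 % 3) = (e p)⁻¹ := fun p => by
    rw [e3, eq_inv_iff_mul_eq_one, em, ← e3, show (2 * p.1 + p.1) % 3 = 0 by omega,
      show (2 * p.2 + p.2) % 3 = 0 by omega, he]
    simp
  have hO : ∀ x ∈ closure ({a, z} : Set G), ∃ p ∈ Finset.range 3 ×ˢ Finset.range 3, e p = x := fun x hx => by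
    have : ∃ p, e p = x := by
      induction hx using closure_induction with
      | mem x hx =>
        rcases hx with rfl | rfl
        · exact ⟨(1, 0), by simp [he]⟩
        · exact ⟨(0, 1), by simp [he]⟩
      | one => exact ⟨(0, 0), by simp [he]⟩
      | mul x y _ _ hx hy =>
        obtain ⟨p, rfl⟩ := hx
        obtain ⟨q, rfl⟩ := hy
        exact ⟨_, (em p q).symm⟩
      | inv x _ hx =>
        obtain ⟨p, rfl⟩ := hx
        exact ⟨_, ei p⟩
    obtain ⟨p, rfl⟩ := this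
    exact ⟨(p.1 % 3, p.2 % 3), by simp [Nat.mod_lt], e3 _ _⟩
  have aO : a ∈ closure ({a, z} : Set G) := subset_closure (by simp)
  have zO : z ∈ closure ({a, z} : Set G) := subset_closure (by simp)
  have OA : closure ({a, z} : Set G) ≤ A := (closure_le _).2 (by rintro x (rfl | rfl) <;> assumption)
  have nab : a * b ≠ b * a := fun e => hz (by rw [← h.ab, e]; group)
  have hT : ∀ g ∈ A, ∃ x ∈ pM_T, e x.1 = g * a * g⁻¹ ∧ e x.2 = g * z * g⁻¹ := fun g hg => by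
    obtain ⟨p, hp, e1⟩ := hO _ (nO g hg a aO)
    obtain ⟨q, hq, e2⟩ := hO _ (nO g hg z zO)
    refine ⟨(p, q), Finset.mem_filter.2 ⟨Finset.mem_product.2 ⟨hp, hq⟩, ?_, ?_, ?_, ?_⟩, e1, e2⟩
    · rintro rfl
      have : a = 1 := by simpa [he] using e1.symm
      exact nab (by simp [this])
    · rintro rfl
      exact hz (by simpa [he] using e2.symm)
    · rintro (rfl : q = p)
      have : a = z := by simpa using e1.symm.trans e2
      exact nab (by rw [this, h.bz])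
    · rintro (rfl : q = (2 * p.1 % 3, 2 * p.2 % 3))
      have : z = a⁻¹ := by
        rw [ei, e1, conj_inv] at e2
        simpa using e2.symm
      exact nab (by have k := h.bz; rw [this] at k; exact (Commute.inv_right_iff.1 k).eq.symm)
  have same : ∀ g ∈ A, ∀ k ∈ A, g * a * g⁻¹ = k * a * k⁻¹ → g * z * g⁻¹ = k * z * k⁻¹ →
      k⁻¹ * g ∈ closure ({a, z} : Set G) := fun g hg k hk e1 e2 =>
    cO _ (A.mul_mem (A.inv_mem hk) hg)
      (by rw [mul_assoc, mul_inv_eq_iff_eq_mul.1 e1]; group) (by rw [mul_assoc, mul_inv_eq_iff_eq_mul.1 e2]; group)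
  have eO : ∀ x ∈ closure ({a, z} : Set G), x * a = a * x ∧ x * z = z * x ∧ t * x * t⁻¹ = x⁻¹ ∧ x * x * x = 1 :=
    fun x hx => by
    obtain ⟨p, -, rfl⟩ := hO x hx
    refine ⟨?_, ?_, ?_, ?_⟩
    · rw [he]; exact (((Commute.refl a).pow_left _).mul_left (az.symm.pow_left _)).eq
    · rw [he]; exact ((az.pow_left _).mul_left ((Commute.refl z).pow_left _)).eq
    · rw [he, ← conj_mul, ← conj_pow, ← conj_pow, h.ta, h.tz, mul_inv_rev, inv_pow, inv_pow]
      exact (az.pow_pow _ _).inv_inv.eq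
    · rw [em, em, ← e3, show (p.1 + p.1 + p.1) % 3 = 0 by omega, show (p.2 + p.2 + p.2) % 3 = 0 by omega, he]
      simp
  obtain ⟨m0, hm0, k1, k2⟩ : ∃ m0 ∈ A, m0 * a * m0⁻¹ = z⁻¹ ∧ m0 * z * m0⁻¹ = a := by
    by_contra! hn
    have := Fintype.ofFinite A
    choose χ h1 h2 h3 using fun g : A => hT g g.2
    obtain ⟨y, -, hy⟩ := Finset.exists_lt_card_fiber_of_mul_lt_card_of_maps_to (s := Finset.univ)
      (t := pM_T.erase ((0, 2), (1, 0))) (f := χ) (n := 9)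
      (fun g _ => Finset.mem_erase.2 ⟨fun k => hn g g.2 (by rw [← h2, k, he, zi]; simp) (by rw [← h3, k, he]; simp), h1 g⟩)
      (by rw [pM_c, Finset.card_univ, ← Nat.card_eq_fintype_card, cA]; norm_num)
    obtain ⟨g0, hg0⟩ := Finset.card_pos.1 (lt_trans (by norm_num) hy)
    have : ∀ g : A, ∃ p ∈ Finset.range 3 ×ˢ Finset.range 3, χ g = y → e p = (g0 : G)⁻¹ * g := fun g => by
      by_cases k : χ g = y
      · have k' : χ g = χ g0 := k.trans (Finset.mem_filter.1 hg0).2.symm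
        obtain ⟨p, hp, e1⟩ := hO _ (same g g.2 g0 g0.2 (by rw [← h2, ← h2, k']) (by rw [← h3, ← h3, k']))
        exact ⟨p, hp, fun _ => e1⟩
      · exact ⟨(0, 0), by simp, fun k' => absurd k' k⟩
    choose ψ p1 p2 using this
    have := Finset.card_le_card_of_injOn (s := Finset.univ.filter fun g => χ g = y) ψ (fun g _ => Finset.mem_coe.2 (p1 g))
      (fun g hg g' hg' k => Subtype.ext (mul_left_cancel (a := (g0 : G)⁻¹) (by
        rw [← p2 g (Finset.mem_filter.1 hg).2, ← p2 g' (Finset.mem_filter.1 hg').2, k])))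
    simp only [Finset.card_product, Finset.card_range] at this
    omega
  have ti : t⁻¹ = t := inv_eq_of_mul_eq_one_right h.tt
  have uO : (m0 * t)⁻¹ * (t * m0) ∈ closure ({a, z} : Set G) := by
    refine same _ (A.mul_mem ht hm0) _ (A.mul_mem hm0 ht) ?_ ?_
    · calc t * m0 * a * (t * m0)⁻¹ = t * (m0 * a * m0⁻¹) * t⁻¹ := by group
        _ = (t * z * t⁻¹)⁻¹ := by rw [k1]; group
        _ = (m0 * a * m0⁻¹)⁻¹ := by rw [h.tz, k1]
        _ = m0 * (t * a * t⁻¹) * m0⁻¹ := by rw [h.ta]; group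
        _ = _ := by group
    · calc t * m0 * z * (t * m0)⁻¹ = t * (m0 * z * m0⁻¹) * t⁻¹ := by group
        _ = (m0 * z * m0⁻¹)⁻¹ := by rw [k2, h.ta]
        _ = m0 * (t * z * t⁻¹) * m0⁻¹ := by rw [h.tz]; group
        _ = _ := by group
  obtain ⟨u, hu⟩ : ∃ u, u = (m0 * t)⁻¹ * (t * m0) := ⟨_, rfl⟩
  rw [← hu] at uO
  obtain ⟨u1, u2, u3, u4⟩ := eO u uO
  obtain ⟨m, hm⟩ : ∃ m, m = m0 * u := ⟨_, rfl⟩
  have hmA : m ∈ A := hm ▸ A.mul_mem hm0 (OA uO)
  have ma : m * a * m⁻¹ = z⁻¹ := by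
    rw [← k1, hm, mul_assoc m0, u1]; group
  have mz : m * z * m⁻¹ = a := by
    rw [← k2, hm, mul_assoc m0, u2]; group
  have mt : m * t * m⁻¹ = t := by
    have k3 : t * m0 = m0 * t * u := by rw [hu]; group
    have k4 : u * t = t * u⁻¹ := by
      rw [eq_mul_inv_iff_mul_eq, mul_assoc, mul_inv_eq_iff_eq_mul.1 u3]; group
    have k5 : u * u = u⁻¹ := eq_inv_of_mul_eq_one_left u4
    rw [mul_inv_eq_iff_eq_mul, hm, mul_assoc, k4, ← mul_assoc t, k3, mul_assoc _ u, k5, mul_assoc]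
  have K : ∀ g ∈ A, ∀ k ∈ A, MulAut.conj g a = MulAut.conj k a → MulAut.conj g z = MulAut.conj k z →
      MulAut.conj g t = MulAut.conj k t → g = k := fun g hg k hk e1 e2 e3 => by
    obtain ⟨-, -, v3, v4⟩ := eO _ (same g hg k hk e1 e2)
    have v5 : k⁻¹ * g * t = t * (k⁻¹ * g) := by
      rw [mul_assoc, mul_inv_eq_iff_eq_mul.1 (show g * t * g⁻¹ = k * t * k⁻¹ from e3)]; group
    rw [← v5, mul_inv_cancel_right, eq_inv_iff_mul_eq_one] at v3
    rw [v3, one_mul, inv_mul_eq_one] at v4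
    exact v4.symm
  have c1 : MulAut.conj m a = z⁻¹ := ma
  have c2 : MulAut.conj m z = a := mz
  have c3 : MulAut.conj m t = t := mt
  have c4 : MulAut.conj t a = a⁻¹ := h.ta
  have c5 : MulAut.conj t z = z⁻¹ := h.tz
  have c6 : MulAut.conj t t = t := mul_inv_cancel_right t t
  have c7 : MulAut.conj s a = a := mul_inv_eq_iff_eq_mul.2 h.sa
  have c8 : MulAut.conj s z = z⁻¹ := h.sz
  have c9 : MulAut.conj s t = t := mul_inv_eq_iff_eq_mul.2 h.ts.symm
  have d1 : MulAut.conj b a = z⁻¹ * a := by rw [← h.ab, MulAut.conj_apply]; group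
  have d2 : MulAut.conj b z = z := mul_inv_eq_iff_eq_mul.2 h.bz
  have d3 : MulAut.conj b t = t := mul_inv_eq_iff_eq_mul.2 h.tb.symm
  refine ⟨m, hmA, K _ (A.mul_mem hmA hmA) _ ht ?_ ?_ ?_, mul_inv_eq_iff_eq_mul.2
    (K _ (A.mul_mem hmA hs) _ (A.mul_mem (A.mul_mem ht hs) hmA) ?_ ?_ ?_), ma, mz,
    K _ (A.pow_mem (A.mul_mem hmA hb) _) _ A.one_mem ?_ ?_ ?_, le_antisymm (fun g hg => ?_) ?_⟩
  iterate 9 simp only [pow_three, map_mul, MulAut.mul_apply, map_inv, c1, c2, c3, c4, c5, c6, c7, c8, c9, d1, d2, d3,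
    inv_inv, map_one, MulAut.one_apply, mul_inv_rev, mul_inv_cancel_right]
  · obtain ⟨x, hx, e1, e2⟩ := hT g hg
    obtain ⟨w, -, w1, w2⟩ := pM_w x hx
    have mH : ∀ y ∈ ({a, b, z, t, s, m} : Set G), y ∈ closure ({a, b, z, t, s, m} : Set G) := fun y hy => subset_closure hy
    have : ∀ w : List ℕ, ∃ k ∈ closure ({a, b, z, t, s, m} : Set G), k ∈ A ∧
        ∀ p, e (w.foldr pM_f p) = MulAut.conj k (e p) := fun w => by
      induction w with
      | nil => exact ⟨1, one_mem _, one_mem _, fun p => by simp⟩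
      | cons i w ih =>
        obtain ⟨k, k1, k2, k3⟩ := ih
        by_cases i0 : i = 0
        · refine ⟨m * k, mul_mem (mH _ (by simp)) k1, mul_mem hmA k2, fun p => ?_⟩
          rw [map_mul, MulAut.mul_apply, ← k3, List.foldr_cons, pM_f, if_pos i0, he, he, map_mul, map_pow, map_pow, c1, c2,
            zi, ← pow_mul, ← pow_eq_pow_mod _ z3]
          exact (az.pow_pow _ _).eq
        by_cases i1 : i = 1
        · refine ⟨b * k, mul_mem (mH _ (by simp)) k1, mul_mem hb k2, fun p => ?_⟩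
          rw [map_mul, MulAut.mul_apply, ← k3, List.foldr_cons, pM_f, if_neg i0, if_pos i1, he, he, map_mul, map_pow,
            map_pow, d1, d2, zi, ← (az.pow_right 2).eq, (az.pow_right 2).mul_pow, ← pow_mul, ← pow_eq_pow_mod _ z3,
            pow_add, mul_assoc]
        · refine ⟨s * k, mul_mem (mH _ (by simp)) k1, mul_mem hs k2, fun p => ?_⟩
          rw [map_mul, MulAut.mul_apply, ← k3, List.foldr_cons, pM_f, if_neg i0, if_neg i1, he, he, map_mul, map_pow,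
            map_pow, c7, c8, zi, ← pow_mul, ← pow_eq_pow_mod _ z3]
    obtain ⟨k, k1, k2, k3⟩ := this w
    have := same g hg k k2 (by rw [← e1, ← w1, k3, he]; simp) (by rw [← e2, ← w2, k3, he]; simp)
    have := mul_mem k1 (closure_mono (by rintro y (rfl | rfl) <;> simp) this)
    rwa [mul_inv_cancel_left] at this
  · refine (closure_le _).2 ?_
    rintro y (rfl | rfl | rfl | rfl | rfl | rfl) <;> assumption

end Cfsg.Agent.H10.Am
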