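import Cfsg.Agent.GO.N27

/-! Involutions acting on an extraspecial `2`-group. -/

set_option autoImplicit false
set_option linter.unusedSectionVars false
set_option linter.unusedVariables false
set_option linter.style.haveILetI false

namespace Cfsg.Agent.GO

open Cfsg Subgroup Cfsg.Agent.FT Cfsg.Agent.GW
open scoped commutatorElement

universe u

variable {G : Type u} [Group G] [Finite G] {D : Set G} {p : ℕ}
  {A B E H J K L M P Q R S T U V W X Y Z : Subgroup G} {a b d e g r s t v w x y z : G}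

/-- the commutators of the elements of `E` with `t` -/
def cs (E : Subgroup G) (t : G) : Set G := {x | ∃ g ∈ E, ⁅g, t⁆ = x}

theorem comm_eq_iff : ⁅a, t⁆ = ⁅b, t⁆ ↔ a⁻¹ * b ∈ C[t] := by
  rw [mem_cen1]
  simp only [commutatorElement_def]
  constructor
  · intro h1
    calc a⁻¹ * b * t = a⁻¹ * (b * t * b⁻¹ * t⁻¹) * t * b := by group
      _ = t * (a⁻¹ * b) := by rw [← h1]; group
  · intro h1
    calc a * t * a⁻¹ * t⁻¹ = a * (t * (a⁻¹ * b)) * b⁻¹ * t⁻¹ := by group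
      _ = b * t * b⁻¹ * t⁻¹ := by rw [← h1]; group

theorem card_cs (E : Subgroup G) (t : G) : (cs E t).ncard = C[t].relIndex E := by
  let f : E ⧸ C[t].subgroupOf E → G := Quotient.lift (fun g : E => ⁅(g : G), t⁆) fun a b h =>
    comm_eq_iff.2 (mem_subgroupOf.1 (QuotientGroup.leftRel_apply.1 h))
  have hf : Function.Injective f := by
    rintro ⟨a⟩ ⟨b⟩ h
    exact Quotient.sound (QuotientGroup.leftRel_apply.2 (mem_subgroupOf.2 (comm_eq_iff.1 h)))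
  have e : cs E t = Set.range f := by
    ext x
    exact ⟨fun ⟨g, hg, e⟩ => ⟨((⟨g, hg⟩ : E) : E ⧸ _), e⟩, by rintro ⟨⟨g⟩, e⟩; exact ⟨g, g.2, e⟩⟩
  rw [e, Set.ncard_range_of_injective hf]; rfl

theorem card_mul_cs (E : Subgroup G) (t : G) : #(E ⊓ C[t]) * (cs E t).ncard = #E := by
  rw [card_cs, inf_comm, FT.card_inf_mul_relIndex]

theorem cs_eq (h1 : ∀ g ∈ E, ⁅g, t⁆ ∈ V) (h2 : #V ≤ (cs E t).ncard) : cs E t = V :=
  Set.eq_of_subset_of_ncard_le (by rintro _ ⟨g, hg, rfl⟩; exact h1 g hg) h2 (Set.toFinite _)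

theorem cs_le (h1 : ∀ g ∈ E, ⁅g, t⁆ ∈ V) : (cs E t).ncard ≤ #V :=
  Set.ncard_le_ncard (t := (V : Set G)) (by rintro _ ⟨g, hg, rfl⟩; exact h1 g hg) (Set.toFinite _)

/-- an involution `t` normalizing the extraspecial group `E` -/
structure Ac (E : Subgroup G) (z t : G) : Prop where
  xs : H3.XS 2 E z
  nE : t ∈ N(E)
  t2 : t * t = 1
  cz : t * z = z * t

namespace Ac
variable (h : Ac E z t)
include h

theorem ti : t⁻¹ = t := inv_eq_of_mul_eq_one_right h.t2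
theorem mem (hg : g ∈ E) : ⁅g, t⁆ ∈ E := comm_le_left (zpowers_le.2 h.nE) (commutator_mem_commutator hg (mem_zpowers t))
theorem inv (g : G) : t * ⁅g, t⁆ * t⁻¹ = ⁅g, t⁆⁻¹ := by
  rw [commutatorElement_inv, commutatorElement_def, commutatorElement_def, h.ti, mul_assoc, mul_assoc, h.t2]; group
theorem sq (g : G) : ⁅⁅g, t⁆, t⁆ = ⁅g, t⁆ ^ 2 := by
  have := h.inv g
  generalize ⁅g, t⁆ = x at *
  calc _ = x * (t * x * t⁻¹)⁻¹ := by rw [commutatorElement_def]; group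
    _ = _ := by rw [this, inv_inv, pow_two]
theorem zt (hw : w ∈ ⟪z⟫) : w * t = t * w := (mem_cen1.1 (zpowers_le.2 (mem_cen1.2 h.cz.symm) hw))
theorem zF : z ∈ E ⊓ C[t] := ⟨h.xs.mem, mem_cen1.2 h.cz.symm⟩

/-- the preimage of the fixed points on `E / Z(E)` -/
def C : Subgroup G where
  carrier := {c | c ∈ E ∧ ⁅c, t⁆ ∈ ⟪z⟫}
  one_mem' := ⟨one_mem _, by simp⟩
  mul_mem' := by
    rintro a b ⟨h1, h2⟩ ⟨k1, k2⟩
    refine ⟨mul_mem h1 k1, ?_⟩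
    rw [H3.comm_mul_left_of_commute (h.xs.commute_z h1 k2)]
    exact mul_mem k2 h2
  inv_mem' := by
    rintro a ⟨h1, h2⟩
    refine ⟨inv_mem h1, ?_⟩
    rw [H3.comm_inv_left (h.xs.commute_z h1 h2)]
    exact inv_mem h2

theorem mem_C : x ∈ h.C ↔ x ∈ E ∧ ⁅x, t⁆ ∈ ⟪z⟫ := Iff.rfl
theorem C_le : h.C ≤ E := fun _ k => k.1
theorem F_le : E ⊓ C[t] ≤ h.C := fun x k =>
  ⟨k.1, by rw [commutatorElement_eq_one_iff_mul_comm.2 (mem_cen1.1 k.2)]; exact one_mem _⟩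
theorem C_inf : h.C ⊓ C[t] = E ⊓ C[t] := le_antisymm (inf_le_inf_right _ h.C_le) (le_inf h.F_le inf_le_right)
theorem memC (hg : g ∈ E) : ⁅g, t⁆ ∈ h.C := ⟨h.mem hg, h.sq g ▸ h.xs.pow_mem (h.mem hg)⟩

theorem cenC (hg : g ∈ E) : ⁅g, t⁆ ∈ C(h.C) := FT.mem_cen.2 fun c hc => by
  have m : t * g⁻¹ * t⁻¹ ∈ E := conj_mem h.nE (inv_mem hg)
  have e1 : ⁅g, t⁆ = g * (t * g⁻¹ * t⁻¹) := by rw [commutatorElement_def]; group
  have e2 : ⁅c, t * g⁻¹ * t⁻¹⁆ = t * ⁅⁅c, t⁆⁻¹ * c, g⁻¹⁆ * t⁻¹ := by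
    have e3 : ⁅c, t⁆⁻¹ * c = t⁻¹ * c * t := by
      rw [commutatorElement_inv, commutatorElement_def, h.ti, inv_mul_cancel_right]
    rw [e3]; simp only [commutatorElement_def]; group
  have m2 : ⁅c, t⁆⁻¹ ∈ E := h.xs.zle (inv_mem hc.2)
  rw [← commutatorElement_eq_one_iff_mul_comm, e1, h.xs.comm_mul_right hc.1 hg m, e2,
    h.xs.comm_mul_left m2 hc.1 (inv_mem hg), commutatorElement_eq_one_iff_mul_comm.2
      (h.xs.commute_z (inv_mem hg) (inv_mem hc.2)).symm.eq, one_mul, ← h.zt (h.xs.comm c hc.1 _ (inv_mem hg)),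
    mul_inv_cancel_right, ← h.xs.comm_mul_right hc.1 hg (inv_mem hg), mul_inv_cancel, commutatorElement_one_right]

theorem cenF (hg : g ∈ E) : ⁅g, t⁆ ∈ E ⊓ C(E ⊓ C[t]) := ⟨h.mem hg, cen_anti h.F_le (h.cenC hg)⟩

theorem card_W : #(E ⊓ C(E ⊓ C[t])) = 2 * (cs E t).ncard := by
  have h1 := h.xs.card_perp (inf_le_left : E ⊓ C[t] ≤ E) h.zF
  rw [← card_mul_cs E t] at h1
  exact Nat.eq_of_mul_eq_mul_left (FT.card_pos _) (h1.trans (by ring))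

theorem sq_of (hx : x ∈ cs E t) (hF : x ∈ C[t]) : x * x = 1 := by
  obtain ⟨g, hg, rfl⟩ := hx
  rw [← pow_two, ← h.sq, commutatorElement_eq_one_iff_mul_comm]; exact mem_cen1.1 hF

theorem C_one (hn : z ∉ cs E t) : h.C ≤ C[t] := fun c hc =>
  mem_cen1.2 (commutatorElement_eq_one_iff_mul_comm.1
    (((H3.mem_zpowers_two h.xs.z_pow).1 hc.2).resolve_right fun e => hn ⟨c, hc.1, e⟩))

theorem one_or (hn : z ∉ cs E t) (hw : w ∈ E ⊓ C(E ⊓ C[t])) : w ∈ cs E t ∨ w * z ∈ cs E t := by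
  have zz := h.xs.x2.zz
  have hd : Disjoint (cs E t) ((· * z) '' cs E t) := Set.disjoint_left.2 (by
    rintro _ ⟨g, hg, rfl⟩ ⟨_, ⟨g', hg', rfl⟩, e⟩
    refine hn ⟨g'⁻¹ * g, mul_mem (inv_mem hg') hg, ?_⟩
    have c := (h.xs.commute_z (inv_mem hg') (mem_zpowers z)).eq
    have c2 := (h.xs.commute_z (h.mem hg') (mem_zpowers z)).eq
    calc _ = g'⁻¹ * ⁅g, t⁆ * (t * g' * t⁻¹) := by simp only [commutatorElement_def]; group
      _ = g'⁻¹ * (z * ⁅g', t⁆) * (t * g' * t⁻¹) := by rw [← e, ← c2]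
      _ = z := by rw [← mul_assoc g'⁻¹ z, c]; simp only [commutatorElement_def]; group)
  have e : cs E t ∪ (· * z) '' cs E t = (E ⊓ C(E ⊓ C[t]) : Subgroup G) := Set.eq_of_subset_of_ncard_le (by
    rintro _ (⟨g, hg, rfl⟩ | ⟨_, ⟨g, hg, rfl⟩, rfl⟩)
    · exact h.cenF hg
    · exact mul_mem (h.cenF hg) ⟨h.xs.mem, cen_anti inf_le_left h.xs.cen⟩) (by
    rw [Set.ncard_union_eq hd, Set.ncard_image_of_injective _ (mul_left_injective z), ← two_mul, ← h.card_W]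
    rfl) (Set.toFinite _)
  rcases (e.symm ▸ hw : w ∈ cs E t ∪ (· * z) '' cs E t) with k | ⟨x, hx, rfl⟩
  · exact .inl k
  · exact .inr (by rwa [mul_assoc, zz, mul_one])

theorem one_F (hn : z ∉ cs E t) (hw : w ∈ E ⊓ C(E ⊓ C[t])) : w ∈ C[t] ∧ w * w = 1 := by
  have k : ∀ x ∈ cs E t, x ∈ C[t] ∧ x * x = 1 := fun x hx => by
    have : x ∈ C[t] := by obtain ⟨g, hg, rfl⟩ := hx; exact h.C_one hn (h.memC hg)
    exact ⟨this, h.sq_of hx this⟩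
  rcases h.one_or hn hw with e | e
  · exact k w e
  · obtain ⟨k1, k2⟩ := k _ e
    refine ⟨by simpa using mul_mem k1 (inv_mem h.zF.2), ?_⟩
    rwa [mul_assoc, ← mul_assoc z, ← (h.xs.commute_z hw.1 (mem_zpowers z)).eq, mul_assoc w, h.xs.x2.zz, mul_one] at k2

theorem two_mul (hz : z ∈ cs E t) (hx : x ∈ cs E t) : x * z ∈ cs E t := by
  obtain ⟨c, hc, e⟩ := hz
  obtain ⟨g, hg, rfl⟩ := hx
  refine ⟨g * c, mul_mem hg hc, ?_⟩
  rw [H3.comm_mul_left_of_commute (e ▸ h.xs.commute_z hg (mem_zpowers z)), e]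
  exact (h.xs.commute_z (h.mem hg) (mem_zpowers z)).eq.symm

theorem two_card (hz : z ∈ cs E t) : #h.C = 2 * #(E ⊓ C[t]) := by
  have : cs h.C t = ⟪z⟫ := Set.Subset.antisymm (by rintro _ ⟨g, hg, rfl⟩; exact hg.2) fun w hw => by
    rcases (H3.mem_zpowers_two h.xs.z_pow).1 hw with rfl | rfl
    · exact ⟨1, one_mem _, by simp⟩
    · obtain ⟨c, hc, e⟩ := hz
      exact ⟨c, ⟨hc, e ▸ mem_zpowers _⟩, e⟩
  rw [← card_mul_cs h.C t, this, h.C_inf, mul_comm, ← h.xs.card_z]; rfl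

theorem two_card' (hz : z ∈ cs E t) : #(E ⊓ C(h.C)) = (cs E t).ncard := by
  have h1 := h.xs.card_perp h.C_le (h.F_le h.zF)
  rw [← card_mul_cs E t, h.two_card hz] at h1
  exact Nat.eq_of_mul_eq_mul_left (Nat.mul_pos two_pos (FT.card_pos _)) (h1.trans (by ring))

theorem two_eq (hz : z ∈ cs E t) : cs E t = (E ⊓ C(h.C) : Subgroup G) :=
  cs_eq (fun _ hg => ⟨h.mem hg, h.cenC hg⟩) (h.two_card' hz).le

theorem inner (hc : C(E) ≤ E) (h1 : ∀ g ∈ E, ⁅g, t⁆ ∈ ⟪z⟫) : t ∈ E := by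
  by_cases e : E ≤ C[t]
  · exact hc (le_cen1.1 e)
  have l := cs_le h1
  have l2 := one_lt_relIndex e
  rw [← card_cs] at l2
  obtain ⟨w, hw, hn⟩ := SetLike.not_le_iff_exists.1 fun k : E ⊓ C(E ⊓ C[t]) ≤ ⟪z⟫ => by
    have := card_le k
    rw [h.card_W, h.xs.card_z] at this; omega
  have n2 : ¬ E ≤ C[w] := fun k => hn (h.xs.mem_z hw.1 (le_cen1.1 k))
  have e2 : E ⊓ C[t] = E ⊓ C[w] := eq_of_le_of_card_ge (le_inf inf_le_left (le_cen1.2 hw.2)) (by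
    have a := h.xs.card_cen1 le_rfl hw.1 n2
    have b := card_mul_cs E t
    rw [h.xs.card_z] at l
    change #_ ≤ #_; nlinarith)
  have : w⁻¹ * t ∈ C(E) := FT.mem_cen.2 fun g hg => by
    have k : ⁅g, t⁆ = ⁅g, w⁆ := by
      rcases (H3.mem_zpowers_two h.xs.z_pow).1 (h1 g hg) with a | a <;>
      rcases (H3.mem_zpowers_two h.xs.z_pow).1 (h.xs.comm g hg w hw.1) with b | b
      · rw [a, b]
      · exact absurd (e2.le ⟨hg, mem_cen1.2 (commutatorElement_eq_one_iff_mul_comm.1 a)⟩).2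
          (h.xs.not_mem b)
      · have := (e2.ge ⟨hg, mem_cen1.2 (commutatorElement_eq_one_iff_mul_comm.1 b)⟩).2
        rw [commutatorElement_eq_one_iff_mul_comm.2 (mem_cen1.1 this)] at a
        exact absurd a.symm h.xs.z_ne
      · rw [a, b]
    calc _ = (g * w * g⁻¹)⁻¹ * (⁅g, t⁆ * t) * g := by rw [commutatorElement_def]; group
      _ = _ := by rw [k, commutatorElement_def]; group
  simpa using mul_mem hw.1 (hc this)

theorem quad (hW : E ⊓ C(E ⊓ C[t]) ≤ C[t]) (hy : y ∈ N(E)) (hc : y ∈ C(E ⊓ C[t])) (e : y * y = t) (hg : g ∈ E) :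
    ⁅g, t⁆ ∈ ⟪z⟫ := by
  have n := h.xs.nrm (inf_le_left : E ⊓ C[t] ≤ E) h.zF
  have m : ⁅y, g⁆ ∈ E := comm_le_right (zpowers_le.2 hy) (commutator_mem_commutator (mem_zpowers y) hg)
  have m2 : ⁅y, g⁆ ∈ C(E ⊓ C[t]) := FT.mem_cen.2 fun f hf => by
    have a := FT.mem_cen.1 hc f hf
    have b := FT.mem_cen.1 hc _ (conj_mem' (n hg) hf)
    calc _ = f * y * (g * y⁻¹ * g⁻¹) := by rw [commutatorElement_def]; group
      _ = y * g * (y⁻¹ * (y * (g⁻¹ * f * g)) * y⁻¹) * g⁻¹ := by rw [a]; group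
      _ = _ := by rw [← b, commutatorElement_def]; group
  have a := FT.mem_cen.1 hc _ ⟨m, hW ⟨m, m2⟩⟩
  have : ⁅t, g⁆ = ⁅y, g⁆ ^ 2 := by
    calc _ = y * ⁅y, g⁆ * y⁻¹ * ⁅y, g⁆ := by rw [← e]; simp only [commutatorElement_def]; group
      _ = _ := by rw [← a, mul_inv_cancel_right, pow_two]
  rw [← commutatorElement_inv, this]
  exact inv_mem (h.xs.pow_mem m)

theorem lemT (hab : Ab (E ⊓ C[t])) (ha : a ∈ E ⊓ C[t]) (a2 : a * a ≠ 1) :
    cs E t = Ω[2](E ⊓ C[t]) ∧ E ⊓ C(E ⊓ C[t]) ≤ C[t] := by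
  obtain ⟨n, hn⟩ := h.xs.card
  have k : ∀ g ∈ E, ⁅g, t⁆ ∈ C[t] := fun g hg => by
    by_contra hc
    have hz : z ∈ cs E t := by_contra fun e => hc (h.C_one e (h.memC hg))
    have e : E ⊓ C[t] ⊔ ⟪⁅g, t⁆⟫ = h.C := H3.sup_zpowers_eq_of_prime
      ((H3.relIndex_of_card_mul h.F_le (h.two_card hz)).symm ▸ Nat.prime_two) h.F_le (h.memC hg) fun e => hc e.2
    have ab : Ab h.C := e ▸ hab.sup (ab_zpowers _) (zpowers_le.2 (h.cenF hg).2)
    exact a2 (h.sq_of (h.two_eq hz ▸ ⟨ha.1, ab.le_cen (h.F_le ha)⟩) ha.2)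
  have l : ∀ g ∈ E, ⁅g, t⁆ ∈ Ω[2](E ⊓ C[t]) := fun g hg =>
    mem_Ohm ⟨h.mem hg, k g hg⟩ (by rw [pow_two]; exact h.sq_of ⟨g, hg, rfl⟩ (k g hg))
  have c1 := hab.card_Ohm_mul_card_Mho 2
  have c2 : 2 ≤ #℧[2](E ⊓ C[t]) := (one_lt_card_iff_ne_bot _).2 fun e => a2 (by
    rw [← pow_two, ← mem_bot, ← e]; exact hab.mem_Mho_iff.2 ⟨a, ha, rfl⟩)
  have c3 := h.xs.card_ab hn inf_le_left hab
  have c4 := card_mul_cs E t
  have c5 := cs_le l
  have c6 := h.card_W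
  have c7 : 2 * #Ω[2](E ⊓ C[t]) ≤ #(E ⊓ C[t]) := by nlinarith
  have c8 : 2 ^ n ≤ (cs E t).ncard := by
    refine Nat.le_of_mul_le_mul_left ?_ (pow_pos two_pos (n + 1))
    rw [← pow_add, show n + 1 + n = 2 * n + 1 by ring, ← hn, ← c4]
    gcongr
  rw [pow_succ] at c3
  exact ⟨cs_eq l (by omega), (eq_of_le_of_card_ge (le_inf inf_le_left hab.le_cen)
    (by change #_ ≤ #_; omega)).ge.trans inf_le_right⟩

end Ac

end Cfsg.Agent.GO
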