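import Cfsg.Agent.GO.Esq1

/-! Fusion and a subgroup of index two in the centralizer of a large extraspecial subgroup. -/

set_option autoImplicit false
set_option linter.unusedSectionVars false
set_option linter.unusedVariables false
set_option linter.style.haveILetI false

namespace Cfsg.Agent.GO

open Cfsg Subgroup Cfsg.Agent.FT Cfsg.Agent.GW
open scoped commutatorElement

universe u

variable {G : Type u} [Group G] [Finite G] {D : Set G} {p : ℕ}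
  {A B E H J K L M P Q R S T U V W X Y Z : Subgroup G} {a b d e g r s t v w x y z : G}

variable {En Kn : G → Subgroup G} {i u : G}

/-- a class of involutions with extraspecial subgroups `En t` and subgroups `Kn t` of index two in `C(t)` -/
structure Fam (D : Set G) (En Kn : G → Subgroup G) : Prop where
  cjD : ∀ t ∈ D, ∀ a, a * t * a⁻¹ ∈ D
  cjE : ∀ a t, cj a (En t) = En (a * t * a⁻¹)
  cjK : ∀ a t, cj a (Kn t) = Kn (a * t * a⁻¹)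
  xs : ∀ t ∈ D, H3.XS 2 (En t) t
  nab : ∀ t ∈ D, ¬ Ab (En t)
  cE : ∀ t ∈ D, C(En t) ≤ En t
  idx : ∀ t ∈ D, (Kn t).relIndex C[t] = 2

theorem conj_of_cen1 (ha : a ∈ C[t]) : a * t * a⁻¹ = t := by rw [mem_cen1.1 ha, mul_inv_cancel_right]

namespace Fam
variable (h : Fam D En Kn)
include h

theorem nE (t : G) : C[t] ≤ N(En t) := fun a ha => cj_eq_self.1 (by rw [h.cjE, conj_of_cen1 ha])
theorem nK (t : G) : C[t] ≤ N(Kn t) := fun a ha => cj_eq_self.1 (by rw [h.cjK, conj_of_cen1 ha])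
theorem memE (hx : x ∈ En t) (a : G) : a * x * a⁻¹ ∈ En (a * t * a⁻¹) := h.cjE a t ▸ conj_mem_cj.2 hx
theorem memK (a : G) : a * x * a⁻¹ ∈ Kn (a * t * a⁻¹) ↔ x ∈ Kn t := h.cjK a t ▸ conj_mem_cj
theorem t2 (ht : t ∈ D) : t * t = 1 := (h.xs t ht).x2.zz
theorem Ec (ht : t ∈ D) : En t ≤ C[t] := le_cen1.2 (h.xs t ht).cen
theorem pE (ht : t ∈ D) : PGrp 2 (En t) := (h.xs t ht).pGrp
theorem mulK (ht : t ∈ D) (hx : x ∈ C[t]) (hy : y ∈ C[t]) : x * y ∈ Kn t ↔ (x ∈ Kn t ↔ y ∈ Kn t) :=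
  H3.mul_mem_iff_of_relIndex_two (h.idx t ht) hx hy
theorem commK (ht : t ∈ D) (hx : x ∈ C[t]) (hy : y ∈ C[t]) : ⁅x, y⁆ ∈ Kn t :=
  comm_le_two (h.idx t ht).le (h.nK t) (le_nrm _) (commutator_mem_commutator hx hy)

theorem syl_le (ht : t ∈ D) (hT : PGrp 2 T) (hE : En t ≤ T) : T ≤ C[t] := by
  have l : Z(T) ≤ ⟪t⟫ := fun x hx => (h.xs t ht).mem_z (h.cE t ht (cen_anti hE hx.2)) (cen_anti hE hx.2)
  have e := eq_of_le_prime ((h.xs t ht).card_z ▸ Nat.prime_two) l (hT.nil.center_ne_bot fun e =>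
    h.nab t ht ((le_bot_iff.1 (e ▸ hE)).symm ▸ ab_bot))
  exact le_cen1.2 (e.ge (mem_zpowers t)).2

theorem exists_cen (ht : t ∈ D) (hS : PGrp 2 S) : ∃ u ∈ D, S ≤ C[u] := by
  obtain ⟨T, hT, l⟩ := (h.pE ht).exists_syl le_top
  obtain ⟨g, -, hg⟩ := hT.syl_subJ hS le_top
  exact ⟨_, h.cjD t ht g, hg.trans (cj_cen1 g t ▸ cj_mono g (h.syl_le ht hT.pi l))⟩

end Fam

/-- `P` is a largest `2`-subgroup on which the `Kn t` may differ -/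
structure Mb (D : Set G) (En Kn : G → Subgroup G) (P : Subgroup G) : Prop extends Fam D En Kn where
  pP : PGrp 2 P
  max : ∀ Q, PGrp 2 Q → #P < #Q → ∀ s ∈ D, ∀ t ∈ D, Q ≤ C[s] → Q ≤ C[t] → Q ⊓ Kn s = Q ⊓ Kn t

/-- `Kn s` and `Kn t` differ on `P` -/
structure Ap (D : Set G) (Kn : G → Subgroup G) (P : Subgroup G) (s t : G) : Prop where
  hs : s ∈ D
  ht : t ∈ D
  ps : P ≤ C[s]
  pt : P ≤ C[t]
  ne : P ⊓ Kn s ≠ P ⊓ Kn t

theorem Ap.symm (h : Ap D Kn P s t) : Ap D Kn P t s := ⟨h.ht, h.hs, h.pt, h.ps, h.ne.symm⟩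
theorem Ap.st (h : Ap D Kn P s t) : s ≠ t := fun e => h.ne (e ▸ rfl)

theorem Fam.exists_mb (h : Fam D En Kn) (ht : t ∈ D) (hr : pResidual 2 G = ⊤) :
    ∃ P s t, Mb D En Kn P ∧ Ap D Kn P s t := by
  haveI : Fact (Nat.Prime 2) := ⟨Nat.prime_two⟩
  by_cases hb : ∃ P, PGrp 2 P ∧ ∃ s t, Ap D Kn P s t
  · obtain ⟨P, hP⟩ := hb
    obtain ⟨P, ⟨h1, s, t, h2⟩, hm⟩ := exists_max_fun (fun P => PGrp 2 P ∧ ∃ s t, Ap D Kn P s t) (fun P => #P) hP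
    exact ⟨P, s, t, ⟨h, h1, fun Q hQ l s hs t ht a b => by_contra fun e =>
      absurd (hm Q ⟨hQ, s, t, hs, ht, a, b, e⟩) (not_le.2 l)⟩, h2⟩
  exfalso
  obtain ⟨T, hT, l⟩ := (h.pE ht).exists_syl le_top
  have l2 := h.syl_le ht hT.pi l
  obtain ⟨T, rfl⟩ := (syl_top_iff Nat.prime_two).1 hT
  have f : (T : Subgroup G).focalSubgroup ≤ Kn t := by
    rw [focalSubgroup_def, closure_le]
    rintro _ ⟨hu, x, hx, u, rfl⟩
    have m : u * x⁻¹ * u⁻¹ ∈ (T : Subgroup G) := by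
      simpa [commutatorElement_def, mul_assoc] using mul_mem (inv_mem hx) hu
    have e : ⟪x⁻¹⟫ ⊓ Kn t = ⟪x⁻¹⟫ ⊓ Kn (u⁻¹ * t * u⁻¹⁻¹) := by_contra fun e =>
      hb ⟨_, hT.pi.mono (zpowers_le.2 (inv_mem hx)), t, _, ht, h.cjD t ht u⁻¹, zpowers_le.2 (l2 (inv_mem hx)),
        zpowers_le.2 (by rw [← cj_cen1, mem_cj]; simpa using l2 m), e⟩
    have e2 : ⁅x, u⁆ = x * (u * x⁻¹ * u⁻¹) := by rw [commutatorElement_def]; group
    rw [SetLike.mem_coe, e2, h.mulK ht (l2 hx) (l2 m), ← h.memK (x := u * x⁻¹ * u⁻¹) u⁻¹, ← inv_mem_iff]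
    simpa [mul_assoc] using SetLike.ext_iff.1 e x⁻¹
  have c : (T : Subgroup G) ≤ _root_.commutator G := fun x hx => by
    obtain ⟨k, m, hm, e⟩ := Nat.exists_eq_two_pow_mul_odd (Nat.card_pos (α := G)).ne'
    have l : pResidual 2 G ≤ ((powMonoidHom m).comp Abelianization.of).ker := (closure_le _).2 fun g hg => by
      have := orderOf_dvd_iff_pow_eq_one.1
        ((Nat.Coprime.pow_right k hg).dvd_of_dvd_mul_left (e ▸ orderOf_dvd_natCard g))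
      simp [← map_pow, this]
    have h1 : Abelianization.of x ^ m = 1 := l (hr ▸ mem_top x)
    obtain ⟨j, hj⟩ := T.isPGroup' ⟨x, hx⟩
    have h2 : Abelianization.of x ^ 2 ^ j = 1 := by rw [← map_pow, show x ^ 2 ^ j = 1 from congrArg Subtype.val hj, map_one]
    rw [← Abelianization.ker_of, MonoidHom.mem_ker, ← orderOf_eq_one_iff]
    exact Nat.eq_one_of_dvd_coprimes ((Nat.coprime_two_right.2 hm).pow_right j) (orderOf_dvd_of_pow_eq_one h1)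
      (orderOf_dvd_of_pow_eq_one h2)
  have := (hT.subl l2 le_top).relIndex_of_le (K := Kn t)
    ((le_inf c le_rfl).trans ((commutator_inf_eq_focalSubgroup T).le.trans f))
  exact this.not_dvd Nat.prime_two rfl (h.idx t ht ▸ dvd_rfl)

namespace Mb
variable (h : Mb D En Kn P)
include h

theorem up (hQ : PGrp 2 Q) (l : P < Q) (hs : s ∈ D) (ht : t ∈ D) (a : Q ≤ C[s]) (b : Q ≤ C[t]) :
    P ⊓ Kn s = P ⊓ Kn t := by
  have := congrArg (P ⊓ ·) (h.max Q hQ (card_lt l) s hs t ht a b)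
  simpa only [← inf_assoc, inf_eq_left.2 l.le] using this

theorem cjP (ha : a ∈ N(P)) (s : G) : cj a (P ⊓ Kn s) = P ⊓ Kn (a * s * a⁻¹) := by
  rw [cj_inf, cj_of_mem_nrm ha, h.cjK]

theorem fr (hX : X ≤ N(P)) (hQ : PGrp 2 Q) (hR : PGrp 2 R) (l1 : P < Q) (l2 : P < R) (q : Q ≤ X) (r : R ≤ X)
    (hs : s ∈ D) (ht : t ∈ D) (a : Q ≤ C[s]) (b : R ≤ C[t]) : ∃ x ∈ X, cj x (P ⊓ Kn s) = P ⊓ Kn t := by
  obtain ⟨S, hS, l3⟩ := hQ.exists_syl q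
  obtain ⟨T, hT, l4⟩ := hR.exists_syl r
  obtain ⟨x, hx, e⟩ := hS.syl_trans hT
  obtain ⟨u, hu, c⟩ := h.exists_cen hs hS.pi
  refine ⟨x, hx, ?_⟩
  rw [h.up hQ l1 hs hu a (l3.trans c), h.cjP (hX hx)]
  exact h.up hR l2 (h.cjD u hu x) ht (l4.trans (e ▸ cj_cen1 x u ▸ cj_mono x c)) b

theorem fr' (k : Ap D Kn P s t) (hQ : PGrp 2 Q) (hR : PGrp 2 R) (l1 : P < Q) (l2 : P < R)
    (q : Q ≤ N(P) ⊓ N(P ⊓ Kn s)) (r : R ≤ N(P) ⊓ N(P ⊓ Kn s)) (a : Q ≤ C[s]) (b : R ≤ C[t]) : False := by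
  obtain ⟨x, hx, e⟩ := h.fr inf_le_left hQ hR l1 l2 q r k.hs k.ht a b
  exact k.ne (cj_of_mem_nrm hx.2 ▸ e)

theorem le_P (k : Ap D Kn P s t) (hL : PGrp 2 L) (n : P ≤ N(L)) (a : L ≤ C[s]) (b : L ≤ C[t]) : L ≤ P :=
  by_contra fun e => k.ne (h.up (h.pP.sup' hL n) (left_lt_sup.2 e) k.hs k.ht (sup_le k.ps a) (sup_le k.pt b))

theorem grow (hL : PGrp 2 L) (n : P ≤ N(L)) (e : ¬ L ≤ P) : ∃ x ∈ L, x ∈ N(P) ∧ x ∉ P := by
  obtain ⟨x, hx, x1⟩ := SetLike.exists_of_lt ((h.pP.sup' hL n).lt_subnorm (left_lt_sup.2 e))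
  obtain ⟨l, hl, p, hp, rfl⟩ := (H1.mem_sup_iff_of_le_normalizer n).1 (sup_comm P L ▸ hx.1)
  exact ⟨l, hl, by simpa using N(P).mul_mem hx.2 (inv_mem (le_nrm P hp)), fun e => x1 (mul_mem e hp)⟩

theorem exA (k : Ap D Kn P s t) : ∃ e ∈ En s, e ∈ N(P) ∧ e ∉ P :=
  h.grow (h.pE k.hs) (k.ps.trans (h.nE s)) fun e => by
    have c := le_cen1.1 (e.trans k.pt)
    rcases (H3.mem_zpowers_two (h.xs s k.hs).z_pow).1 ((h.xs s k.hs).mem_z (h.cE s k.hs c) c) with e | e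
    · exact (h.xs t k.ht).z_ne e
    · exact k.st e.symm

theorem pQ (hs : s ∈ D) (he : e ∈ En s) (n : e ∈ N(P)) : PGrp 2 (P ⊔ ⟪e⟫) :=
  h.pP.sup ((h.pE hs).mono (zpowers_le.2 he)) (zpowers_le.2 n)

theorem ltQ (n : e ∉ P) : P < P ⊔ ⟪e⟫ := left_lt_sup.2 (mt zpowers_le.1 n)

theorem nQ (c : P ≤ C[s]) (he : e ∈ C[s]) (n : e ∈ N(P)) : P ⊔ ⟪e⟫ ≤ N(P) ⊓ N(P ⊓ Kn s) :=
  have a : P ⊔ ⟪e⟫ ≤ N(P) := sup_le (le_nrm P) (zpowers_le.2 n)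
  le_inf a (normsI a ((sup_le c (zpowers_le.2 he)).trans (h.nK s)))

theorem cjAp (k : Ap D Kn P s t) (ha : a ∈ N(P)) : Ap D Kn P (a * s * a⁻¹) (a * t * a⁻¹) :=
  ⟨h.cjD s k.hs a, h.cjD t k.ht a, cj_of_mem_nrm ha ▸ cj_cen1 a s ▸ cj_mono a k.ps,
    cj_of_mem_nrm ha ▸ cj_cen1 a t ▸ cj_mono a k.pt, by rw [← h.cjP ha, ← h.cjP ha]; exact mt cj_eq_cj.1 k.ne⟩

theorem mem (k : Ap D Kn P s t) : s ∈ P := by
  by_contra hn
  obtain ⟨e, e1, e2, e3⟩ := h.exA k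
  obtain ⟨f, f1, f2, f3⟩ := h.exA k.symm
  obtain ⟨x, hx, e⟩ := h.fr le_rfl (h.pQ k.hs e1 e2) (h.pQ k.ht f1 f2) (h.ltQ e3) (h.ltQ f3)
    (sup_le (le_nrm P) (zpowers_le.2 e2)) (sup_le (le_nrm P) (zpowers_le.2 f2)) k.hs k.ht
    (sup_le k.ps (zpowers_le.2 (h.Ec k.hs e1))) (sup_le k.pt (zpowers_le.2 (h.Ec k.ht f1)))
  have k1 := h.cjAp k hx
  have k2 : Ap D Kn P s (x * s * x⁻¹) := ⟨k.hs, k1.hs, k.ps, k1.ps, by rw [← h.cjP hx, e]; exact k.ne⟩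
  have n : ∀ u, P ≤ C[u] → u ∈ N(P) := fun u hu => cen_le_nrm _ (le_cen1.1 hu)
  exact h.fr' k2 (h.pQ k.hs (h.xs s k.hs).mem (n s k.ps)) (h.pQ k1.hs (h.xs _ k1.hs).mem (n _ k1.ps)) (h.ltQ hn)
    (h.ltQ fun e => hn (by simpa [mul_assoc] using conj_mem' hx e)) (h.nQ k.ps (self_mem_cen1 s) (n s k.ps))
    (sup_le (le_sup_left.trans (h.nQ k.ps (one_mem _) (one_mem _))) (zpowers_le.2 ⟨n _ k1.ps,
      cen_le_nrm _ (cen_anti inf_le_left (le_cen1.1 k1.ps))⟩))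
    (sup_le k.ps (zpowers_le.2 (self_mem_cen1 s))) (sup_le k1.ps (zpowers_le.2 (self_mem_cen1 _)))

theorem FP (k : Ap D Kn P s t) : En s ⊓ C[t] ≤ P :=
  h.le_P k ((h.pE k.hs).mono inf_le_left) (normsI (k.ps.trans (h.nE s)) (norms_cen1 k.pt))
    (inf_le_left.trans (h.Ec k.hs)) inf_le_right

theorem F_eq (k : Ap D Kn P s t) : En s ⊓ C[t] = P ⊓ En s :=
  le_antisymm (le_inf (h.FP k) inf_le_left) (le_inf inf_le_right (inf_le_left.trans k.pt))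

theorem ac (k : Ap D Kn P s t) : Ac (En s) s t :=
  ⟨h.xs s k.hs, h.nE s (k.ps (h.mem k.symm)), h.t2 k.ht, mem_cen1.1 (k.ps (h.mem k.symm))⟩

theorem se (k : Ap D Kn P s t) (he : e ∈ En s) (n : e ∈ N(P)) (hn : e ∉ P) :
    Ap D Kn P s (e * t * e⁻¹) ∧ Ap D Kn P t (e * t * e⁻¹) := by
  have k1 := h.cjAp k n
  rw [conj_of_cen1 (h.Ec k.hs he)] at k1
  refine ⟨k1, k.ht, k1.ht, k.pt, k1.pt, fun c => ?_⟩
  obtain ⟨f, f1, f2, f3⟩ := h.exA k.symm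
  exact h.fr' k.symm (h.pQ k.ht f1 f2) (h.pQ k.hs he n) (h.ltQ f3) (h.ltQ hn) (h.nQ k.pt (h.Ec k.ht f1) f2)
    (sup_le (le_sup_left.trans (h.nQ k.pt (one_mem _) (one_mem _))) (zpowers_le.2 ⟨n,
      cj_eq_self.1 ((h.cjP n t).trans c.symm)⟩))
    (sup_le k.pt (zpowers_le.2 (h.Ec k.ht f1))) (sup_le k.ps (zpowers_le.2 (h.Ec k.hs he)))

theorem ex_y (k : Ap D Kn P s t) : ∃ y ∈ P ⊓ En t, y ∈ Kn t ∧ y ∉ Kn s := by
  by_contra! hc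
  obtain ⟨e, e1, e2, e3⟩ := h.exA k
  obtain ⟨f, f1, f2, f3⟩ := h.exA k.symm
  refine h.fr' k (h.pQ k.hs e1 e2) (h.pQ k.ht f1 f2) (h.ltQ e3) (h.ltQ f3) (h.nQ k.ps (h.Ec k.hs e1) e2)
    (sup_le (le_sup_left.trans (h.nQ k.ps (one_mem _) (one_mem _))) (zpowers_le.2 ⟨f2, mem_nrm.2 fun p hp => ?_⟩))
    (sup_le k.ps (zpowers_le.2 (h.Ec k.hs e1))) (sup_le k.pt (zpowers_le.2 (h.Ec k.ht f1)))
  refine ⟨conj_mem f2 hp.1, ?_⟩
  have e : f * p * f⁻¹ = ⁅f, p⁆ * p := by rw [commutatorElement_def]; group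
  rw [e]
  exact mul_mem (hc _ ⟨comm_le_right (zpowers_le.2 f2) (commutator_mem_commutator (mem_zpowers f) hp.1),
    comm_le_left (k.pt.trans (h.nE t)) (commutator_mem_commutator f1 hp.1)⟩
    (h.commK k.ht (h.Ec k.ht f1) (k.pt hp.1))) hp.2

theorem nrm_of (k : Ap D Kn P s t) (he : e ∈ En s) (c : P ≤ C[e * t * e⁻¹]) : e ∈ N(P) := by
  have nE := k.ps.trans (h.nE s)
  have l : cj e P ≤ P ⊔ En s := cj_le_of_mem (mem_sup_right he) le_sup_left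
  have c1 : cj e P ≤ C[s] := conj_of_cen1 (h.Ec k.hs he) ▸ cj_cen1 e s ▸ cj_mono e k.ps
  by_contra hn
  have l1 : cj e P < P ⊔ cj e P := right_lt_sup.2 fun a => hn (cj_eq_self.1 (eq_of_card_eq a (card_cj e P).symm).symm)
  have := congrArg (cj e P ⊓ ·) (h.max _ ((h.pP.sup' (h.pE k.hs) nE).mono (sup_le le_sup_left l))
    (card_cj e P ▸ card_lt l1) s k.hs _ (h.cjD t k.ht e) (sup_le k.ps c1) (sup_le c (cj_cen1 e t ▸ cj_mono e k.pt)))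
  simp only [← inf_assoc, inf_eq_left.2 l1.le] at this
  rw [← h.cjK, ← conj_of_cen1 (h.Ec k.hs he), ← h.cjK, ← cj_inf, ← cj_inf] at this
  exact k.ne (cj_eq_cj.1 this)

end Mb

end Cfsg.Agent.GO
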