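import Cfsg.Agent.GO.Esq2

/-! F. Smith's lemma on the abelianized centralizer of a large extraspecial subgroup. -/

set_option autoImplicit false
set_option linter.unusedSectionVars false
set_option linter.unusedVariables false
set_option linter.style.haveILetI false

namespace Cfsg.Agent.GO

open Cfsg Subgroup Cfsg.Agent.FT Cfsg.Agent.GW
open scoped commutatorElement

universe u

variable {G : Type u} [Group G] [Finite G] {D : Set G} {p : ℕ}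
  {A B E H J K L M P Q R S T U V W X Y Z : Subgroup G} {a b d e g r s t v w x y z : G}

variable {En Kn : G → Subgroup G} {i u : G}

/-- the conjugate of `X` attached to the conjugate `t` of `z` -/
def fam (z : G) (X : Subgroup G) (t : G) : Subgroup G := ⨆ g : {g : G // g * z * g⁻¹ = t}, cj g.1 X

theorem cj_fam_le (a z t : G) (X : Subgroup G) : cj a (fam z X t) ≤ fam z X (a * t * a⁻¹) :=
  cj_le_iff.2 (iSup_le fun g => cj_le_iff.1 (by
    rw [cj_cj]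
    exact le_iSup (fun g : {g : G // g * z * g⁻¹ = a * t * a⁻¹} => cj g.1 X) ⟨a * g.1, Eq.trans (by group) (congrArg (a * · * a⁻¹) g.2)⟩))

theorem cj_fam (a z t : G) (X : Subgroup G) : cj a (fam z X t) = fam z X (a * t * a⁻¹) :=
  le_antisymm (cj_fam_le a z t X) (le_cj_iff.2 (by simpa [mul_assoc] using cj_fam_le a⁻¹ z (a * t * a⁻¹) X))

theorem fam_self (h : C[z] ≤ N(X)) : fam z X z = X :=
  le_antisymm (iSup_le fun g => (cj_of_mem_nrm (h (mem_cen1.2 (mul_inv_eq_iff_eq_mul.1 g.2)))).le)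
    (le_iSup_of_le ⟨1, by simp⟩ (cj_one X).ge)

theorem fam_eq (h : C[z] ≤ N(X)) (g : G) : fam z X (g * z * g⁻¹) = cj g X := by rw [← cj_fam, fam_self h]

theorem exists_fam (hx : H3.XS 2 E z) (hn : ¬ Ab E) (hc : C(E) ≤ E) (nE : C[z] ≤ N(E)) (nK : C[z] ≤ N(K))
    (hi : K.relIndex C[z] = 2) : Fam {t | ∃ g, g * z * g⁻¹ = t} (fam z E) (fam z K) := by
  refine ⟨?_, fun a t => cj_fam a z t E, fun a t => cj_fam a z t K, ?_, ?_, ?_, ?_⟩ <;> rintro _ ⟨g, rfl⟩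
  · exact fun a => ⟨a * g, by group⟩
  · rw [fam_eq nE]; exact hx.map (cj_inj g)
  · rw [fam_eq nE]; exact fun e => hn (cj_inv_cj g E ▸ e.cj g⁻¹)
  · rw [fam_eq nE, ← cj_cen]; exact cj_mono g hc
  · rw [fam_eq nK, ← cj_cen1, relIndex_cj, hi]

theorem setup (hz : orderOf z = 2) (hE : E = (pCore 2 C[z]).map C[z].subtype) (hext : IsExtraspecial 2 E) :
    H3.XS 2 E z ∧ ¬ Ab E ∧ C[z] ≤ N(E) := by
  haveI : Fact (Nat.Prime 2) := ⟨Nat.prime_two⟩
  rw [← pcore_singleton Nat.prime_two] at hE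
  obtain ⟨w, hw, hn⟩ := H3.exists_xs' hext
  have c : C[z] ≤ C(⟪z⟫) := (cen_zpowers z).ge
  have m : z ∈ E := hE ▸ zpowers_le.1 (pcore_max (pGrp_of_card (n := 1) Nat.prime_two ((card_zpowers' z).trans hz))
    ⟨zpowers_le.2 (self_mem_cen1 z), c.trans (cen_le_nrm _)⟩)
  rcases (H3.mem_zpowers_two hw.z_pow).1 (hw.mem_z m (le_cen1.1 (hE ▸ pcore_le _ _))) with e | e
  · rw [e, orderOf_one] at hz; omega
  · exact ⟨e ▸ hw, hn, hE ▸ (pcore_nml _ _).nrm⟩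

namespace Mb
variable (h : Mb D En Kn P)
include h

theorem nI (k : Ap D Kn P s t) : P ≤ N(P ⊓ En s ⊓ En t) :=
  normsI (normsI (le_nrm P) (k.ps.trans (h.nE s))) (k.pt.trans (h.nE t))

theorem commI (k : Ap D Kn P s t) (hx : x ∈ P ⊓ En s) (hy : y ∈ P ⊓ En t) : ⁅x, y⁆ ∈ P ⊓ En s ⊓ En t :=
  ⟨⟨der_le P (commutator_mem_commutator hx.1 hy.1),
    comm_le_left (k.ps.trans (h.nE s)) (commutator_mem_commutator hx.2 hy.1)⟩,
    comm_le_right (k.pt.trans (h.nE t)) (commutator_mem_commutator hx.1 hy.2)⟩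

theorem exI (k : Ap D Kn P s t) (hI : P ⊓ En s ⊓ En t ≠ ⊥) :
    ∃ i ∈ P ⊓ En s ⊓ En t, i ∈ C(P) ∧ i ≠ 1 ∧ i * i = 1 := by
  have p := h.pP.mono (inf_le_left.trans inf_le_left : P ⊓ En s ⊓ En t ≤ P)
  obtain ⟨i, hi, k⟩ := H3.exists_invol_of_pGrp (p.mono inf_le_left) (h.pP.meet_cen p (h.nI k) hI)
  exact ⟨i, hi.1, hi.2, k⟩

theorem z4 (k : Ap D Kn P s t) (hq : ∀ s ∈ D, ∀ y ∈ C[s], y * y ∈ ⁅C[s], C[s]⁆ → y ∈ Kn s) : False := by
  have A : ∀ {s t}, Ap D Kn P s t → Ab (En t ⊓ C[s]) ∧ ∃ y ∈ En t ⊓ C[s], y * y = t := fun {s t} k => by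
    obtain ⟨y, hy, -, y1⟩ := h.ex_y k
    have y2 := mt (hq s k.hs y (k.ps hy.1)) y1
    have x := h.xs t k.ht
    have e : y * y = t := by
      rcases x.x2.sq y hy.2 with e | e <;> rw [pow_two] at e
      · exact absurd (e ▸ one_mem _) y2
      · exact e
    refine ⟨ab_iff_forall.2 fun a ha b hb => commutatorElement_eq_one_iff_mul_comm.1
      (((H3.mem_zpowers_two x.z_pow).1 (x.comm a ha.1 b hb.1)).resolve_right fun c => y2 ?_), y, ⟨hy.2, k.ps hy.1⟩, e⟩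
    rw [e, ← c]; exact commutator_mem_commutator ha.2 hb.2
  have T : ∀ {s t}, Ap D Kn P s t → cs (En s) t = Ω[2](En s ⊓ C[t]) ∧ En s ⊓ C(En s ⊓ C[t]) ≤ C[t] := fun {s t} k => by
    obtain ⟨a, y, hy, e⟩ := A k.symm
    exact (h.ac k).lemT a hy (e.symm ▸ (h.xs s k.hs).z_ne)
  have N : ∀ {s t}, Ap D Kn P s t → t ∉ En s := fun {s t} k ht => by
    obtain ⟨g, hg, e⟩ : t ∈ cs (En s) t := (T k).1 ▸ mem_Ohm ⟨ht, self_mem_cen1 t⟩ (pow_two t ▸ h.t2 k.ht)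
    rcases (H3.mem_zpowers_two (h.xs s k.hs).z_pow).1 (e ▸ (h.xs s k.hs).comm g hg t ht) with c | c
    · exact (h.xs t k.ht).z_ne c
    · exact k.st c.symm
  by_cases hI : P ⊓ En s ⊓ En t = ⊥
  · obtain ⟨-, y, hy, e⟩ := A k
    refine N k ((h.ac k).inner (h.cE s k.hs) fun g hg => (h.ac k).quad (T k).2 (h.nE s hy.2)
      (FT.mem_cen.2 fun f hf => commutatorElement_eq_one_iff_mul_comm.1 (mem_bot.1 ?_)) e hg)
    exact hI ▸ h.commI k (h.F_eq k ▸ hf) (h.F_eq k.symm ▸ hy)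
  · obtain ⟨i, hi, c, i1, i2⟩ := h.exI k hI
    obtain ⟨g, hg, e⟩ : i ∈ cs (En s) t := (T k).1 ▸ mem_Ohm ⟨hi.1.2, k.pt hi.1.1⟩ (pow_two i ▸ i2)
    have e2 : g * t * g⁻¹ = i * t := by rw [← e, commutatorElement_def, inv_mul_cancel_right]
    have n := h.nrm_of k hg (e2 ▸ le_cen1.2 (mul_mem c (le_cen1.1 k.pt)))
    exact N (h.se k hg n fun c => i1 (e ▸ commutatorElement_eq_one_iff_mul_comm.2 (mem_cen1.1 (k.pt c)))).2
      (e2 ▸ mul_mem hi.2 (h.xs t k.ht).mem)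

end Mb

theorem s3301 (hres : pResidual 2 G = ⊤) (hz : orderOf z = 2) (hE : E = (pCore 2 C[z]).map C[z].subtype)
    (hext : IsExtraspecial 2 E) (hc : C(E) ≤ E) (q : Abelianization C[z]) (hq : ∃ k : ℕ, orderOf q = 2 ^ k) :
    q ^ 2 = 1 := by
  obtain ⟨hx, hn, nE⟩ := setup hz hE hext
  by_contra q2
  obtain ⟨j, m, hm, e⟩ := Nat.exists_eq_two_pow_mul_odd (Nat.card_pos (α := Abelianization C[z])).ne'
  let φ : C[z] →* Abelianization C[z] := (powMonoidHom (2 * m)).comp Abelianization.of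
  have p : PGrp 2 φ.range := piGrp_iff_forall.2 (by
    rintro _ ⟨x, rfl⟩
    refine (pElt_iff Nat.prime_two).2 ⟨j, ?_⟩
    change (Abelianization.of x ^ (2 * m)) ^ 2 ^ j = 1
    rw [← pow_mul, mul_assoc, mul_comm m, ← e, mul_comm, pow_mul, pow_card_eq_one', one_pow])
  obtain ⟨n, hn'⟩ := p.card
  obtain ⟨n, rfl⟩ : ∃ k, n = k + 1 := Nat.exists_eq_add_one_of_ne_zero (by
    rintro rfl
    obtain ⟨x, rfl⟩ := QuotientGroup.mk_surjective q
    obtain ⟨k, hk⟩ := hq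
    have : φ x = 1 := mem_bot.1 (card_eq_one.1 hn' ▸ (⟨x, rfl⟩ : φ x ∈ φ.range))
    have := orderOf_dvd_of_pow_eq_one this
    exact q2 (orderOf_dvd_iff_pow_eq_one.1 ((hk ▸ (Nat.coprime_two_left.2 hm).pow_left k).dvd_of_dvd_mul_right this)))
  obtain ⟨L, hL, cL⟩ := exists_card_pow_le Nat.prime_two (n := n) (hn' ▸ pow_dvd_pow 2 n.le_succ)
  have i1 : ((L.comap φ).map C[z].subtype).relIndex C[z] = 2 := by
    rw [relIndex, subgroupOf, comap_map_eq_self_of_injective (subtype_injective _), index_comap]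
    exact H3.relIndex_of_card_mul hL (by rw [hn', cL, pow_succ'])
  have nK : C[z] ≤ N((L.comap φ).map C[z].subtype) := le_nrm_iff.2 (by
    rintro g hg _ ⟨x, hx, rfl⟩
    refine ⟨⟨g, hg⟩ * x * ⟨g, hg⟩⁻¹, ?_, rfl⟩
    rwa [SetLike.mem_coe, mem_comap, map_mul, map_mul, map_inv, mul_inv_cancel_comm])
  obtain ⟨P, s, t, h, k⟩ := (exists_fam hx hn hc nE nK i1).exists_mb (t := z) ⟨1, by simp⟩ hres
  refine h.z4 k ?_
  rintro _ ⟨g, rfl⟩ y hy e
  rw [fam_eq nK, mem_cj]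
  rw [← cj_cen1, mem_cj] at hy
  rw [← cj_cen1, ← cj_comm, mem_cj, der_eq_map] at e
  obtain ⟨x, h1, h2⟩ := e
  refine ⟨⟨_, hy⟩, ?_, rfl⟩
  have : x = ⟨_, hy⟩ ^ 2 := Subtype.ext (h2.trans (by simp [pow_two, mul_assoc]))
  have h3 : φ ⟨_, hy⟩ = 1 := by
    change Abelianization.of _ ^ (2 * m) = 1
    rw [pow_mul, ← map_pow, ← this, MonoidHom.mem_ker.1 ((Abelianization.ker_of C[z]).ge h1), one_pow]
  rw [SetLike.mem_coe, mem_comap, h3]; exact one_mem _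

end Cfsg.Agent.GO
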