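import Cfsg.Agent.GO.Esq3

/-! F. Smith's lemma: the central involution is fused into a large extraspecial subgroup. -/

set_option autoImplicit false
set_option linter.unusedSectionVars false
set_option linter.unusedVariables false
set_option linter.style.haveILetI false

namespace Cfsg.Agent.GO

open Cfsg Subgroup Cfsg.Agent.FT Cfsg.Agent.GW
open scoped commutatorElement

universe u

variable {G : Type u} [Group G] [Finite G] {D : Set G} {p : ℕ}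
  {A B E H J K L M P Q R S T U V W X Y Z : Subgroup G} {a b d e g r s t v w x y z : G}

variable {En Kn : G → Subgroup G} {i j u f : G}

theorem conj_eq_of_comm (e : ⁅g, t⁆ = x) : g * t * g⁻¹ = x * t := by
  rw [← e, commutatorElement_def, inv_mul_cancel_right]

theorem inv_of_sq (e : g * g * t = t * (g * g)) : g * ⁅t, g⁆ * g⁻¹ = ⁅t, g⁆⁻¹ := by
  calc _ = g * t * g⁻¹ * (g * g * t⁻¹ * (g * g)⁻¹) := by rw [commutatorElement_def]; group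
    _ = g * t * g⁻¹ * (t⁻¹ * (t * (g * g)) * t⁻¹ * (g * g)⁻¹) := by group
    _ = _ := by rw [← e, commutatorElement_def]; group

theorem inv_of_sq' (e : g * g * t = t * (g * g)) : g * ⁅g, t⁆ * g⁻¹ = ⁅g, t⁆⁻¹ := by
  rw [← commutatorElement_inv t g, ← conj_inv (b := g), inv_of_sq e]

theorem Ac.perp2 (h : Ac E z t) : E ⊓ C(E ⊓ C(E ⊓ C[t])) ≤ C[t] := by
  have h1 := h.xs.card_perp (inf_le_left : E ⊓ C[t] ≤ E) h.zF
  have h2 := h.xs.card_perp (inf_le_left : E ⊓ C(E ⊓ C[t]) ≤ E) ⟨h.xs.mem, cen_anti inf_le_left h.xs.cen⟩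
  exact (eq_of_le_of_card_ge (le_inf inf_le_left (centsC inf_le_right)) (Nat.eq_of_mul_eq_mul_left
    (FT.card_pos _) (h2.trans (h1.symm.trans (mul_comm _ _)))).le).ge.trans inf_le_right

theorem Ac.comm_W (h : Ac E z t) (hy : y ∈ N(E)) (hc : y ∈ C(E ⊓ C[t])) (hg : g ∈ E) :
    ⁅y, g⁆ ∈ E ⊓ C(E ⊓ C[t]) := by
  have n := h.xs.nrm (inf_le_left : E ⊓ C[t] ≤ E) h.zF
  refine ⟨comm_le_right (zpowers_le.2 hy) (commutator_mem_commutator (mem_zpowers y) hg), FT.mem_cen.2 fun f hf => ?_⟩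
  have a := FT.mem_cen.1 hc f hf
  have b := FT.mem_cen.1 hc _ (conj_mem' (n hg) hf)
  calc _ = f * y * (g * y⁻¹ * g⁻¹) := by rw [commutatorElement_def]; group
    _ = y * g * (y⁻¹ * (y * (g⁻¹ * f * g)) * y⁻¹) * g⁻¹ := by rw [a]; group
    _ = _ := by rw [← b, commutatorElement_def]; group

/-- each `s` is weakly closed in `En s`, of width at least three -/
structure Mw (D : Set G) (En Kn : G → Subgroup G) (P : Subgroup G) : Prop extends Mb D En Kn P where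
  wc : ∀ s ∈ D, ∀ u ∈ D, u ∈ En s → u = s
  big : ∀ s ∈ D, 128 ≤ #(En s)

namespace Mw
variable (h : Mw D En Kn P) (k : Ap D Kn P s t)
include h k

theorem nE' : t ∉ En s := fun e => k.st (h.wc s k.hs t k.ht e).symm
theorem two (hw : w ∈ ⟪s⟫) : w = 1 ∨ w = s := (H3.mem_zpowers_two (h.xs s k.hs).z_pow).1 hw
theorem st : s * t = t * s := mem_cen1.1 (k.pt (h.mem k))
theorem sqc (he : e ∈ En s) (hv : v ∈ C[s]) : e * e * v = v * (e * e) := by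
  rcases (h.xs s k.hs).x2.sq e he with c | c <;> rw [← pow_two, c]
  exacts [by simp, (mem_cen1.1 hv).symm]

theorem I0 (hi : i ∈ P ⊓ En s ⊓ En t) : i ∈ En s ⊓ C(En s ⊓ C[t]) :=
  ⟨hi.1.2, FT.mem_cen.2 fun f hf => commutatorElement_eq_one_iff_mul_comm.1
    ((h.two k ((h.xs s k.hs).comm f hf.1 i hi.1.2)).resolve_right fun e =>
      h.nE' k.symm (e ▸ (h.commI k (h.F_eq k ▸ hf) ⟨hi.1.1, hi.2⟩).2))⟩

theorem I2 (hi : i ∈ P ⊓ En s ⊓ En t) : i * i = 1 := by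
  rcases (h.xs s k.hs).x2.sq i hi.1.2 with c | c
  · rwa [← pow_two]
  · exact absurd (c ▸ pow_mem hi.2 2) (h.nE' k.symm)

theorem I1 (hi : i ∈ En t) (hc : i ∈ cs (En s) t) : i = 1 := by
  obtain ⟨g, -, e⟩ := hc
  have := h.wc t k.ht _ (h.cjD t k.ht g) (conj_eq_of_comm e ▸ mul_mem hi (h.xs t k.ht).mem)
  rwa [conj_eq_of_comm e, mul_eq_right] at this

theorem T1 (hn : s ∉ cs (En s) t) (hi : i ∈ P ⊓ En s ⊓ En t) (i1 : i ≠ 1) : i * s ∈ cs (En s) t :=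
  ((h.ac k).one_or hn (h.I0 k hi)).resolve_left fun e => i1 (h.I1 k hi.2 e)

theorem K1 (hi : i ∈ P ⊓ En s ⊓ En t) (i1 : i ≠ 1) (hn : ¬ En s ⊓ C(P ⊓ En s ⊓ En t) ≤ P) :
    s ∉ cs (En s) t ∧ ∃ e ∈ En s, e ∈ N(P) ∧ e ∉ P ∧ e ∈ C(P ⊓ En s ⊓ En t) ∧
      ∀ j ∈ P ⊓ En s ⊓ En t, j ≠ 1 → ⁅e, t⁆ = j * s := by
  obtain ⟨e, he, n, e1⟩ := h.grow ((h.pE k.hs).mono inf_le_left)
    (norms_subcent (k.ps.trans (h.nE s)) (h.nI k)) hn
  have k' := (h.se k he.1 n e1).2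
  have a := h.ac k
  have x1 := a.mem he.1
  have e2 : t * (e * t * e⁻¹) = ⁅e, t⁆ := by rw [h.st k', commutatorElement_def, a.ti]
  by_cases c : t ∈ cs (En t) (e * t * e⁻¹)
  · exfalso
    obtain ⟨g, hg, c⟩ := c
    have e3 := h.wc s k.hs _ (h.cjD _ k'.ht g) (by rw [conj_eq_of_comm c, e2]; exact x1)
    rw [conj_eq_of_comm c, e2] at e3
    have hz : s ∈ cs (En s) t := ⟨e, he.1, e3⟩
    have l : En s ⊓ C(a.C) ≤ En s ⊓ C(En s ⊓ C[t]) := inf_le_inf_left _ (cen_anti a.F_le)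
    have e4 := H3.sup_zpowers_eq_of_prime ((H3.relIndex_of_card_mul l (n := 2)
      (by rw [a.card_W, a.two_card' hz])).symm ▸ Nat.prime_two) l (h.I0 k hi)
      fun c => i1 (h.I1 k hi.2 (a.two_eq hz ▸ c))
    refine e1 (h.FP k ⟨he.1, a.perp2 ⟨he.1, le_cen1.1 (e4 ▸ sup_le (inf_le_right.trans
      (cen_le_cen1 ⟨he.1, e3 ▸ mem_zpowers _⟩)) (zpowers_le.2 (mem_cen1.2 (FT.mem_cen.1 he.2 i hi))))⟩⟩)
  · have q : ∀ j ∈ P ⊓ En s ⊓ En t, j ≠ 1 → ⁅e, t⁆ = j * s := fun j hj j1 => by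
      obtain ⟨g, hg, c⟩ := h.T1 k' c ⟨⟨hj.1.1, hj.2⟩, by
        have := h.memE hj.2 e
        rwa [← FT.mem_cen.1 he.2 j hj, mul_inv_cancel_right] at this⟩ j1
      have e3 := h.wc s k.hs _ (h.cjD _ k'.ht g) (by
        rw [conj_eq_of_comm c, mul_assoc, e2]; exact mul_mem hj.1.2 x1)
      rw [conj_eq_of_comm c, mul_assoc, e2] at e3
      rw [← e3, ← mul_assoc, h.I2 k hj, one_mul]
    refine ⟨fun c => i1 (h.I1 k hi.2 ?_), e, he.1, n, e1, he.2, q⟩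
    have := a.two_mul c ⟨e, he.1, q i hi i1⟩
    rwa [mul_assoc, h.t2 k.hs, mul_one] at this

theorem ei (hi : i ∈ P ⊓ En s ⊓ En t) (he : e ∈ En s) (c : ⁅e, t⁆ = i * s) : e * i = i * e := by
  have a := inv_of_sq' (h.sqc k he (k.ps (h.mem k.symm)))
  have b := mem_cen1.1 (h.Ec k.hs he)
  rw [c, mul_inv_rev, inv_eq_of_mul_eq_one_right (h.I2 k hi), inv_eq_of_mul_eq_one_right (h.t2 k.hs),
    ← mem_cen1.1 (k.ps hi.1.1), mul_inv_eq_iff_eq_mul, mul_assoc i, ← b, ← mul_assoc, ← mul_assoc] at a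
  exact mul_right_cancel a

theorem ej (hi : i ∈ P ⊓ En s ⊓ En t) (hj : j ∈ P ⊓ En s ⊓ En t) (ij : j ≠ i) (he : e ∈ En s) (hd : d ∈ En s)
    (c : ⁅e, t⁆ = i * s) (c' : ⁅d, t⁆ = j * s) : ⁅e, j⁆ = s ∧ ⁅e * d, t⁆ = j * i * s := by
  have b := mem_cen1.1 (h.Ec k.hs he)
  have e1 : ⁅e * d, t⁆ = ⁅e, j⁆ * (j * i) := by
    rw [H3.comm_mul_left, c, c']
    calc _ = ⁅e, j⁆ * (j * (e * s * e⁻¹ * (i * s))) := by rw [commutatorElement_def]; group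
      _ = _ := by rw [b, mul_inv_cancel_right, mem_cen1.1 (k.ps hi.1.1), ← mul_assoc s, h.t2 k.hs, one_mul]
  rcases h.two k ((h.xs s k.hs).comm e he j hj.1.2) with a | a
  · rw [a, one_mul] at e1
    exact absurd ((eq_inv_of_mul_eq_one_left (h.I1 k (mul_mem hj.2 hi.2) ⟨_, mul_mem he hd, e1⟩)).trans
      (inv_eq_of_mul_eq_one_right (h.I2 k hi))) ij
  · exact ⟨a, by rw [e1, a, mem_cen1.1 (k.ps (mul_mem hj.1.1 hi.1.1))]⟩

theorem K0 (hI : P ⊓ En s ⊓ En t ≠ ⊥) (hP : En s ⊓ C(P ⊓ En s ⊓ En t) ≤ P) :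
    s ∈ Kn t ∧ s ∉ cs (En s) t ∧ ∃ i ∈ P ⊓ En s ⊓ En t, ∃ j ∈ P ⊓ En s ⊓ En t, i ≠ 1 ∧ j ≠ 1 ∧ j ≠ i := by
  have a := h.ac k
  have x := h.xs s k.hs
  have l : P ⊓ En s ⊓ En t ≤ En s := inf_le_left.trans inf_le_right
  have sn : s ∈ N(P ⊓ En s ⊓ En t) := h.nI k (h.mem k)
  have l1 : P ⊓ En s ⊓ En t ⊔ ⟪s⟫ ≤ En s ⊓ C(En s ⊓ C[t]) := sup_le (fun _ => h.I0 k)
    (zpowers_le.2 ⟨x.mem, cen_anti inf_le_left x.cen⟩)
  have e1 : En s ⊓ C(P ⊓ En s ⊓ En t ⊔ ⟪s⟫) = En s ⊓ C[t] := le_antisymm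
    (le_inf inf_le_left (((inf_le_inf_left _ (cen_anti le_sup_left)).trans hP).trans k.pt))
    (le_inf inf_le_left (centsC (l1.trans inf_le_right)))
  have c1 := x.card_perp (l1.trans inf_le_left) (mem_sup_right (mem_zpowers s))
  have c2 := x.card_perp (inf_le_left : En s ⊓ C[t] ≤ _) a.zF
  rw [e1, ← c2, mul_comm] at c1
  have c3 := Nat.eq_of_mul_eq_mul_left (FT.card_pos _) c1
  have e2 := eq_of_card_eq l1 c3
  rw [a.card_W, H3.card_sup_zpowers Nat.prime_two sn (fun e => h.nE' k.symm e.2) (x.z_pow ▸ one_mem _)] at c3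
  have n : s ∉ cs (En s) t := fun c => h.nE' k (a.inner (h.cE s k.hs) fun g hg => by
    obtain ⟨w, hw, v, hv, e⟩ := (H1.mem_sup_iff_of_le_normalizer (zpowers_le.2 sn)).1 (e2.ge (a.cenF hg))
    rcases h.two k hv with rfl | rfl
    · rw [e, h.I1 k hw.2 ⟨g, hg, by rw [e, mul_one]⟩, one_mul]; exact one_mem _
    · have := a.two_mul c ⟨g, hg, rfl⟩
      rw [e, mul_assoc, h.t2 k.hs, mul_one] at this
      rw [e, h.I1 k hw.2 this, one_mul]; exact mem_zpowers _)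
  obtain ⟨i, hi, -, i1, i2⟩ := h.exI k hI
  obtain ⟨e, he, c⟩ := h.T1 k n hi i1
  have l2 : P ⊓ En s ⊓ En t ⊓ C[e] ≤ ⟪i⟫ := fun j hj => by
    by_contra j1
    obtain ⟨d, hd, c'⟩ := h.T1 k n hj.1 fun e => j1 (e ▸ one_mem _)
    exact x.not_mem' (h.ej k hi hj.1 (fun e => j1 (e ▸ mem_zpowers _)) he hd c c').1 hj.2
  have n2 : ¬ P ⊓ En s ⊓ En t ≤ C[e] := fun l3 => by
    rw [commutatorElement_eq_one_iff_mul_comm.2 (mem_cen1.1 (k.pt (hP ⟨he, le_cen1.1 l3⟩)))] at c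
    exact h.nE' k.symm (eq_inv_of_mul_eq_one_right c.symm ▸ inv_mem hi.2)
  have c4 := x.card_cen1 l he n2
  have c5 := card_le l2
  rw [card_zpowers', orderOf_eq_prime (pow_two i ▸ i2) i1] at c5
  refine ⟨?_, n, ?_⟩
  · have : ¬ Ab (En s ⊓ C[t]) := fun ab => by
      obtain ⟨m, hm⟩ := x.card
      have c6 := x.card_ab hm inf_le_left ab
      have c7 := card_mul_cs (En s) t
      have c8 := h.big s k.hs
      have : 2 ^ (2 * m + 1) ≤ 2 ^ (m + 3) := by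
        rw [← hm, ← c7, show m + 3 = m + 1 + 2 by ring, pow_add 2 (m + 1)]
        exact Nat.mul_le_mul c6 (by omega)
      have := (Nat.pow_le_pow_iff_right one_lt_two).1 this
      have := (Nat.pow_le_pow_iff_right one_lt_two (n := 7)).1 (hm ▸ c8)
      omega
    obtain ⟨b, hb, d, hd, e⟩ := (x.toXC.sub inf_le_left a.zF).exists_pair this
    exact e ▸ h.commK k.ht hb.2 hd.2
  · obtain ⟨j, hj, j1⟩ := SetLike.not_le_iff_exists.1 n2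
    exact ⟨i, hi, j, hj, i1, fun e => j1 (e ▸ one_mem _), fun e => j1 (e ▸ mem_cen1.2 (h.ei k hi he c).symm)⟩

theorem cjK' (hs : s ∈ Kn t) (ha : a ∈ En s) (hx : x ∈ En s) : x ∈ Kn (a * t * a⁻¹) ↔ x ∈ Kn t := by
  have e : x = a * (⁅a⁻¹, x⁆ * x) * a⁻¹ := by rw [commutatorElement_def]; group
  nth_rewrite 1 [e]
  rw [h.memK, mul_mem_cancel_left (zpowers_le.2 hs ((h.xs s k.hs).comm _ (inv_mem ha) x hx))]

theorem ee (hi : i ∈ P ⊓ En s ⊓ En t) (c : ⁅e, t⁆ = i * s) (c' : ⁅d, s⁆ = i * t) : d * s * d⁻¹ = e * t * e⁻¹ := by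
  rw [conj_eq_of_comm c, conj_eq_of_comm c', mul_assoc, mul_assoc, h.st k]

theorem four (hI : P ⊓ En s ⊓ En t ≠ ⊥) (hP : En s ⊓ C(P ⊓ En s ⊓ En t) ≤ P) : False := by
  obtain ⟨s1, n1, i, hi, j, hj, i1, j1, ij⟩ := h.K0 k hI hP
  have sw : P ⊓ En t ⊓ En s = P ⊓ En s ⊓ En t := inf_right_comm _ _ _
  obtain ⟨t1, n2, -⟩ := h.K0 k.symm (sw ▸ hI) (by_contra fun c => by
    obtain ⟨-, e, -, -, -, -, q⟩ := h.K1 k.symm (sw ▸ hi) i1 c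
    exact ij (mul_right_cancel ((q j (sw ▸ hj) j1).symm.trans (q i (sw ▸ hi) i1))))
  obtain ⟨y, hy, y1, y2⟩ := h.ex_y k
  have L : ∀ i ∈ P ⊓ En s ⊓ En t, i ≠ 1 → ∀ e ∈ En s, ⁅e, t⁆ = i * s → ⁅e, y⁆ ∈ En s ⊓ C[t] ∧ ⁅e, y⁆ ∉ Kn t := by
    intro i hi i1 e he c
    obtain ⟨d, hd, c'⟩ := h.T1 k.symm n2 (sw ▸ hi) i1
    have m : ⁅e, y⁆ ∈ En s := comm_le_left (k.ps.trans (h.nE s)) (commutator_mem_commutator he hy.1)
    have e1 := conj_eq_of_comm (rfl : ⁅e, y⁆ = _)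
    have u1 : y ∈ C[e * t * e⁻¹] := by
      rw [conj_eq_of_comm c]
      exact cen1_comm.1 (mul_mem (mul_mem (cen_le_cen1 (show y ∈ En t ⊓ C[s] from ⟨hy.2, k.ps hy.1⟩)
        (h.I0 k.symm (sw ▸ hi)).2) (cen1_comm.1 (k.ps hy.1))) (cen1_comm.1 (k.pt hy.1)))
    have u2 : e * y * e⁻¹ ∈ C[e * t * e⁻¹] := cj_cen1 e t ▸ conj_mem_cj.2 (k.pt hy.1)
    have u3 : e * y * e⁻¹ ∈ C[t] := by
      have := conj_mem_cj (g := e).2 u1
      rwa [cj_cen1, show e * (e * t * e⁻¹) * e⁻¹ = e * e * t * (e * e)⁻¹ by group,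
        h.sqc k he (k.ps (h.mem k.symm)), mul_inv_cancel_right] at this
    refine ⟨⟨m, C[t].mul_mem u3 (inv_mem (k.pt hy.1))⟩, fun c2 => y2 ?_⟩
    have := (h.mulK (h.cjD t k.ht e) (mul_mem u2 (inv_mem u1)) u1).1 (by
      rw [inv_mul_cancel_right]; exact (h.memK e).2 y1)
    rw [← h.cjK' k.symm t1 hd hy.2, h.ee k hi c c']
    exact this.1 ((h.cjK' k s1 he m).2 c2)
  obtain ⟨e, he, c⟩ := h.T1 k n1 hi i1
  obtain ⟨d, hd, c'⟩ := h.T1 k n1 hj j1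
  obtain ⟨a1, a2⟩ := L i hi i1 e he c
  obtain ⟨b1, b2⟩ := L j hj j1 d hd c'
  refine (L _ (mul_mem hj hi) (fun e => ij ((eq_inv_of_mul_eq_one_left e).trans
    (inv_eq_of_mul_eq_one_right (h.I2 k hi)))) _ (mul_mem he hd) (h.ej k hi hj ij he hd c c').2).2 ?_
  rw [H3.comm_mul_left, conj_eq_of_comm (rfl : ⁅e, ⁅d, y⁆⁆ = _), mul_assoc]
  exact mul_mem (zpowers_le.2 s1 ((h.xs s k.hs).comm e he _ b1.1)) ((h.mulK k.ht b1.2 a1.2).2 (iff_of_false b2 a2))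

theorem twoI (hi : i ∈ P ⊓ En s ⊓ En t) (i1 : i ≠ 1) (h1 : ¬ En s ⊓ C(P ⊓ En s ⊓ En t) ≤ P)
    (h2 : ¬ En t ⊓ C(P ⊓ En t ⊓ En s) ≤ P) (hc : #(P ⊓ En s) ≤ #(P ⊓ En t)) : False := by
  have sw : P ⊓ En t ⊓ En s = P ⊓ En s ⊓ En t := inf_right_comm _ _ _
  have a := h.ac k
  have x := h.xs s k.hs
  obtain ⟨n1, e, he, n, e1, e2, q⟩ := h.K1 k hi i1 h1
  obtain ⟨-, d, hd, nd, -, d2, q'⟩ := h.K1 k.symm (sw ▸ hi) i1 h2
  have ed := h.ee k hi (q i hi i1) (q' i (sw ▸ hi) i1)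
  have I3 : ∀ v ∈ P ⊓ En t, v ∈ En (e * t * e⁻¹) → v ∈ P ⊓ En s ⊓ En t := fun v hv c => by
    have m : d⁻¹ * v * d ∈ P ⊓ En t ⊓ En s := ⟨⟨conj_mem' nd hv.1, conj_mem' (le_nrm _ hd) hv.2⟩, by
      rw [← ed] at c
      simpa [mul_assoc] using h.memE c d⁻¹⟩
    have := FT.mem_cen.1 d2 _ m
    rw [← mul_assoc, ← mul_assoc, mul_inv_cancel, one_mul, mul_left_inj] at this
    rw [← this]; exact sw ▸ m
  have cE : ∀ v ∈ P ⊓ En t, e * v * e⁻¹ ∈ En (e * t * e⁻¹) := fun v hv => h.memE hv.2 e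
  have l : ∀ v ∈ P ⊓ En t, ⁅v, e⁆ ∈ En s ⊓ C(En s ⊓ C[t]) ⊓ C[e] := fun v hv => by
    have m1 : ⁅v, e⁆ ∈ En s := comm_le_right (k.ps.trans (h.nE s)) (commutator_mem_commutator hv.1 he)
    have m2 : ⁅v, e⁆ ∈ P := comm_le_left (zpowers_le.2 n) (commutator_mem_commutator hv.1 (mem_zpowers e))
    have m3 : ⁅v, e⁆ ∈ C(En s ⊓ C[t]) := FT.mem_cen.2 fun f hf => by
      have b := h.commI k (h.F_eq k ▸ hf) hv
      have b1 := FT.mem_cen.1 e2 _ b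
      have b2 := FT.mem_cen.1 (h.I0 k b).2 _ (inv_mem ⟨m1, k.pt m2⟩)
      have b3 : e * ⁅f, v⁆ * e⁻¹ = ⁅⁅e, f⁆ * f, ⁅v, e⁆⁻¹ * v⁆ := by simp only [commutatorElement_def]; group
      have w := x.comm e he f hf.1
      have b4 : ⁅⁅e, f⁆, ⁅v, e⁆⁻¹ * v⁆ = 1 := commutatorElement_eq_one_iff_mul_comm.2
        (mem_cen1.1 (zpowers_le.2 (cen1_comm.1 (k.ps (mul_mem (inv_mem m2) hv.1))) w))
      rw [← b1, mul_inv_cancel_right, H3.comm_mul_left, b4, mul_one, H3.comm_mul_right_of_commute b2,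
        mem_cen1.1 (zpowers_le.2 (cen1_comm.1 (h.Ec k.hs (mul_mem (x.zle (x.comm f hf.1 _ (inv_mem m1))) b.1.2))) w),
        mul_inv_cancel_right, eq_comm, mul_eq_right, commutatorElement_eq_one_iff_commute] at b3
      exact (Commute.inv_right_iff.1 b3).eq
    refine ⟨⟨m1, m3⟩, mem_cen1.2 ?_⟩
    rw [eq_comm, ← mul_inv_eq_iff_eq_mul, inv_of_sq (h.sqc k he (k.ps hv.1)),
      inv_eq_of_mul_eq_one_right (a.one_F n1 ⟨m1, m3⟩).2]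
  have l2 : P ⊓ En t ⊓ C[e] ≤ ⟪i⟫ := fun v hv => by
    by_contra v1
    have := I3 v hv.1 (by simpa [← mem_cen1.1 hv.2] using cE v hv.1)
    exact v1 (mul_right_cancel ((q v this fun e => v1 (e ▸ one_mem _)).symm.trans (q i hi i1)) ▸ mem_zpowers _)
  have c1 := card_le l2
  rw [card_zpowers', orderOf_eq_prime (pow_two i ▸ h.I2 k hi) i1] at c1
  have c2 := card_mul_cs (P ⊓ En t) e
  have c3 := x.card_cen1 (inf_le_left : En s ⊓ C(En s ⊓ C[t]) ≤ _) he fun c =>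
    e1 (h.FP k ⟨he, a.perp2 ⟨he, le_cen1.1 c⟩⟩)
  have c4 := card_le (fun w hw => h.F_eq k ▸ ⟨hw.1, (a.one_F n1 hw).1⟩ : En s ⊓ C(En s ⊓ C[t]) ≤ P ⊓ En s)
  obtain ⟨v, hv, e3⟩ : i ∈ cs (P ⊓ En t) e := cs_eq l (by nlinarith) ▸ ⟨h.I0 k hi, cen1_comm.1 (cen_le_cen1 hi e2)⟩
  have e4 : e * v * e⁻¹ = i⁻¹ * v := by rw [← e3, commutatorElement_def]; group
  have := I3 _ (mul_mem (inv_mem ⟨hi.1.1, hi.2⟩) hv) (e4 ▸ cE v hv)
  rw [mul_mem_cancel_left (inv_mem hi)] at this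
  exact i1 (e3 ▸ commutatorElement_eq_one_iff_mul_comm.2 (FT.mem_cen.1 e2 v this))

theorem I_bot : P ⊓ En s ⊓ En t = ⊥ := by
  by_contra hI
  have sw : P ⊓ En t ⊓ En s = P ⊓ En s ⊓ En t := inf_right_comm _ _ _
  obtain ⟨i, hi, -, i1, -⟩ := h.exI k hI
  have h1 := h.four k hI
  have h2 := h.four k.symm (sw ▸ hI)
  rcases le_total #(P ⊓ En s) #(P ⊓ En t) with c | c
  · exact h.twoI k hi i1 h1 h2 c
  · exact h.twoI k.symm (sw ▸ hi) i1 h2 h1 c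

theorem onto (hc : #(P ⊓ En s) ≤ #(P ⊓ En t)) (he : e ∈ En s) (n : e ∈ N(P)) (e1 : e ∉ P) :
    cs (P ⊓ En t) e = (P ⊓ En s : Subgroup G) := by
  refine cs_eq (fun v hv => ⟨comm_le_left (zpowers_le.2 n) (commutator_mem_commutator hv.1 (mem_zpowers e)),
    comm_le_right (k.ps.trans (h.nE s)) (commutator_mem_commutator hv.1 he)⟩) ?_
  have e2 : P ⊓ En t ⊓ C[e] = ⊥ := le_bot_iff.1 fun v hv => h.I_bot (h.se k he n e1).2 ▸ ⟨hv.1, by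
    simpa [← mem_cen1.1 hv.2] using h.memE hv.1.2 e⟩
  have := card_mul_cs (P ⊓ En t) e
  rw [e2, card_bot] at this; omega

theorem inverts (hc : #(P ⊓ En s) ≤ #(P ⊓ En t)) (he : e ∈ En s) (n : e ∈ N(P)) (e1 : e ∉ P) (hf : f ∈ P ⊓ En s) :
    e * f * e⁻¹ = f⁻¹ := by
  obtain ⟨v, hv, rfl⟩ : f ∈ cs (P ⊓ En t) e := h.onto k hc he n e1 ▸ hf
  exact inv_of_sq (h.sqc k he (k.ps hv.1))

theorem FF (hv : v ∈ P ⊓ En t) : v ∈ C(En s ⊓ C[t]) := FT.mem_cen.2 fun f hf =>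
  commutatorElement_eq_one_iff_mul_comm.1 (mem_bot.1 (h.I_bot k ▸ h.commI k (h.F_eq k ▸ hf) hv))

theorem zero (hc : #(P ⊓ En s) ≤ #(P ⊓ En t)) : False := by
  have a := h.ac k
  have x := h.xs s k.hs
  obtain ⟨e, he, n, e1⟩ := h.exA k
  have ab : Ab (En s ⊓ C[t]) := h.F_eq k ▸ ab_iff_forall.2 fun b hb d hd => by
    have := h.inverts k hc he n e1 (mul_mem hb hd)
    rw [← conj_mul (b := e), h.inverts k hc he n e1 hb, h.inverts k hc he n e1 hd, ← mul_inv_rev, inv_inj] at this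
    exact this.symm
  by_cases q : ∀ f ∈ P ⊓ En s, f * f = 1
  swap
  · push Not at q
    obtain ⟨f, hf, f2⟩ := q
    obtain ⟨v, hv, rfl⟩ : f ∈ cs (P ⊓ En t) e := h.onto k hc he n e1 ▸ hf
    refine h.nE' k (a.inner (h.cE s k.hs) fun g hg => a.quad (a.lemT ab (h.F_eq k ▸ hf) f2).2
      (h.nE s (k.ps hv.1)) (h.FF k hv) ?_ hg)
    refine pow_two v ▸ ((h.xs t k.ht).x2.sq v hv.2).resolve_left fun c => f2 ?_
    rw [← pow_two, ← H3.comm_pow_left (FT.mem_cen.1 (h.FF k hv) _ (h.F_eq k ▸ hf)).symm, c, commutatorElement_one_left]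
  have cn : ∀ e ∈ En s, e ∈ N(P) → e ∉ P → e ∈ C(En s ⊓ C[t]) := fun e he n e1 => FT.mem_cen.2 fun f hf => by
    rw [h.F_eq k] at hf
    rw [eq_comm, ← mul_inv_eq_iff_eq_mul, h.inverts k hc he n e1 hf, inv_eq_of_mul_eq_one_right (q f hf)]
  have hz : s ∈ cs (En s) t := by_contra fun c => e1 (h.FP k ⟨he, (a.one_F c ⟨he, cn e he n e1⟩).1⟩)
  obtain ⟨c, hc', c1⟩ := id hz
  have n2 := h.nrm_of k hc' (conj_eq_of_comm c1 ▸ le_cen1.2 (mul_mem (le_cen1.1 k.ps) (le_cen1.1 k.pt)))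
  have c2 : c ∉ C[t] := x.not_mem c1
  have c3 : c ∉ P := fun e => c2 (k.pt e)
  have e2 : En s ⊓ C[t] ⊔ ⟪c⟫ = a.C := H3.sup_zpowers_eq_of_prime
    ((H3.relIndex_of_card_mul a.F_le (a.two_card hz)).symm ▸ Nat.prime_two) a.F_le ⟨hc', c1 ▸ mem_zpowers _⟩
    fun e => c2 e.2
  have ab2 : Ab a.C := e2 ▸ ab.sup (ab_zpowers _) (zpowers_le.2 (cn c hc' n2 c3))
  obtain ⟨g, hg, g1⟩ : c ∈ cs (En s) t := a.two_eq hz ▸ ⟨hc', ab2.le_cen ⟨hc', c1 ▸ mem_zpowers _⟩⟩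
  have l : cs (P ⊓ En t) c ⊆ cs (En s ⊓ C(En s ⊓ C[t])) (g * t * g⁻¹) := by
    rintro _ ⟨v, hv, rfl⟩
    refine ⟨_, a.comm_W (h.nE s (k.ps hv.1)) (h.FF k hv) hg, ?_⟩
    have b := mem_cen1.1 (k.pt hv.1)
    rw [← g1]
    simp only [commutatorElement_def]
    calc _ = v * g * (v⁻¹ * (t * v)) * g⁻¹ * v⁻¹ * g * t⁻¹ * g⁻¹ := by group
      _ = v * g * t * g⁻¹ * (t⁻¹ * (t * v⁻¹)) * g * t⁻¹ * g⁻¹ := by rw [← b]; group
      _ = _ := by rw [← (show Commute v t from b).inv_left.eq]; group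
  have c4 := Set.ncard_le_ncard l (Set.toFinite _)
  rw [h.onto k hc hc' n2 c3, ← h.F_eq k] at c4
  have c5 := card_mul_cs (En s ⊓ C(En s ⊓ C[t])) (g * t * g⁻¹)
  have c6 : #(En s ⊓ C[t]) ≤ #(En s ⊓ C(En s ⊓ C[t]) ⊓ C[g * t * g⁻¹]) := card_le (le_inf
    (le_inf inf_le_left ab.le_cen) (conj_eq_of_comm g1 ▸ le_cen1.2 (mul_mem (cn c hc' n2 c3) (le_cen1.1 inf_le_right))))
  have c7 := a.card_W
  have c8 := cs_le fun _ => a.memC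
  have c9 := a.two_card hz
  have c10 := card_mul_cs (En s) t
  have c11 := h.big s k.hs
  change #(En s ⊓ C[t]) ≤ _ at c4
  have c12 := Nat.mul_le_mul c6 c4
  have c13 : #(En s ⊓ C[t]) ≤ 4 := by nlinarith
  nlinarith

theorem false : False := (le_total _ _).elim (h.zero k) (h.zero k.symm)

end Mw

theorem s3300 (hres : pResidual 2 G = ⊤) (hz : orderOf z = 2) (hE : E = (pCore 2 C[z]).map C[z].subtype)
    (hext : IsExtraspecial 2 E) (hc : C(E) ≤ E) {n : ℕ} (hn : 3 ≤ n) (hcard : #E = 2 ^ (2 * n + 1))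
    (hKn : ∀ h ∈ C[z], K.map (MulAut.conj h).toMonoidHom = K) (hKi : K.relIndex C[z] = 2) :
    ∃ g : G, g * z * g⁻¹ ∈ E ∧ g * z * g⁻¹ ≠ z := by
  obtain ⟨hx, hn', nE⟩ := setup hz hE hext
  by_contra! hw
  obtain ⟨P, s, t, h, k⟩ := (exists_fam hx hn' hc nE (fun g hg => cj_eq_self.1 (hKn g hg)) hKi).exists_mb
    (t := z) ⟨1, by simp⟩ hres
  refine Mw.false ⟨h, ?_, ?_⟩ k
  · rintro _ ⟨g, rfl⟩ _ ⟨d, rfl⟩ e
    rw [fam_eq nE, mem_cj] at e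
    have := hw (g⁻¹ * d) (by simpa [mul_assoc] using e)
    calc _ = g * (g⁻¹ * d * z * (g⁻¹ * d)⁻¹) * g⁻¹ := by group
      _ = _ := by rw [this]
  · rintro _ ⟨g, rfl⟩
    rw [fam_eq nE, card_cj, hcard]
    exact Nat.pow_le_pow_right two_pos (i := 7) (by omega)

end Cfsg.Agent.GO
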