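import Cfsg.Agent.GO.Mw5

/-! Permutation groups of small fixity: the pointwise and setwise stabilizers of a maximal fixed point set. -/

set_option autoImplicit false
set_option linter.unusedSectionVars false
set_option linter.unusedVariables false
set_option linter.style.haveILetI false

namespace Cfsg.Agent.GO

open Cfsg Subgroup Cfsg.Agent.FT Cfsg.Agent.GW
open scoped commutatorElement

universe u

variable {G : Type u} [Group G] [Finite G] {D : Set G} {p : ℕ}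
  {A B E H J K L M P Q R S T U V W X Y Z : Subgroup G} {a b d e g r s t v w x y z : G}

variable {c f k u : G} {n m : ℕ}

namespace Fx

open Fg MulAction
open scoped Pointwise

/-- the abstract properties of the pair of stabilizers -/
structure Te (p n : ℕ) (K M : Subgroup G) : Prop where
  pr : p.Prime
  le : K ≤ M
  nm : M ≤ N(K)
  ti : ∀ k ∈ K, k ≠ 1 → PiElt {p} k → ∀ g, g * k * g⁻¹ ∈ K → g ∈ M
  idx : ∀ H ≤ M, PGrp p H → K.relIndex H ≤ n

structure T4 (K M : Subgroup G) : Prop extends Te 2 8 K M where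
  ab : ∀ H ≤ M, PGrp 2 H → (∀ x ∈ H, ∀ y ∈ H, ⁅x, y⁆ ∈ K) → K.relIndex H ≤ 4
  semi : ∀ g, g ∉ M → ∀ V ≤ K ⊓ cj g M, PGrp 2 V → #V ≤ 4

structure T3 (K M : Subgroup G) : Prop extends Te 3 3 K M where
  nr : ∀ g ∈ M, ∀ z ∈ M, z ∉ K → z ^ 3 ∈ K → ∃ k : ℕ, Odd (orderOf (g * z ^ k))

theorem pw1 (hp : p.Prime) (k1 : k ≠ 1) (hk : PiElt {p} k) : ∃ i : ℕ, orderOf (k ^ i) = p := by
  obtain ⟨y, hy, h⟩ := exists_prime_order_zpowers k1
  obtain ⟨i, rfl⟩ := (mem_powers_iff_mem_zpowers.2 hy)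
  exact ⟨i, (piElt_of_orderOf_prime h rfl).1 (hk.pow i)⟩

theorem Te.cj (h : Te p n K M) (g : G) : Te p n (cj g K) (cj g M) :=
  ⟨h.pr, cj_mono g h.le, cj_norms.2 h.nm, fun k hk k1 pk x hx => by
    obtain ⟨y, hy, rfl⟩ := mem_cj'.1 hk
    refine mem_cj.2 (h.ti y hy (conj_ne_one.1 k1) (piElt_conj.1 pk) _ ?_)
    have := mem_cj.1 hx
    convert this using 1; group,
   fun H hH pH => by
    rw [← cj_cj_inv g H, relIndex_cj]; exact h.idx _ (le_cj_iff.1 hH) (pH.cj _)⟩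

theorem T4.cj (h : T4 K M) (g : G) : T4 (cj g K) (cj g M) :=
  ⟨h.toTe.cj g, fun H hH pH hc => by
    rw [← cj_cj_inv g H, relIndex_cj]
    refine h.ab _ (le_cj_iff.1 hH) (pH.cj _) fun x hx y hy => ?_
    obtain ⟨x, hx', rfl⟩ := mem_cj'.1 hx
    obtain ⟨y, hy', rfl⟩ := mem_cj'.1 hy
    rw [← c_conj, inv_inv]; exact mem_cj.1 (hc x hx' y hy'),
   fun x hx V hV pV => by
    rw [← card_cj g⁻¹]
    refine h.semi (g⁻¹ * x * g) (fun k => hx (mem_cj.2 k)) _ ?_ (pV.cj _)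
    rw [← le_cj_iff, cj_inf, cj_cj]
    rwa [cj_cj, show x * g = g * (g⁻¹ * x * g) by group] at hV⟩

theorem T3.cj (h : T3 K M) (g : G) : T3 (cj g K) (cj g M) :=
  ⟨h.toTe.cj g, fun x hx z hz nz z3 => by
    obtain ⟨x, hx', rfl⟩ := mem_cj'.1 hx
    obtain ⟨z, hz', rfl⟩ := mem_cj'.1 hz
    obtain ⟨k, hk⟩ := h.nr x hx' z hz' (fun k => nz (conj_mem_cj.2 k)) (by rwa [conj_pow, conj_mem_cj] at z3)
    exact ⟨k, by rwa [conj_pow, conj_mul, orderOf_conj]⟩⟩

section Om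
variable {Ω : Type*} [MulAction G Ω] [Finite Ω] {Δ : Set Ω}

theorem psi (hm : Nat.card Δ ≤ m) : ∃ (ι : Δ ↪ Fin m) (ψ : stabilizer G Δ →* Equiv.Perm (Fin m)),
    ψ.ker = (fixingSubgroup G Δ).subgroupOf _ ∧ ∀ g i, ψ g i ≠ i → ∃ ω : Δ, ι ω = i ∧
      ∀ h, ψ h i = i → (h : G) • (ω : Ω) = ω := by
  classical
  obtain ⟨ι⟩ : Nonempty (Δ ↪ Fin m) := by
    haveI := Fintype.ofFinite Δ
    exact Function.Embedding.nonempty_of_card_le (by simpa using hm)
  letI : MulAction (stabilizer G Δ) Δ :=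
    { smul := fun g ω => ⟨(g : G) • (ω : Ω), (mem_stabilizer_set.1 g.2 _).2 ω.2⟩
      one_smul := fun ω => Subtype.ext (one_smul G (ω : Ω))
      mul_smul := fun x y ω => Subtype.ext (mul_smul (x : G) (y : G) (ω : Ω)) }
  refine ⟨ι, (Equiv.Perm.viaEmbeddingHom ι).comp (MulAction.toPermHom (stabilizer G Δ) Δ), ?_, fun g i hi => ?_⟩
  · ext g
    rw [MonoidHom.mem_ker, MonoidHom.comp_apply, map_eq_one_iff _ (Equiv.Perm.viaEmbeddingHom_injective ι),
      mem_subgroupOf, mem_fixingSubgroup_iff, Equiv.ext_iff]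
    exact ⟨fun h y hy => congrArg Subtype.val (h ⟨y, hy⟩), fun h y => Subtype.ext (h y y.2)⟩
  · by_cases e : i ∈ Set.range ι
    · obtain ⟨ω, rfl⟩ := e
      refine ⟨ω, rfl, fun h hh => ?_⟩
      rw [MonoidHom.comp_apply, Equiv.Perm.viaEmbeddingHom_apply, Equiv.Perm.viaEmbedding_apply] at hh
      exact congrArg Subtype.val (ι.injective hh)
    · exact absurd (Equiv.Perm.viaEmbedding_apply_of_notMem _ _ _ e) hi

theorem rel_eq {Y : Type} [Group Y] (ψ : M →* Y) (h : ψ.ker = K.subgroupOf M) (hH : H ≤ M) :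
    K.relIndex H = Nat.card ((H.subgroupOf M).map ψ) := by
  rw [← relIndex_ker, h, relIndex_subgroupOf hH]

theorem rel_dvd (hm : Nat.card Δ ≤ m) (hH : H ≤ stabilizer G Δ) : (fixingSubgroup G Δ).relIndex H ∣ m.factorial := by
  obtain ⟨ι, ψ, h, -⟩ := psi (G := G) hm
  rw [rel_eq ψ h hH]
  have := card_subgroup_dvd_card ((H.subgroupOf _).map ψ)
  rwa [Nat.card_perm, Nat.card_eq_fintype_card (α := Fin m), Fintype.card_fin] at this

variable (ht : orderOf t = p) (hp : p.Prime)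
  (hx : ∀ g : G, orderOf g = p → Nat.card (fixedBy Ω g) ≤ Nat.card (fixedBy Ω t))
include hx

theorem fix_eq (hk : k ∈ fixingSubgroup G (fixedBy Ω t)) (ho : orderOf k = p) : fixedBy Ω k = fixedBy Ω t :=
  (Set.eq_of_subset_of_ncard_le (fun ω hω => (mem_fixingSubgroup_iff G).1 hk ω hω) (hx k ho)).symm

include hp in
theorem te (hn : ∀ i, p ^ i ∣ m.factorial → p ^ i ≤ n) (hm : Nat.card (fixedBy Ω t) ≤ m) :
    Te p n (fixingSubgroup G (fixedBy Ω t)) (stabilizer G (fixedBy Ω t)) := by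
  refine ⟨hp, fun g hg => ?_, le_nrm_iff.2 fun g hg x hx => ?_, fun k hk k1 pk g hg => ?_, fun H hH pH => ?_⟩
  · refine (mem_stabilizer_set' (Set.toFinite _)).2 fun b hb => ?_
    rwa [(mem_fixingSubgroup_iff G).1 hg b hb]
  · refine (mem_fixingSubgroup_iff G).2 fun y hy => ?_
    rw [mul_smul, mul_smul, (mem_fixingSubgroup_iff G).1 hx _ ((mem_stabilizer_set.1 (inv_mem hg) y).2 hy),
      smul_inv_smul]
  · obtain ⟨i, hi⟩ := pw1 hp k1 pk
    have h1 := fix_eq hx (pow_mem hk i) hi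
    have h2 := fix_eq hx (pow_mem hg i) (by rwa [conj_pow, orderOf_conj])
    rw [conj_pow, ← smul_fixedBy, h1] at h2
    exact h2
  · obtain ⟨i, hi⟩ := (pH.relIndex (fixingSubgroup G (fixedBy Ω t))).exists_pow (relIndex_pos _ _).ne'
    have := rel_dvd hm hH
    rw [hi] at this ⊢; exact hn i this

end Om

theorem d4 : ((Finset.univ : Finset (Equiv.Perm (Fin 4))).filter fun a =>
    8 ≤ (Finset.univ.filter fun b => a * b = b * a).card).card = 4 := by decide +kernel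

theorem d3 : ∀ g z : Equiv.Perm (Fin 4), z ≠ 1 → z ^ 3 = 1 → ∃ k : Fin 3, ∃ i, z i ≠ i ∧ (g * z ^ (k : ℕ)) i = i := by
  decide +kernel

theorem pdiv {a b : ℕ} (hp : p.Prime) (h : ¬ p ^ (a + 1) ∣ b) (i : ℕ) (hi : p ^ i ∣ b) : p ^ i ≤ p ^ a :=
  Nat.pow_le_pow_right hp.pos (by_contra fun k => h ((pow_dvd_pow p (by omega)).trans hi))

section Om2
variable {Ω : Type*} [MulAction G Ω] [Finite Ω]

theorem t4 (hx : ∀ g : G, orderOf g = 2 → Nat.card (fixedBy Ω g) ≤ Nat.card (fixedBy Ω t))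
    (hm : Nat.card (fixedBy Ω t) ≤ 4) : T4 (fixingSubgroup G (fixedBy Ω t)) (stabilizer G (fixedBy Ω t)) := by
  have h0 := te Nat.prime_two hx (n := 2 ^ 3) (pdiv Nat.prime_two (by decide)) hm
  refine ⟨h0, fun H hH pH hc => ?_, fun g hg V hV pV => ?_⟩
  · classical
    obtain ⟨ι, ψ, h, -⟩ := psi (G := G) hm
    have h1 := h0.idx H hH pH
    rcases pw_cases pH (fixingSubgroup G (fixedBy Ω t)) with e | e | e | e
    any_goals omega
    exfalso
    rw [rel_eq ψ h hH] at e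
    set A := (H.subgroupOf _).map ψ
    have hA : ∀ a ∈ A, ∀ b ∈ A, a * b = b * a := by
      rintro _ ⟨x, hx, rfl⟩ _ ⟨y, hy, rfl⟩
      rw [← commutatorElement_eq_one_iff_mul_comm, ← map_commutatorElement, ← MonoidHom.mem_ker, h]
      exact hc x hx y hy
    have c : Nat.card A = (Finset.univ.filter (· ∈ A)).card := by
      rw [Nat.card_eq_fintype_card, Fintype.card_subtype]
    rw [c] at e
    have := Finset.card_le_card (s := Finset.univ.filter (· ∈ A)) (t := Finset.univ.filter fun a =>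
      8 ≤ (Finset.univ.filter fun b => a * b = b * a).card) fun a ha => by
        simp only [Finset.mem_filter, Finset.mem_univ, true_and] at ha ⊢
        exact e.trans (Finset.card_le_card fun b hb => by
          simp only [Finset.mem_filter, Finset.mem_univ, true_and] at hb ⊢
          exact hA a ha b hb)
    rw [d4] at this; omega
  · have h1 : ¬ g • fixedBy Ω t ⊆ fixedBy Ω t := fun k =>
      hg ((mem_stabilizer_set_iff_smul_set_subset (Set.toFinite _)).2 k)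
    obtain ⟨_, ⟨ω, hω, rfl⟩, nω⟩ := Set.not_subset.1 h1
    let F : V → fixedBy Ω t := fun v => ⟨(g⁻¹ * v * g) • ω, (mem_stabilizer_set.1 (mem_cj.1 (hV v.2).2) _).2 hω⟩
    refine (Nat.card_le_card_of_injective F fun x y e => ?_).trans hm
    by_contra ne
    have e1 : ((y : G)⁻¹ * x) • g • ω = g • ω := by
      have := congrArg Subtype.val e
      simp only [F, mul_smul, smul_left_cancel_iff] at this
      rw [mul_smul, this, inv_smul_smul]
    have hv : (y : G)⁻¹ * x ∈ V := mul_mem (inv_mem y.2) x.2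
    obtain ⟨i, hi⟩ := pw1 Nat.prime_two (fun k => ne (Subtype.ext (inv_mul_eq_one.1 k)).symm) (pV.piElt hv)
    refine nω ?_
    rw [← fix_eq hx (pow_mem (hV hv).1 i) hi]
    exact pow_mem (S := stabilizer G (g • ω)) e1 i

theorem t3 (hx : ∀ g : G, orderOf g = 3 → Nat.card (fixedBy Ω g) ≤ Nat.card (fixedBy Ω t))
    (hm : Nat.card (fixedBy Ω t) ≤ 4) (ho : ∀ ω : Ω, Odd #(stabilizer G ω)) :
    T3 (fixingSubgroup G (fixedBy Ω t)) (stabilizer G (fixedBy Ω t)) := by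
  refine ⟨te Nat.prime_three hx (n := 3 ^ 1) (pdiv Nat.prime_three (by decide)) hm, fun g hg z hz nz z3 => ?_⟩
  obtain ⟨ι, ψ, h, h'⟩ := psi (G := G) hm
  obtain ⟨k, i, h1, h2⟩ := d3 (ψ ⟨g, hg⟩) (ψ ⟨z, hz⟩) (fun e => nz (by
    rw [← MonoidHom.mem_ker, h] at e; exact e)) (by rw [← map_pow, ← MonoidHom.mem_ker, h]; exact z3)
  obtain ⟨ω, -, h3⟩ := h' _ i h1
  rw [← map_pow, ← map_mul] at h2
  exact ⟨k, (ho ω).of_dvd_nat (orderOf_dvd_card' (H := stabilizer G (ω : Ω)) (h3 _ h2))⟩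

end Om2

end Fx

end Cfsg.Agent.GO
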