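import Cfsg.Agent.GO.Fx1

/-! Two commuting four-subgroups and sectional rank. -/

set_option autoImplicit false
set_option linter.unusedSectionVars false
set_option linter.unusedVariables false
set_option linter.style.haveILetI false

namespace Cfsg.Agent.GO

open Cfsg Subgroup Cfsg.Agent.FT Cfsg.Agent.GW
open scoped commutatorElement

universe u

variable {G : Type u} [Group G] [Finite G] {D : Set G} {p : ℕ}
  {A B E H J K L M P Q R S T U V W X Y Z : Subgroup G} {a b d e g r s t v w x y z : G}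

variable {c f k u : G} {n m : ℕ}

namespace Fx

open Fg

theorem abel2 (h : ∀ x ∈ B, x * x = 1) : Abelem 2 B :=
  ⟨ab_iff_forall.2 fun x hx y hy => commutatorElement_eq_one_iff_mul_comm.1 (mem_bot.1
    (comm_sq (Y := ⊥) (fun s hs => mem_bot.2 (h s hs)) hx hy)), fun x hx => by rw [sq, h x hx]⟩

theorem c24 (pP : PGrp 2 P) : #P = 1 ∨ #P = 2 ∨ #P = 4 ∨ 8 ≤ #P := by
  simpa [relIndex_bot_left] using pw_cases pP ⊥

theorem via (pS : PGrp 2 S) (ht : t ∈ S) (t2 : t * t = 1)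
    (h : ∀ A ≤ S, t ∈ A → Abelem 2 A → #A = 8 → S ⊓ C(A) ≤ A) : SR 4 S := red pS fun E L z hE => by
  by_cases e : t ∈ E
  · exact harada pS hE.le hE.aE hE.cE (h E hE.le e hE.aE hE.cE)
  obtain ⟨W, h1, h2, h3⟩ : ∃ W ≤ E, t ∈ C(W) ∧ #W = 4 := by
    by_cases k : L ≤ C[t]
    · exact ⟨L, hE.LE, le_cen1.1 k, hE.cL⟩
    refine ⟨C[t] ⊓ E, inf_le_right, le_cen1.1 inf_le_left, ?_⟩
    have h1 := (free hE.aE (hE.nE ht) (t2 ▸ one_mem _) bot_le (bot_inf_eq _)).2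
    have h2 := card_inf_mul_relIndex C[t] E
    have h3 := two_card (inf_le_right : C[t] ⊓ E ≤ E) fun k' => k (hE.LE.trans (k'.trans inf_le_left))
    rw [hE.cE] at *
    rcases c24 (pS.mono ((inf_le_right : C[t] ⊓ E ≤ E).trans hE.le)) with e | e | e | e
    · rw [e] at h1 h2; omega
    · rw [e] at h1 h2; omega
    all_goals omega
  have hA : W ⊔ ⟪t⟫ ≤ S := sup_le (h1.trans hE.le) (zpowers_le.2 ht)
  have aA := (hE.aE.mono h1).sup_zpowers h2 (by rw [sq, t2])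
  have cA : #(W ⊔ ⟪t⟫) = 8 := by
    rw [H3.card_sup_zpowers Nat.prime_two (cen_le_nrm _ h2) (fun k => e (h1 k)) (by rw [sq, t2]; exact one_mem _), h3]
  exact harada pS hA aA cA (h _ hA (mem_sup_right (mem_zpowers t)) aA cA)

theorem big (aA : Ab A) (cA : #A = 8) (hx : x ∈ C(A)) (nx : x ∉ A) : Ab (A ⊔ ⟪x⟫) ∧ 16 ≤ #(A ⊔ ⟪x⟫) :=
  ⟨aA.sup (ab_zpowers x) (zpowers_le.2 hx), by
    have := two_card (le_sup_left : A ≤ A ⊔ ⟪x⟫) fun k => nx (k (mem_sup_right (mem_zpowers x)))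
    omega⟩

theorem adj (aB : Abelem 2 B) (cB : #B = 4) (hw : w ∈ N(B)) (nw : w ∉ C(B)) (hb : b ∈ B) (e : w * b * w⁻¹ = b) :
    ∃ c ∈ B, c * (w * c * w⁻¹) = b := by
  by_cases b1 : b = 1
  · exact ⟨1, one_mem _, by simp [b1]⟩
  obtain ⟨c, hc, k⟩ : ∃ c ∈ B, w * c * w⁻¹ ≠ c := by
    by_contra! k
    exact nw (mem_cen.2 fun x hx => (mul_inv_eq_iff_eq_mul.1 (k x hx)).symm)
  refine ⟨c, hc, ?_⟩
  have bc : b ≠ c := fun h => k (h ▸ e)
  rcases four_mem aB cB.le hb hc b1 (fun h => k (by simp [h])) bc (conj_mem hw hc) with h | h | h | h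
  · exact absurd (by simpa using h) (fun h : c = 1 => k (by simp [h]))
  · exact absurd (MulAut.conj w |>.injective (by simpa using e.trans h.symm)) bc
  · exact absurd h k
  · rw [h, ← mul_assoc, aB.ab.comm hc hb, mul_assoc, ← sq, aB.pow hc, mul_one]

structure Pr (S Y B V : Subgroup G) : Prop where
  pS : PGrp 2 S
  le : Y ≤ S
  hB : B ≤ Y
  hV : V ≤ Y
  nB : Y ≤ N(B)
  nV : Y ≤ N(V)
  bot : B ⊓ V = ⊥
  cB : #B = 4
  cV : #V = 4
  abB : ∀ H ≤ Y, Ab H → B.relIndex H ≤ 4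
  abV : ∀ H ≤ Y, Ab H → V.relIndex H ≤ 4
  iB : B.relIndex Y ≤ 8
  hC : ∀ b ∈ B, b ≠ 1 → S ⊓ C[b] ≤ Y
  iso : (∀ b ∈ B, b * b = 1) ↔ ∀ v ∈ V, v * v = 1

theorem nc (hV : V ≤ Y) (nB : Y ≤ N(B)) (cB : #B = 4) (c16 : #(B ⊔ V) = 16) (aV : Ab V)
    (abB : ∀ H ≤ Y, Ab H → B.relIndex H ≤ 4) (hw : w ∈ Y) (nw : w ∉ B ⊔ V) : w ∉ C(V) := fun k => by
  have hH : V ⊔ ⟪w⟫ ≤ Y := sup_le hV (zpowers_le.2 hw)
  have h1 := abB _ hH (aV.sup (ab_zpowers w) (zpowers_le.2 k))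
  have h2 := card_sup_eq_mul_relIndex (hH.trans nB)
  have h3 := two_card (sup_le_sup_left (le_sup_left : V ≤ V ⊔ ⟪w⟫) B) fun e =>
    nw (e (mem_sup_right (mem_sup_right (mem_zpowers w))))
  rw [cB] at h2; omega

theorem split (nV : V ≤ N(B)) (bot : B ⊓ V = ⊥) (wB : w ∈ N(B)) (wV : w ∈ N(V)) (hx : x ∈ B ⊔ V) (k : x ∈ C[w]) :
    ∃ b ∈ B, ∃ v ∈ V, x = b * v ∧ w * b * w⁻¹ = b ∧ w * v * w⁻¹ = v := by
  obtain ⟨b, hb, v, hv, rfl⟩ := (mem_sup_norm nV).1 hx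
  have e : w * b * w⁻¹ * (w * v * w⁻¹) = b * v := by rw [conj_mul, ← mem_cen1.1 k, mul_inv_cancel_right]
  have e1 : b⁻¹ * (w * b * w⁻¹) = v * (w * v * w⁻¹)⁻¹ := by
    rw [inv_mul_eq_iff_eq_mul, ← mul_assoc b, ← e, mul_inv_cancel_right]
  have : b⁻¹ * (w * b * w⁻¹) ∈ B ⊓ V := ⟨B.mul_mem (inv_mem hb) (conj_mem wB hb),
    e1 ▸ V.mul_mem hv (inv_mem (conj_mem wV hv))⟩
  rw [bot, mem_bot] at this
  exact ⟨b, hb, v, hv, rfl, (inv_mul_eq_one.1 this).symm, (mul_inv_eq_one.1 (e1 ▸ this)).symm⟩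

theorem fixc (e : w * b * w⁻¹ = b) : b ∈ C[w] := mem_cen1.2 (mul_inv_eq_iff_eq_mul.1 e).symm

namespace Pr
variable (h : Pr S Y B V)
include h

theorem cen : V ≤ C(B) := centsC (cents_of_norms_of_inf (h.hV.trans h.nB) (h.hB.trans h.nV) h.bot)
theorem c16 : #(B ⊔ V) = 16 := by rw [card_sup_of_inf (h.hV.trans h.nB) h.bot, h.cB, h.cV]
theorem hT : B ⊔ V ≤ Y := sup_le h.hB h.hV

theorem e4 (e : ∀ b ∈ B, b * b = 1) : SR 4 S := by
  have aB := abel2 e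
  have aV := abel2 (h.iso.1 e)
  have aT := aB.sup aV h.cen
  by_cases k : ∀ b ∈ B, b ≠ 1 → S ⊓ C[b] ≤ B ⊔ V
  · exact Hg.main ⟨h.pS, h.hT.trans h.le, aT, h.c16, le_sup_left, h.cB, k⟩
  push Not at k
  obtain ⟨b, hb, b1, k⟩ := k
  obtain ⟨x, hx, nx⟩ := SetLike.not_le_iff_exists.1 k
  have xY := h.hC b hb b1 hx
  have c32 : #Y = 32 := by
    have h1 := card_mul_relIndex h.hB
    have h2 := two_card h.hT fun k => nx (k xY)
    have := h.iB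
    rw [h.c16] at h2; rw [h.cB] at h1; omega
  have i2 : (B ⊔ V).relIndex Y = 2 := H3.relIndex_of_card_mul h.hT (by rw [c32, h.c16])
  have k1 : ∀ w ∈ Y, w ∉ B ⊔ V → w ∉ C(V) ∧ w ∉ C(B) := fun w hw nw =>
    ⟨nc h.hV h.nB h.cB h.c16 aV.ab h.abB hw nw, nc h.hB h.nV h.cV (sup_comm B V ▸ h.c16) aB.ab h.abV hw (sup_comm B V ▸ nw)⟩
  obtain ⟨b', hb', v', hv', e0, e1, e2⟩ := split (h.hV.trans h.nB) h.bot (h.nB xY) (h.nV xY)
    (H3.mul_mem_of_relIndex_two i2 xY xY nx nx) (mul_mem (self_mem_cen1 x) (self_mem_cen1 x))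
  obtain ⟨c, hc, f1⟩ := adj aB h.cB (h.nB xY) (k1 x xY nx).2 hb' e1
  obtain ⟨d, hd, f2⟩ := adj aV h.cV (h.nV xY) (k1 x xY nx).1 hv' e2
  have hw : c * d * x ∈ Y := mul_mem (mul_mem (h.hB hc) (h.hV hd)) xY
  have nw : c * d * x ∉ B ⊔ V := by
    rwa [Subgroup.mul_mem_cancel_left _ (mul_mem (mem_sup_left hc) (mem_sup_right hd))]
  have w2 : (c * d * x) ^ 2 = 1 := by
    have : (c * d * x) ^ 2 = c * (d * (x * c * x⁻¹)) * (x * d * x⁻¹) * (x * x) := by rw [sq]; group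
    rw [this, ← mem_cen.1 (h.cen hd) _ (conj_mem (h.nB xY) hc), ← mul_assoc c, f1, mul_assoc b' d, f2, e0, ← sq]
    exact aT.pow (mul_mem (mem_sup_left hb') (mem_sup_right hv'))
  generalize c * d * x = w at *
  refine wreath h.pS h.le h.hT aT h.c16 c32 hw nw w2 ?_ fun y hy => h.hC b hb b1 ⟨hy.1, cen_le_cen1 ?_ hy.2⟩
  · have h1 := (free aT (normsY h.nB h.nV hw) (by rw [← sq, w2]; exact one_mem _) bot_le (bot_inf_eq _)).2
    have h2 := card_inf_mul_relIndex C[w] (B ⊔ V)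
    have h3 : C[w] ⊓ (B ⊔ V) ≤ (B ⊓ C[w]) ⊔ (V ⊓ C[w]) := fun y hy => by
      obtain ⟨b', hb', v', hv', rfl, e1, e2⟩ := split (h.hV.trans h.nB) h.bot (h.nB hw) (h.nV hw) hy.2 hy.1
      exact mul_mem (mem_sup_left ⟨hb', fixc e1⟩) (mem_sup_right ⟨hv', fixc e2⟩)
    have h4 := (card_le h3).trans (card_sup_le' (cents_norm (centSS inf_le_left inf_le_left h.cen)))
    have h5 := two_card (inf_le_left : B ⊓ C[w] ≤ B) fun k => (k1 w hw nw).2 (le_cen1.1 (k.trans inf_le_right))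
    have h6 := two_card (inf_le_left : V ⊓ C[w] ≤ V) fun k => (k1 w hw nw).1 (le_cen1.1 (k.trans inf_le_right))
    rw [h.cB] at h5; rw [h.cV] at h6; rw [h.c16] at h2
    have h7 := h4.trans (Nat.mul_le_mul (show _ ≤ 2 by omega) (show _ ≤ 2 by omega))
    rw [inf_comm]
    nlinarith
  · refine ⟨h.hB hb, le_cen1.1 fun y hy => ?_⟩
    have hT : B ⊔ V ≤ C[b] := aT.ab.le_cen1 (mem_sup_left hb)
    by_cases e : y ∈ B ⊔ V
    · exact hT e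
    · exact (Subgroup.mul_mem_cancel_right _ hx.2).1 (hT (H3.mul_mem_of_relIndex_two i2 hy xY e nx))

theorem main : SR 4 S := by
  by_cases e : ∀ b ∈ B, b * b = 1
  · exact h.e4 e
  have e' := mt h.iso.2 e
  push Not at e e'
  obtain ⟨b, hb, b2⟩ := e
  obtain ⟨v, hv, v2⟩ := e'
  have ht := mul_mem hb hb
  refine via h.pS (h.le (h.hB ht)) (by have := pow_card hb; rw [h.cB] at this; rw [← this]; simp only [pow_succ, pow_zero, one_mul, mul_assoc])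
    fun A hA tA aA cA x hx => by_contra fun nx => ?_
  obtain ⟨h1, h2⟩ := big aA.ab cA hx.2 nx
  have hX : A ⊔ ⟪x⟫ ≤ Y := (le_inf (sup_le hA (zpowers_le.2 hx.1)) (h1.le_cen1 (mem_sup_left tA))).trans (h.hC _ ht b2)
  have h3 := h.abB _ hX h1
  have h4 := h.abV _ hX h1
  have h5 := card_inf_mul_relIndex B (A ⊔ ⟪x⟫)
  have h6 := card_inf_mul_relIndex V (A ⊔ ⟪x⟫)
  have h7 := card_le (inf_le_left : B ⊓ (A ⊔ ⟪x⟫) ≤ B)
  have bX : B ≤ A ⊔ ⟪x⟫ := inf_eq_left.1 (eq_of_card_le inf_le_left (by rw [h.cB]; nlinarith))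
  have vX : V ≤ A ⊔ ⟪x⟫ := inf_eq_left.1 (eq_of_card_le inf_le_left (by rw [h.cV]; nlinarith))
  have h8 := two_card (inf_le_right : A ⊓ B ≤ B) fun k => b2 (by rw [← sq, aA.pow (k hb).1])
  have h9 := card_mul_le (le_sup_left : A ≤ A ⊔ B) le_sup_right
  rw [h.cB] at h7 h8 h9; rw [cA] at h9
  have e : A ⊔ B = A ⊔ ⟪x⟫ := eq_of_card_le (sup_le le_sup_left bX) (by nlinarith)
  obtain ⟨a, ha, c, hc, rfl⟩ := (mem_sup_norm (bX.trans (h1.norms le_sup_left))).1 (e ▸ vX hv)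
  have e2 : a * c * (a * c) = c * c := by
    rw [mul_assoc, ← mul_assoc c, h1.comm (bX hc) (mem_sup_left ha), mul_assoc, ← mul_assoc a, ← sq, aA.pow ha, one_mul]
  exact v2 (mem_bot.1 (h.bot ▸ ⟨e2 ▸ mul_mem hc hc, mul_mem hv hv⟩))

end Pr

end Fx

end Cfsg.Agent.GO
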