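import Cfsg.Agent.GO.Fx2

/-! Fixity four: point stabilizers of even order. -/

set_option autoImplicit false
set_option linter.unusedSectionVars false
set_option linter.unusedVariables false
set_option linter.style.haveILetI false

namespace Cfsg.Agent.GO

open Cfsg Subgroup Cfsg.Agent.FT Cfsg.Agent.GW
open scoped commutatorElement

universe u

variable {G : Type u} [Group G] [Finite G] {D : Set G} {p : ℕ}
  {A B E H J K L M P Q R S T U V W X Y Z : Subgroup G} {a b d e g r s t v w x y z : G}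

variable {c f k u : G} {n m : ℕ}

namespace Fx

open Fg

namespace Te
variable (h : Te p n K M)
include h

theorem cen (hk : k ∈ K) (k1 : k ≠ 1) (pk : PiElt {p} k) : C[k] ≤ M := fun g hg =>
  h.ti k hk k1 pk g (by rw [mem_cen1.1 hg, mul_inv_cancel_right]; exact hk)

theorem tiv (hg : g ∉ M) (hx : x ∈ K) (hx' : x ∈ FT.cj g K) (px : PiElt {p} x) : x = 1 := by
  obtain ⟨y, hy, rfl⟩ := mem_cj'.1 hx'
  by_contra e
  exact hg (h.ti y hy (conj_ne_one.1 e) (piElt_conj.1 px) g hx)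

theorem bot (hg : g ∉ M) (pV : PGrp p V) : K ⊓ FT.cj g K ⊓ V = ⊥ :=
  eq_bot_iff.2 fun x hx => mem_bot.2 (h.tiv hg hx.1.1 hx.1.2 (pV.piElt hx.2))

theorem small (hV : V ≤ M) (pV : PGrp p V) (hb : K ⊓ V = ⊥) : #V ≤ n := by
  have := card_inf_mul_relIndex K V
  rw [hb, card_bot, one_mul] at this
  exact this ▸ h.idx V hV pV

theorem small1 (hg : g ∉ M) (hV : V ≤ FT.cj g K ⊓ M) (pV : PGrp p V) : #V ≤ n :=
  h.small (hV.trans inf_le_right) pV (eq_bot_iff.2 fun x hx => h.bot hg pV ▸ ⟨⟨hx.1, (hV hx.2).1⟩, hx.2⟩)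

theorem small2 (hg : g ∉ M) (hV : V ≤ K ⊓ FT.cj g M) (pV : PGrp p V) : #V ≤ n :=
  (h.cj g).small (hV.trans inf_le_right) pV (eq_bot_iff.2 fun x hx => h.bot hg pV ▸ ⟨⟨(hV hx.2).1, hx.1⟩, hx.2⟩)

theorem card_le (hV : V ≤ M) (pV : PGrp p V) : #V ≤ #(K ⊓ V) * n := by
  rw [← card_inf_mul_relIndex K V]; exact Nat.mul_le_mul_left _ (h.idx V hV pV)

theorem adapt (hS : Syl p S ⊤) (hK : p ∣ #K) :
    ∃ g, Syl p (S ⊓ FT.cj g M) (FT.cj g M) ∧ S ⊓ FT.cj g K ≠ ⊥ := by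
  obtain ⟨U, hU⟩ := exists_syl p M
  obtain ⟨g, -, hg⟩ := hS.syl_Jsub hU.pi le_top
  have h1 := hU.cj g
  have e : S ⊓ FT.cj g M = FT.cj g U := h1.max (hS.pi.inf_left _) (le_inf hg h1.le) inf_le_right
  refine ⟨g, e ▸ h1, fun k => ?_⟩
  have h2 := h1.inf_nml (Nml.cj ⟨h.le, h.nm⟩ g)
  exact (h2.syl_eq_bot_iff h.pr).1 (eq_bot_iff.2 (k ▸ inf_le_inf_right _ hg)) (by rwa [card_cj])

theorem up (pS : PGrp p S) (hn : ¬ S ≤ M) : ∃ s ∈ S, s ∉ M ∧ s ∈ N(S ⊓ M) ∧ FT.cj s (S ⊓ K) ≤ S ⊓ M := by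
  obtain ⟨s, hs, ns⟩ := SetLike.exists_of_lt (pS.lt_subnorm (inf_lt_left.2 hn))
  exact ⟨s, hs.1, fun k => ns ⟨hs.1, k⟩, hs.2, cj_le_of_nrm hs.2 (inf_le_inf_left _ h.le)⟩

theorem out (pS : PGrp p S) (hn : ¬ IsStronglyClosed (S ⊓ K) S) :
    ∃ g, g ∉ M ∧ ∃ u ∈ S, u ∈ FT.cj g K ∧ u ∉ K ∧ orderOf u = p := by
  simp only [IsStronglyClosed, inf_le_left, true_and] at hn
  push Not at hn
  obtain ⟨x, hx, g, h1, h2⟩ := hn
  have hg : g ∉ M := fun k => h2 ⟨h1, conj_mem (h.nm k) hx.2⟩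
  obtain ⟨i, hi⟩ := pw1 h.pr (fun k => h2 (by rw [k]; exact one_mem _)) (pS.piElt h1)
  have h3 := pow_mem (conj_mem_cj.2 hx.2 : g * x * g⁻¹ ∈ _) i
  refine ⟨g, hg, _, pow_mem h1 i, h3, fun k => ?_, hi⟩
  rw [h.tiv hg k h3 (pS.piElt (pow_mem h1 i)), orderOf_one] at hi
  exact h.pr.ne_one hi.symm

theorem inv' (hg : g ∉ M) : g⁻¹ ∉ FT.cj g M := fun k => hg (by simpa using mem_cj.1 k)

end Te

theorem ex1 (hp : p.Prime) (pR : PGrp p R) (h : R ≠ ⊥) : ∃ t ∈ R, orderOf t = p := exists_elt_of_prime_dvd hp (pR.dvd h)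

theorem o1 (hp : p.Prime) (h : orderOf t = p) : t ≠ 1 := fun k => hp.ne_one (by rw [← h, k, orderOf_one])
theorem o2 (h : orderOf t = 2) : t * t = 1 := by rw [← sq, ← h, pow_orderOf_eq_one]

theorem lo4 (pS : PGrp 2 S) (hx : x ∈ S) (x2 : orderOf x = 2) (hy : y ∈ S) (y1 : y ≠ 1) (ne : y ≠ x) : 4 ≤ #(S ⊓ C[x]) := by
  have k : ¬ S ⊓ C[x] ≤ ⟪x⟫ := fun k => by
    have m : ∀ z ∈ S ⊓ C[x], z = 1 ∨ z = x := fun z hz => (H3.mem_zpowers_two (by rw [sq, o2 x2])).1 (k hz)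
    obtain ⟨⟨z, hz⟩, z1⟩ := ne_bot_iff_exists_ne_one.1 (pS.nil.center_ne_bot fun e => y1 (mem_bot.1 (e ▸ hy)))
    rcases m z ⟨hz.1, cen_le_cen1 hx hz.2⟩ with e | rfl
    · exact z1 (Subtype.ext e)
    · exact (m y ⟨hy, cen1_comm.1 (cen_le_cen1 hy hz.2)⟩).elim y1 ne
  have := two_card (le_inf (zpowers_le.2 hx) (zpowers_le_cen1 x)) k
  rwa [card_zpowers', x2] at this

theorem even3 (h : Te 2 2 K M) (pS : PGrp 2 S) (h1 : S ⊓ K ≠ ⊥) (hn : ¬ IsStronglyClosed (S ⊓ K) S) :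
    ∃ x ∈ S, ∃ y ∈ S, orderOf x = 2 ∧ orderOf y = 2 ∧ y ≠ x ∧ #(S ⊓ C[x]) = 4 := by
  obtain ⟨t, ht, t2⟩ := ex1 Nat.prime_two (pS.inf_left K) h1
  have t1 := o1 Nat.prime_two t2
  by_cases e : S ≤ M
  · obtain ⟨g, hg, u, hu, uK, nu, u2⟩ := h.out pS hn
    have ne : t ≠ u := fun k => nu (k ▸ ht.2)
    refine ⟨u, hu, t, ht.1, u2, t2, ne, le_antisymm ?_ (lo4 pS hu u2 ht.1 t1 ne)⟩
    have h2 := h.card_le (inf_le_left.trans e : S ⊓ C[u] ≤ M) (pS.inf_left _)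
    have h3 := h.small2 hg (V := K ⊓ (S ⊓ C[u])) (inf_le_inf_left _ (inf_le_right.trans
      ((h.cj g).cen uK (o1 Nat.prime_two u2) (pS.piElt hu)))) ((pS.inf_left _).inf_right _)
    omega
  · obtain ⟨s, hs, ns, s1, s2⟩ := h.up pS e
    have h2 := h.small1 ns (le_inf (cj_mono s inf_le_right) (s2.trans inf_le_right)) ((pS.inf_left _).cj s)
    have ne : s * t * s⁻¹ ≠ t := fun k => ns (h.ti t ht.2 t1 (pS.piElt ht.1) s (k.symm ▸ ht.2))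
    have hy := (s2 (conj_mem_cj.2 ht)).1
    refine ⟨t, ht.1, _, hy, t2, by rwa [orderOf_conj], ne, le_antisymm ?_ (lo4 pS ht.1 t2 hy (conj_ne_one.2 t1) ne)⟩
    have h3 := h.card_le (inf_le_right.trans (h.cen ht.2 t1 (pS.piElt ht.1)) : S ⊓ C[t] ≤ M) (pS.inf_left _)
    have h4 : #(K ⊓ (S ⊓ C[t])) ≤ #(S ⊓ K) := card_le fun x hx => ⟨hx.2.1, hx.1⟩
    rw [card_cj] at h2; omega

namespace T4
variable (h : T4 K M)
include h

theorem ab' (hH : H ≤ M) (pH : PGrp 2 H) (aH : Ab H) : K.relIndex H ≤ 4 := h.ab H hH pH fun x hx y hy => by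
  rw [commutatorElement_eq_one_iff_mul_comm.2 (aH.comm hx hy)]; exact one_mem _

theorem semi' (hg : g ∉ M) (hV : V ≤ FT.cj g K ⊓ M) (pV : PGrp 2 V) : #V ≤ 4 :=
  (h.cj g).semi g⁻¹ (h.inv' hg) V (by rwa [cj_inv_cj]) pV

omit h in
theorem ri (hH : H ≤ S) : (S ⊓ K).relIndex H = K.relIndex H := by
  rw [← inf_relIndex_right, inf_right_comm, inf_eq_right.2 hH, inf_relIndex_left]

theorem caseA (pS : PGrp 2 S) (h1 : S ⊓ K ≠ ⊥) (e : ¬ S ≤ M) : SR 4 S := by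
  obtain ⟨s, hs, ns, s1, s2⟩ := h.up pS e
  have pR := pS.inf_left K
  have h2 := h.semi' ns (le_inf (cj_mono s inf_le_right) (s2.trans inf_le_right)) (pR.cj s)
  rw [card_cj] at h2
  have hC : ∀ b ∈ S ⊓ K, b ≠ 1 → S ⊓ C[b] ≤ S ⊓ M := fun b hb b1 => inf_le_inf_left _ (h.cen hb.2 b1 (pS.piElt hb.1))
  have nR : S ⊓ M ≤ N(S ⊓ K) := normsI (norms_of_le inf_le_left) (inf_le_right.trans h.nm)
  by_cases k : #(S ⊓ K) = 4
  · have ab : ∀ H ≤ S ⊓ M, Ab H → (S ⊓ K).relIndex H ≤ 4 := fun H hH aH => by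
      rw [ri (hH.trans inf_le_left)]; exact h.ab' (hH.trans inf_le_right) (pS.mono (hH.trans inf_le_left)) aH
    refine Pr.main ⟨pS, inf_le_left, inf_le_inf_left _ h.le, s2, nR, ?_, ?_, k, by rwa [card_cj], ab, fun H hH aH => ?_,
      ?_, hC, ⟨fun k v hv => ?_, fun k v hv => ?_⟩⟩
    · rw [← cj_of_mem_nrm s1]; exact cj_norms.2 nR
    · exact eq_bot_iff.2 fun x hx => h.bot ns pS ▸ ⟨⟨hx.1.2, cj_mono s inf_le_right hx.2⟩, hx.1.1⟩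
    · rw [← cj_cj_inv s H, relIndex_cj]; exact ab _ (cj_le_of_nrm (inv_mem s1) hH) (aH.cj _)
    · rw [ri inf_le_left]; exact h.idx _ inf_le_right (pS.inf_left _)
    · obtain ⟨y, hy, rfl⟩ := mem_cj'.1 hv
      rw [conj_mul, k y hy]; group
    · have := k _ (conj_mem_cj.2 hv)
      rw [conj_mul] at this
      exact by_contra fun k' => conj_ne_one.2 k' this
  obtain ⟨t, ht, t2⟩ := ex1 Nat.prime_two pR h1
  refine via pS ht.1 (o2 t2) fun A hA tA aA cA x hx => by_contra fun nx => ?_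
  obtain ⟨k1, k2⟩ := big aA.ab cA hx.2 nx
  have hX : A ⊔ ⟪x⟫ ≤ S ⊓ M := (le_inf (sup_le hA (zpowers_le.2 hx.1)) (k1.le_cen1 (mem_sup_left tA))).trans
    (hC t ht (o1 Nat.prime_two t2))
  have h3 := h.ab' (hX.trans inf_le_right) (pS.mono (hX.trans inf_le_left)) k1
  have h4 := card_inf_mul_relIndex K (A ⊔ ⟪x⟫)
  have h5 : #(K ⊓ (A ⊔ ⟪x⟫)) ≤ #(S ⊓ K) := card_le fun y hy => ⟨(hX hy.2).1, hy.1⟩
  have h6 : #(S ⊓ K) ≤ 2 := by rcases c24 pR with e | e | e | e <;> omega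
  nlinarith

theorem cen4 (pS : PGrp 2 S) (e : S ≤ M) (hn : ¬ SR 2 (S ⊓ K)) (hg : g ∉ M) (hu : u ∈ S) (uK : u ∈ FT.cj g K)
    (u2 : orderOf u = 2) : S ⊓ K ⊓ C[u] ≤ K ⊓ FT.cj g M ∧ #(S ⊓ K ⊓ C[u]) = 4 := by
  have h1 : S ⊓ K ⊓ C[u] ≤ K ⊓ FT.cj g M :=
    inf_le_inf inf_le_right ((h.cj g).cen uK (o1 Nat.prime_two u2) (pS.piElt hu))
  have pV := (pS.inf_left K).inf_left C[u]
  have h2 := h.semi g hg _ h1 pV
  refine ⟨h1, by_contra fun k => hn ?_⟩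
  have h3 : #(S ⊓ K ⊓ C[u]) ≤ 2 := by rcases c24 pV with e | e | e | e <;> omega
  have nR : S ≤ N(S ⊓ K) := normsI (le_nrm S) (e.trans h.nm)
  have hY : S ⊓ K ⊔ ⟪u⟫ ≤ S := sup_le inf_le_left (zpowers_le.2 hu)
  have uY : u ∈ S ⊓ K ⊔ ⟪u⟫ := mem_sup_right (mem_zpowers u)
  obtain ⟨⟨z, hz⟩, z1⟩ := ne_bot_iff_exists_ne_one.1 ((pS.mono hY).nil.center_ne_bot fun e =>
    o1 Nat.prime_two u2 (mem_bot.1 (e ▸ uY)))
  refine (mc_or (pS.mono hY) uY ?_ hz fun k => z1 (Subtype.ext k)).1.mono le_sup_left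
  rw [inf_comm, inf_sup_right (zpowers_le.2 (nR hu)) (zpowers_le_cen1 u), inf_comm]
  exact (H3.card_sup_zpowers_le Nat.prime_two (cen_le_nrm _ (le_cen1.1 inf_le_right))
    (by rw [sq, o2 u2]; exact one_mem _)).trans (by omega)

theorem caseB (hS : Syl 2 S M) (hn : ¬ IsStronglyClosed (S ⊓ K) S) : SR 4 S := by
  have pS := hS.pi
  have e := hS.le
  by_cases k : SR 2 (S ⊓ K)
  · refine sr_four (Y := K) k (fun x hx => mul_mem hx.2 hx.2) (by rw [ri le_rfl]; exact h.idx S e pS) fun H hH hs => ?_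
    rw [ri hH]; exact h.ab H (hH.trans e) (pS.mono hH) fun x hx y hy => comm_sq hs hx hy
  obtain ⟨g, hg, u, hu, uK, nu, u2⟩ := h.out pS hn
  obtain ⟨h1, h2⟩ := h.cen4 pS e k hg hu uK u2
  have pV := (pS.inf_left K).inf_left C[u]
  obtain ⟨v, hv, v2⟩ := ex1 Nat.prime_two pV (ne_bot_of_one_lt_card (by omega))
  obtain ⟨x, hx, hx'⟩ := hS.syl_elt (mem_cj.1 (h1 hv).2) (by simpa using (pV.piElt hv).conj g⁻¹)
  have ng : x * g⁻¹ ∉ M := by rwa [Subgroup.mul_mem_cancel_left _ hx, inv_mem_iff]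
  obtain ⟨h3, h4⟩ := h.cen4 pS e k ng hx' (mem_cj.2 (by convert (show v ∈ K from hv.1.2) using 1; group))
    (by rw [orderOf_conj]; simpa [← v2] using orderOf_conj g⁻¹ v)
  have pV' := (pS.inf_left K).inf_left C[x * (g⁻¹ * v * g) * x⁻¹]
  generalize S ⊓ K ⊓ C[x * (g⁻¹ * v * g) * x⁻¹] = V' at h3 h4 pV'
  generalize S ⊓ K ⊓ C[u] = V at h1 h2 pV
  have h5 : FT.cj (g * x⁻¹) V' ≤ FT.cj g K ⊓ M := by
    have := cj_mono (g * x⁻¹) h3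
    rwa [cj_inf, cj_cj, ← cj_cj g x⁻¹ K, cj_of_mem_nrm (h.nm (inv_mem hx)), show g * x⁻¹ * (x * g⁻¹) = 1 by group, cj_one] at this
  obtain ⟨T, hT, hT'⟩ := (pV'.cj (g * x⁻¹)).exists_syl (M := M ⊓ FT.cj g M)
    (le_inf (h5.trans inf_le_right) (h5.trans (inf_le_left.trans (cj_mono g h.le))))
  have h6 := (hT.inf_of_norms (inf_le_left.trans h.nm)).card_le pV
    (le_inf (le_inf (h1.trans (inf_le_left.trans h.le)) (h1.trans inf_le_right)) (h1.trans inf_le_left))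
  obtain ⟨y, hy, hy'⟩ := hS.syl_Jsub hT.pi (hT.le.trans inf_le_left)
  have ng' : y * g ∉ M := by rwa [Subgroup.mul_mem_cancel_left _ hy]
  have h' := h.cj (y * g)
  have cB : #(S ⊓ FT.cj (y * g) K) = 4 := le_antisymm (h.semi' ng' (inf_comm S _ ▸ inf_le_inf_left _ e) (pS.inf_left _)) (by
    rw [← h4, ← card_cj (g * x⁻¹), ← card_cj y]
    exact card_le (le_inf ((cj_mono y hT').trans hy') (by rw [← cj_cj y g K]; exact cj_mono y (h5.trans inf_le_left))))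
  have cW : #(S ⊓ FT.cj (y * g) M ⊓ K) = 4 := le_antisymm (h.semi _ ng' _ (fun z hz => ⟨hz.2, hz.1.2⟩)
      ((pS.inf_left _).inf_left _)) (by
    rw [← h2]; refine h6.trans ?_
    rw [← card_cj y, cj_inf, cj_of_mem_nrm (h.nm hy)]
    exact card_le (inf_le_inf_right _ (le_inf hy' (by rw [← cj_cj]; exact cj_mono y (hT.le.trans inf_le_right)))))
  clear h1 h2 h3 h4 h5 h6 hT hT' hy' hv hx' uK
  generalize y * g = q at *
  have nB : S ⊓ FT.cj q M ≤ N(S ⊓ FT.cj q K) := normsI (norms_of_le inf_le_left) (inf_le_right.trans h'.nm)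
  have nW : S ⊓ FT.cj q M ≤ N(S ⊓ FT.cj q M ⊓ K) := normsI (le_nrm _) (inf_le_left.trans (e.trans h.nm))
  have bot : S ⊓ FT.cj q K ⊓ (S ⊓ FT.cj q M ⊓ K) = ⊥ := eq_bot_iff.2 fun z hz => h.bot ng' pS ▸ ⟨⟨hz.2.2, hz.1.2⟩, hz.1.1⟩
  have hB : S ⊓ FT.cj q K ≤ S ⊓ FT.cj q M := inf_le_inf_left _ h'.le
  have hC : ∀ b ∈ S ⊓ FT.cj q K, b ≠ 1 → C[b] ≤ FT.cj q M := fun b hb b1 => h'.cen hb.2 b1 (pS.piElt hb.1)
  refine Pr.main ⟨pS, inf_le_left, hB, inf_le_left, nB, nW, bot, cB, cW, fun H hH aH => ?_, fun H hH aH => ?_, ?_,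
    fun b hb b1 => inf_le_inf_left _ (hC b hb b1), ?_⟩
  · rw [ri (hH.trans inf_le_left)]; exact h'.ab' (hH.trans inf_le_right) (pS.mono (hH.trans inf_le_left)) aH
  · rw [ri hH]; exact h.ab' (hH.trans (inf_le_left.trans e)) (pS.mono (hH.trans inf_le_left)) aH
  · rw [ri inf_le_left]; exact h'.idx _ inf_le_right (pS.inf_left _)
  have hc := cents_of_norms_of_inf (inf_le_left.trans nB) (hB.trans nW) bot
  obtain ⟨r, hr, nr, -, r2⟩ := exists_mod (Y := S ⊓ FT.cj q M ⊓ K) pS inf_le_left (normsI (le_nrm S) (e.trans h.nm))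
    fun k' => k (sr_card ((card_le k').trans cW.le))
  have nr' : r ∉ FT.cj q M := fun k => nr ⟨⟨hr.1, k⟩, hr.2⟩
  generalize S ⊓ FT.cj q M ⊓ K = W at *
  have hS' : S ⊓ FT.cj q K ≤ S := inf_le_left
  generalize S ⊓ FT.cj q K = B at *
  have m : ∀ b ∈ B, ⁅r, b * b⁆ = ⁅r, b⁆ * ⁅r, b⁆ := fun b hb => by rw [c_mul, fix_of (hc hb) (r2 b (hS' hb))]
  have inj : ∀ b ∈ B, ⁅r, b⁆ = 1 → b = 1 := fun b hb k => by_contra fun b1 => nr' (hC b hb b1 (c_iff.1 k))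
  refine ⟨fun k w hw => ?_, fun k b hb => inj _ (mul_mem hb hb) (by rw [m b hb, k _ (r2 b (hS' hb))])⟩
  let F : B → W := fun b => ⟨⁅r, b⁆, r2 b (hS' b.2)⟩
  obtain ⟨b, hb⟩ := (Function.Injective.bijective_of_nat_card_le (f := F) (fun a b e => by
    have e : ⁅r, (a : G)⁆ = ⁅r, (b : G)⁆ := congrArg Subtype.val e
    have := inj _ (mul_mem a.2 b.2) (by rw [c_mul, fix_of (hc a.2) (r2 b (hS' b.2)), e, ← m b b.2, k b b.2]; simp)
    exact Subtype.ext (mul_right_cancel (this.trans (k b b.2).symm))) (cW.trans cB.symm).le).2 ⟨w, hw⟩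
  obtain rfl : ⁅r, (b : G)⁆ = w := congrArg Subtype.val hb
  rw [← m b b.2, k b b.2]; simp

theorem even4 (pS : PGrp 2 S) (hS : Syl 2 (S ⊓ M) M) (h1 : S ⊓ K ≠ ⊥) (hn : ¬ IsStronglyClosed (S ⊓ K) S) : SR 4 S := by
  by_cases e : S ≤ M
  · exact h.caseB (by rwa [inf_eq_left.2 e] at hS) hn
  · exact h.caseA pS h1 e

end T4

end Fx

end Cfsg.Agent.GO
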