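import Cfsg.Agent.GO.Fx3

/-! A transfer argument for Sylow `3`-subgroups of maximal class. -/

set_option autoImplicit false
set_option linter.unusedSectionVars false
set_option linter.unusedVariables false
set_option linter.style.haveILetI false

namespace Cfsg.Agent.GO

open Cfsg Subgroup Cfsg.Agent.FT Cfsg.Agent.GW
open scoped commutatorElement

universe u

variable {G : Type u} [Group G] [Finite G] {D : Set G} {p : ℕ}
  {A B E H J K L M P Q R S T U V W X Y Z : Subgroup G} {a b d e g r s t v w x y z : G}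

variable {c f k u : G} {n m : ℕ}

namespace Fx

open Fg MulAction

theorem nine {A : Type*} [CommGroup A] [Fintype A] [DecidableEq A] (h9 : Fintype.card A = 9) (Y : Finset A)
    (h : ∀ a ∈ Y, a ^ 3 = 1 ∧ a ≠ 1 ∧ a⁻¹ ∉ Y) (hp : ∏ a ∈ Y, a = 1) : 3 ∣ Y.card := by
  have d : Disjoint Y (Y.image (·⁻¹)) := Finset.disjoint_left.2 fun a ha k => by
    obtain ⟨b, hb, rfl⟩ := Finset.mem_image.1 k
    exact (h b hb).2.2 ha
  have n1 : (1 : A) ∉ Y ∪ Y.image (·⁻¹) := by
    simp only [Finset.mem_union, Finset.mem_image, inv_eq_one, exists_eq_right, or_self]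
    exact fun k => (h 1 k).2.1 rfl
  have c : (insert 1 (Y ∪ Y.image (·⁻¹))).card = 2 * Y.card + 1 := by
    rw [Finset.card_insert_of_notMem n1, Finset.card_union_of_disjoint d, Finset.card_image_of_injective _ inv_injective]
    ring
  have le := Finset.card_le_univ (insert 1 (Y ∪ Y.image (·⁻¹)))
  have sq : ∀ a ∈ Y, ∀ b, a * a * b = 1 → b = a := fun a ha b e => by
    have := (h a ha).1
    rw [pow_three', ← e] at this
    exact (mul_left_cancel this).symm
  by_contra n3
  obtain e | e | e : Y.card = 1 ∨ Y.card = 2 ∨ Y.card = 4 := by omega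
  · obtain ⟨a, rfl⟩ := Finset.card_eq_one.1 e
    exact (h a (by simp)).2.1 (by simpa using hp)
  · obtain ⟨a, b, ab, rfl⟩ := Finset.card_eq_two.1 e
    rw [Finset.prod_pair ab] at hp
    exact (h a (by simp)).2.2 (by simp [inv_eq_of_mul_eq_one_right hp])
  obtain ⟨a, Y', ha, rfl, e'⟩ := Finset.card_eq_succ.1 e
  obtain ⟨b, c', d', h1, h2, h3, rfl⟩ := Finset.card_eq_three.1 e'
  have hu := Finset.eq_univ_of_card _ (c.trans (by rw [e, h9]))
  have := hu ▸ Finset.mem_univ (a * b)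
  simp only [Finset.mem_insert, Finset.mem_singleton, not_or] at ha
  rw [Finset.prod_insert (by simpa using ha), Finset.prod_insert (by simp [h1, h2]), Finset.prod_pair h3,
    ← mul_assoc] at hp
  have ma := h a (by simp)
  have mb := h b (by simp)
  have mc := h c' (by simp)
  have md := h d' (by simp)
  simp only [Finset.mem_insert, Finset.mem_union, Finset.mem_image, Finset.mem_singleton, exists_eq_or_imp,
    exists_eq_left, mul_eq_left, mul_eq_right] at this
  rcases this with k | (k | k | k | k) | k | k | k | k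
  · exact ma.2.2 (by simp [inv_eq_of_mul_eq_one_right k])
  · exact mb.2.1 k
  · exact ma.2.1 k
  · exact h3 (sq c' (by simp) d' (by rw [← hp, k, mul_assoc])).symm
  · exact h3 (sq d' (by simp) c' (by rw [← hp, k, mul_comm c', mul_assoc]))
  · exact ha.1 (sq a (by simp) b (by rw [mul_assoc, ← k, mul_inv_cancel])).symm
  · exact ha.1 (sq b (by simp) a (by rw [mul_assoc, mul_comm b a, ← k, mul_inv_cancel]))
  · exact md.2.1 (by rwa [← k, inv_mul_cancel_left] at hp)
  · exact mc.2.1 (by rwa [← k, mul_comm c', inv_mul_cancel_left] at hp)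

theorem cls (pP : PGrp 3 P) (h27 : 9 ≤ #P) (hy : y ∈ P) (h9 : #(P ⊓ C[y]) ≤ 9) :
    ⁅P, P⁆.relIndex P = 9 ∧ #(P ⊓ C[y]) = 9 ∧ ∀ w ∈ ⁅P, P⁆, ∃ x ∈ P, ⁅x, y⁆ = w := by
  obtain ⟨n, hn⟩ := pP.card
  have h1 := (H3.maxCl_of_cen1' Nat.prime_three hn (by
    by_contra k
    have : 3 ^ n ≤ 3 ^ 1 := Nat.pow_le_pow_right (by norm_num) (by omega)
    omega) hy h9).relIndex_der
  have h2 := idx1 (a := y) (X := P) (V := ⁅P, P⁆) fun x hx => commutator_mem_commutator hy hx
  have h3 := card_mul_relIndex (der_le P)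
  have h4 := card_inf_mul_relIndex C[y] P
  have h5 := FT.card_pos ⁅P, P⁆
  rw [inf_comm] at h4
  norm_num at h1
  rw [h1] at h3
  have h6 : #(P ⊓ C[y]) = 9 := h9.antisymm (by nlinarith)
  refine ⟨h1, h6, fun w hw => ?_⟩
  let F : P ⧸ C[y].subgroupOf P → (⁅P, P⁆ : Subgroup G) := fun q => ⟨⁅(q.out : G), y⁆, commutator_mem_commutator q.out.2 hy⟩
  obtain ⟨q, hq⟩ := (Function.Injective.bijective_of_nat_card_le (f := F) (fun a b e => by
    have e : ⁅(a.out : G), y⁆ = ⁅(b.out : G), y⁆ := congrArg Subtype.val e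
    rw [← a.out_eq', ← b.out_eq', QuotientGroup.eq, mem_subgroupOf, mem_cen1]
    simp only [commutatorElement_def, mul_left_inj] at e
    calc _ = (a.out : G)⁻¹ * (b.out * y * (b.out : G)⁻¹) * b.out := by simp; group
      _ = _ := by rw [← e]; simp; group) (by
    change _ ≤ C[y].relIndex P
    rw [h6] at h4; omega)).2 ⟨w, hw⟩
  exact ⟨_, q.out.2, congrArg Subtype.val hq⟩

theorem tr (hP : Syl 3 P ⊤) (hG : _root_.commutator G = ⊤) (y3 : orderOf y = 3) (h27 : 9 ≤ #P) (hy : y ∈ P)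
    (h9 : ∀ Q ≤ C[y], PGrp 3 Q → #Q ≤ 9) (nr : ∀ g, g * y * g⁻¹ ≠ y⁻¹) : False := by
  classical
  haveI : Fact (Nat.Prime 3) := ⟨Nat.prime_three⟩
  have y1 := o1 Nat.prime_three y3
  have yy : y ^ 3 = 1 := y3 ▸ pow_orderOf_eq_one y
  have k9 : ∀ g, #(P ⊓ C[g⁻¹ * y * g]) ≤ 9 := fun g => by
    rw [← card_cj g, cj_inf, cj_cen1]
    exact h9 _ (inf_le_right.trans (by group; exact le_rfl)) ((hP.pi.cj g).inf_left _)
  let φ : P →* Abelianization P := Abelianization.of
  have hφ : ∀ x : P, φ x = 1 ↔ (x : G) ∈ ⁅P, P⁆ := fun x => by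
    rw [← MonoidHom.mem_ker, Abelianization.ker_of, der_eq_map]
    exact ⟨fun h => ⟨x, h, rfl⟩, by rintro ⟨z, hz, e⟩; rwa [← Subtype.ext e]⟩
  have cA : Nat.card (Abelianization P) = 9 := by
    rw [← (cls hP.pi h27 hy (by simpa using k9 1)).1, Subgroup.relIndex, der_eq_map, subgroupOf,
      comap_map_eq_self_of_injective P.subtype_injective]; rfl
  have cp : ∀ g (hg : g⁻¹ * y * g ∈ P) (z : P), φ z = φ ⟨_, hg⟩ → ∃ x ∈ P, x * (g⁻¹ * y * g) * x⁻¹ = z := fun g hg z e => by
    obtain ⟨x, hx, e'⟩ := (cls hP.pi h27 hg (k9 g)).2.2 _ ((hφ (z * ⟨_, hg⟩⁻¹)).1 (by rw [map_mul, map_inv, e, mul_inv_cancel]))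
    exact ⟨x, hx, by simpa [commutatorElement_def] using e'⟩
  let F : G ⧸ P → Abelianization P := fun q => if h : q.out⁻¹ * y * q.out ∈ P then φ ⟨_, h⟩ else 1
  have fx : ∀ q : G ⧸ P, q.out⁻¹ * y * q.out ∈ P ↔ y • q = q := fun q => by
    rw [← Quotient.coe_smul_out, eq_comm]
    nth_rewrite 3 [← q.out_eq']
    rw [QuotientGroup.eq, smul_eq_mul, mul_assoc]
  haveI := Fintype.ofFinite (G ⧸ P)
  haveI := Fintype.ofFinite (Abelianization P)
  haveI := Fintype.ofFinite (Quotient (orbitRel (zpowers y) (G ⧸ P)))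
  have h1 : ∏ q, F q = 1 := by
    have h1 : φ.transfer y = 1 := Abelianization.commutator_subset_ker _ (hG ▸ mem_top y)
    rw [← h1, MonoidHom.transfer_eq_prod_quotient_orbitRel_zpowers_quot]
    refine (Fintype.prod_of_injective Quotient.out Quotient.out_injective _ _ (fun q hq => dif_neg fun k => hq ?_)
      fun q => ?_).symm
    · refine ⟨Quotient.mk _ q, ?_⟩
      obtain ⟨⟨_, i, rfl⟩, e⟩ := Quotient.mk_out (s := orbitRel (zpowers y) (G ⧸ P)) q
      rw [← e]
      exact zpow_mem (S := Subgroup G) (K := stabilizer G q) ((fx q).1 k) i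
    · have h3 : Function.minimalPeriod (fun x => y • x) q.out ∣ 3 := pow_smul_eq_iff_minimalPeriod_dvd.1 (by rw [yy, one_smul])
      rcases (Nat.dvd_prime Nat.prime_three).1 h3 with e | e
      · have k := (fx _).2 (Function.minimalPeriod_eq_one_iff_isFixedPt.1 e)
        simp only [F, dif_pos k, e, pow_one]
      · have k : ¬ _ := fun k => by
          rw [Function.minimalPeriod_eq_one_iff_isFixedPt.2 ((fx q.out).1 k)] at e; omega
        simp only [F, dif_neg k, e, yy, mul_one, inv_mul_cancel]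
        exact map_one φ
  let s : Finset (G ⧸ P) := Finset.univ.filter fun q => q.out⁻¹ * y * q.out ∈ P
  have ms : ∀ q, q ∈ s ↔ q.out⁻¹ * y * q.out ∈ P := fun q => by simp [s]
  have h2 : ¬ 3 ∣ s.card := by
    have h := IsPGroup.card_modEq_card_fixedPoints (G := zpowers y) (p := 3)
      (IsPGroup.of_card (n := 1) (by rw [Nat.card_zpowers, y3, pow_one])) (G ⧸ P)
    have e : Nat.card (fixedPoints (zpowers y) (G ⧸ P)) = s.card := by
      rw [← Fintype.card_coe, ← Nat.card_eq_fintype_card]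
      refine Nat.card_congr (Equiv.subtypeEquivRight fun q => ?_)
      rw [ms, fx, mem_fixedPoints]
      exact ⟨fun h => h ⟨y, mem_zpowers y⟩, by
        rintro h ⟨_, i, rfl⟩; exact zpow_mem (S := Subgroup G) (K := stabilizer G q) h i⟩
    rw [← e, ← (h.dvd_iff dvd_rfl)]
    have := hP.not_dvd Nat.prime_three
    rwa [relIndex_top_right] at this
  have h3 : ∀ a ∈ s.image F, (s.filter (F · = a)).card = #C[y] / 9 := fun a ha => by
    obtain ⟨q, hq, rfl⟩ := Finset.mem_image.1 ha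
    rw [ms] at hq
    have e1 : stabilizer G q = cj q.out P := by
      ext c
      rw [mem_stabilizer_iff, ← Quotient.coe_smul_out, eq_comm, mem_cj]
      nth_rewrite 1 [← q.out_eq']
      rw [QuotientGroup.eq, smul_eq_mul, mul_assoc]
    have e2 : (cj q.out P).relIndex C[y] = (orbit C[y] q).ncard := by rw [← index_stabilizer, ← e1]; rfl
    have e3 := card_inf_mul_relIndex (cj q.out P) C[y]
    have e4 : #(cj q.out P ⊓ C[y]) = 9 := by
      rw [← (cls hP.pi h27 hq (k9 _)).2.1, ← card_cj q.out (P ⊓ _), cj_inf, cj_cen1]; group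
    rw [← e3, e4, e2, Nat.mul_div_cancel_left _ (by norm_num), ← Set.ncard_coe_finset]
    congr 1
    ext b
    simp only [Finset.coe_filter, Set.mem_ofPred_eq, ms]
    constructor
    · rintro ⟨hb, e⟩
      simp only [F, dif_pos hb, dif_pos hq] at e
      obtain ⟨x, hx, e'⟩ := cp _ hq _ e
      refine ⟨⟨b.out * x * q.out⁻¹, mem_cen1.2 ?_⟩, ?_⟩
      · calc _ = b.out * (x * (q.out⁻¹ * y * q.out) * x⁻¹) * x * q.out⁻¹ := by group
          _ = _ := by rw [e']; group
      · change (b.out * x * q.out⁻¹) • q = b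
        rw [← Quotient.coe_smul_out, smul_eq_mul, inv_mul_cancel_right, QuotientGroup.mk_mul_of_mem _ hx,
          QuotientGroup.out_eq']
    · rintro ⟨c, rfl⟩
      obtain ⟨x, hx⟩ := QuotientGroup.mk_out_eq_mul P ((c : G) * q.out)
      have e : (c • q).out⁻¹ * y * (c • q).out = (x : G)⁻¹ * (q.out⁻¹ * y * q.out) * x := by
        have : c • q = ↑((c : G) * q.out) := (Quotient.coe_smul_out P (c : G) q).symm
        rw [this, hx]
        calc _ = (x : G)⁻¹ * q.out⁻¹ * (c : G)⁻¹ * (y * c) * q.out * x := by group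
          _ = _ := by rw [← mem_cen1.1 c.2]; group
      have hb : (c • q).out⁻¹ * y * (c • q).out ∈ P := e ▸ mul_mem (mul_mem (inv_mem x.2) hq) x.2
      refine ⟨hb, ?_⟩
      simp only [F, dif_pos hb, dif_pos hq]
      rw [show (⟨_, hb⟩ : P) = x⁻¹ * ⟨_, hq⟩ * x from Subtype.ext e, map_mul, map_mul, map_inv, inv_mul_cancel_comm]
  have h4 : ∀ a ∈ s.image F, a ^ 3 = 1 ∧ a ≠ 1 ∧ a⁻¹ ∉ s.image F := fun a ha => by
    obtain ⟨q, hq, rfl⟩ := Finset.mem_image.1 ha
    rw [ms] at hq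
    simp only [F, dif_pos hq]
    refine ⟨?_, fun k => ?_, fun k => ?_⟩
    · rw [← map_pow, show (⟨_, hq⟩ : P) ^ 3 = 1 from Subtype.ext (by
        simpa [yy] using (conj_pow (a := q.out⁻¹) (b := y) (i := 3))), map_one]
    · obtain ⟨x, -, e⟩ := cp _ hq 1 (by rw [k, map_one])
      exact (conj_ne_one (g := x)).2 ((conj_ne_one (g := q.out⁻¹)).2 y1) (by rw [inv_inv]; exact e)
    · obtain ⟨b, hb, e⟩ := Finset.mem_image.1 k
      rw [ms] at hb
      simp only [dif_pos hb] at e
      obtain ⟨x, -, e'⟩ := cp _ hq ⟨_, hb⟩⁻¹ (by rw [map_inv, e, inv_inv])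
      refine nr (b.out * x * q.out⁻¹) ?_
      calc _ = b.out * (x * (q.out⁻¹ * y * q.out) * x⁻¹) * b.out⁻¹ := by group
        _ = _ := by rw [e']; simp [mul_assoc]
  rw [Finset.card_eq_sum_card_image F, Finset.sum_congr rfl h3, Finset.sum_const, smul_eq_mul] at h2
  rw [← Finset.prod_subset (Finset.subset_univ s) fun q _ hq => dif_neg (mt (ms q).2 hq)] at h1
  have h5 := Finset.prod_comp (s := s) id F
  simp only [id] at h5
  rw [h1, Finset.prod_congr rfl fun a ha => by rw [h3 a ha], Finset.prod_pow] at h5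
  have h6 : (∏ a ∈ s.image F, a) ^ 3 = 1 := by
    rw [← Finset.prod_pow]; exact Finset.prod_eq_one fun a ha => (h4 a ha).1
  have h7 := pow_gcd_eq_one.2 ⟨h6, h5.symm⟩
  rw [(Nat.prime_three.coprime_iff_not_dvd.2 fun k => h2 (k.mul_left _)).gcd_eq_one, pow_one] at h7
  exact h2 ((nine (Nat.card_eq_fintype_card.symm.trans cA) _ h4 h7).mul_right _)

end Fx

end Cfsg.Agent.GO
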