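import Cfsg.Agent.GO.Fx4

/-! Fixity four: point stabilizers of odd order divisible by three. -/

set_option autoImplicit false
set_option linter.unusedSectionVars false
set_option linter.unusedVariables false
set_option linter.style.haveILetI false

namespace Cfsg.Agent.GO

open Cfsg Subgroup Cfsg.Agent.FT Cfsg.Agent.GW
open scoped commutatorElement

universe u

variable {G : Type u} [Group G] [Finite G] {D : Set G} {p : ℕ}
  {A B E H J K L M P Q R S T U V W X Y Z : Subgroup G} {a b d e g r s t v w x y z : G}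

variable {c f k u : G} {n m : ℕ}

namespace Fx

open Fg

theorem ninv (ho : Odd (orderOf g)) (hg : g ∈ N(K)) (hx : x ∈ N(K)) (h : g * x * g⁻¹ * x ∈ K) : x * x ∈ K := by
  have h1 : g ^ 2 ∈ Fg.cm K x := ⟨pow_mem hg 2, by
    have : ⁅x, g ^ 2⁆ = x * (g * x * g⁻¹ * x) * x⁻¹ * (g * (g * x * g⁻¹ * x)⁻¹ * g⁻¹) := by
      rw [commutatorElement_def, sq]; group
    rw [this]; exact mul_mem (conj_mem hx h) (conj_mem hg (inv_mem h))⟩
  have h2 := (mem_of_pow_mem h1 (Nat.coprime_two_left.2 ho)).2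
  have : x * x = ⁅x, g⁆ * (g * x * g⁻¹ * x) := by rw [commutatorElement_def]; group
  rw [this]; exact mul_mem h2 h

theorem o3 (h : orderOf t = 3) : t ^ 3 = 1 := by rw [← h, pow_orderOf_eq_one]

theorem of23 (h2 : x * x ∈ K) (h3 : x ^ 3 ∈ K) : x ∈ K := by
  rwa [pow_three', Subgroup.mul_mem_cancel_left _ h2] at h3

theorem three (cV : #V ≤ 3) (hz : z ∈ V) (z3 : orderOf z = 3) (hx : x ∈ V) (x1 : x ≠ 1) : x = z ∨ x = z⁻¹ := by
  rw [← eq_of_card_le (zpowers_le.2 hz) (by rwa [card_zpowers', z3])] at hx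
  obtain ⟨i, rfl⟩ := mem_powers_iff_mem_zpowers.2 hx
  simp only at x1 ⊢
  rw [← pow_mod_orderOf, z3] at x1 ⊢
  obtain e | e | e : i % 3 = 0 ∨ i % 3 = 1 ∨ i % 3 = 2 := by omega
  · exact absurd (by rw [e, pow_zero]) x1
  · exact .inl (by rw [e, pow_one])
  · exact .inr (by rw [e]; exact eq_inv_of_mul_eq_one_left (by rw [← pow_succ, o3 z3]))

theorem podd (pP : PGrp 3 P) (hs : s ∈ P) : Odd (orderOf s) := by
  obtain ⟨n, hn⟩ := pP.card
  exact Odd.of_dvd_nat (by rw [hn]; exact Odd.pow (by decide)) (orderOf_dvd_card' hs)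

namespace T3
variable (h : T3 K M)
include h

theorem nr2 (hx : x ∈ M) (nx : x ∉ K) (x3 : x ^ 3 ∈ K) (hg : g ∈ M) : g * x * g⁻¹ * x ∉ K := fun k => by
  obtain ⟨i, hi⟩ := h.nr g hg x hx nx x3
  refine nx (of23 (ninv hi (h.nm (mul_mem hg (pow_mem hx i))) (h.nm hx) ?_) x3)
  convert k using 2; group

theorem nreal (hy : y ∈ K) (y3 : orderOf y = 3) (hz : z ∈ M) (nz : z ∉ K) (z3 : z ^ 3 ∈ K) (zy : z ∈ C[y]) (g : G) :
    g * y * g⁻¹ ≠ y⁻¹ := fun k => by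
  have y1 := o1 Nat.prime_three y3
  obtain ⟨i, hi⟩ := h.nr g (h.ti y hy y1 (pElt_of_pow_eq_one Nat.prime_three (o3 y3)) g (k ▸ inv_mem hy)) z hz nz z3
  refine y1 (mem_bot.1 (of23 (ninv (K := ⊥) hi (by rw [nrm_bot]; trivial) (by rw [nrm_bot]; trivial) ?_) (mem_bot.2 (o3 y3))))
  rw [mem_bot, mul_inv_rev, mul_assoc g, mem_cen1.1 (pow_mem zy i), ← mul_assoc g, mul_assoc (g * y), mul_inv_cancel_left,
    k, inv_mul_cancel]

theorem i3 (pP : PGrp 3 P) (hP : P ≤ M) (hn : ¬ P ≤ K) : K.relIndex P = 3 :=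
  (h.idx P hP pP).antisymm (Nat.le_of_dvd (relIndex_pos _ _) (pP.dvd_relIndex hn))

theorem cube (pP : PGrp 3 P) (hP : P ≤ M) (hx : x ∈ P) : x ^ 3 ∈ K := by
  by_cases e : P ≤ K
  · exact e (pow_mem hx 3)
  · rw [← h.i3 pP hP e]
    haveI : (K.subgroupOf P).Normal := (normal_subgroupOf_iff_le_normalizer_inf).2
      ((hP.trans h.nm).trans' le_rfl |> fun k => normsI k (le_nrm P))
    exact pow_index_mem (H := K.subgroupOf P) ⟨x, hx⟩

theorem coset (pP : PGrp 3 P) (hP : P ≤ M) (hx : x ∈ P) (nx : x ∉ K) (hy : y ∈ P) (ny : y ∉ K) : y * x ∈ K ∨ x * y⁻¹ ∈ K := by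
  have e : K ⊓ P ⊔ ⟪x⟫ = P := eq_of_card_le (sup_le inf_le_right (zpowers_le.2 hx)) (by
    rw [H3.card_sup_zpowers Nat.prime_three (normsI (hP.trans h.nm) (le_nrm P) hx) (fun k => nx k.1)
      ⟨h.cube pP hP hx, pow_mem hx 3⟩, ← card_inf_mul_relIndex K P, h.i3 pP hP fun k => nx (k hx), mul_comm])
  obtain ⟨c, hc, w, hw, rfl⟩ := (mem_sup_norm (zpowers_le.2 (normsI (hP.trans h.nm) (le_nrm P) hx))).1 (e.symm ▸ hy)
  obtain ⟨i, rfl⟩ := mem_powers_iff_mem_zpowers.2 hw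
  have h3 := pow_mem (h.cube pP hP hx) (i / 3)
  simp only at ny ⊢
  rw [← Nat.div_add_mod i 3, pow_add, pow_mul, ← mul_assoc] at ny ⊢
  have hd := mul_mem hc.1 h3
  generalize c * (x ^ 3) ^ (i / 3) = d at *
  obtain e | e | e : i % 3 = 0 ∨ i % 3 = 1 ∨ i % 3 = 2 := by omega
  · exact absurd (by rwa [e, pow_zero, mul_one]) ny
  · exact .inr (by simpa [e] using hd)
  · exact .inl (by rw [e, mul_assoc, ← pow_succ]; exact mul_mem hd (h.cube pP hP hx))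

theorem cmm (pP : PGrp 3 P) (hP : P ≤ M) (hx : x ∈ P) (nx : x ∉ K) (hg : g ∈ M) (hy : g * x * g⁻¹ ∈ P) : ⁅x, g⁆ ∈ K := by
  rcases h.coset pP hP hx nx hy (fun k => nx (by simpa [mul_assoc] using conj_mem' (h.nm hg) k)) with e | e
  · exact absurd e (h.nr2 (hP hx) nx (h.cube pP hP hx) hg)
  · convert e using 1; rw [commutatorElement_def]; group

theorem emb (hU : Syl 3 U M) (e : U ≤ K) (hg : g ∉ M) : ¬ 3 ∣ #(M ⊓ FT.cj g M) := fun k => by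
  obtain ⟨x, hx, x3⟩ := exists_elt_of_prime_dvd Nat.prime_three k
  have k1 : ∀ y ∈ M, PiElt {3} y → y ∈ K := fun y hy py =>
    zpowers_le.1 (hU.le_of_syl_le h.nm e py.zpowers (zpowers_le.2 hy))
  have px := pElt_of_pow_eq_one Nat.prime_three (o3 x3)
  exact o1 Nat.prime_three x3 (h.tiv hg (k1 x hx.1 px) (mem_cj.2 (k1 _ (mem_cj.1 hx.2) (by simpa using px.conj g⁻¹))) px)

theorem zex (pP : PGrp 3 P) (hP : P ≤ M) (h1 : P ⊓ K ≠ ⊥) : ∃ z ∈ P ⊓ K, z ∈ C(P) ∧ orderOf z = 3 := by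
  obtain ⟨z, hz, z3⟩ := ex1 Nat.prime_three ((pP.inf_left K).inf_left _)
    (pP.nil.meet_cen ⟨inf_le_left, normsI (le_nrm P) (hP.trans h.nm)⟩ h1)
  exact ⟨z, hz.1, hz.2, z3⟩

theorem caseU (hP : Syl 3 P ⊤) (hG : _root_.commutator G = ⊤) (hU : Syl 3 (P ⊓ M) M) (h1 : P ⊓ K ≠ ⊥)
    (h2 : ¬ P ⊓ M ≤ K) : P ≤ M := by_contra fun e => by
  have pP := hP.pi
  obtain ⟨s, hs, ns, s1, s2⟩ := h.up pP e
  have h3 := h.small1 ns (le_inf (cj_mono s inf_le_right) (s2.trans inf_le_right)) ((pP.inf_left _).cj s)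
  rw [card_cj] at h3
  have e1 : P ⊓ M ⊓ K = P ⊓ K := by rw [inf_assoc, inf_eq_right.2 h.le]
  obtain ⟨y, hy, yc, y3⟩ := h.zex hU.pi inf_le_right (e1.symm ▸ h1)
  obtain ⟨z, hz, nz⟩ := SetLike.not_le_iff_exists.1 h2
  have h4 := card_inf_mul_relIndex K (P ⊓ M)
  rw [h.i3 hU.pi inf_le_right h2, inf_comm, e1] at h4
  have h5 := Nat.le_of_dvd (FT.card_pos _) ((pP.inf_left K).dvd h1)
  have h6 := card_le (inf_le_left : P ⊓ M ≤ P)
  exact tr hP hG y3 (by omega) hy.1.1 (fun Q hQ pQ => (hU.card_le pQ (hQ.trans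
    (h.cen hy.2 (o1 Nat.prime_three y3) (pP.piElt hy.1.1)))).trans (by omega))
    (h.nreal hy.2 y3 hz.2 nz (h.cube hU.pi inf_le_right hz) (le_cen1.2 yc hz))

theorem focal (hP : Syl 3 P ⊤) (hG : _root_.commutator G = ⊤) (e : P ≤ M) (h1 : P ⊓ K ≠ ⊥)
    (hc : IsStronglyClosed (P ⊓ K) P) : P ≤ K := by
  haveI : Fact (Nat.Prime 3) := ⟨Nat.prime_three⟩
  have pP := hP.pi
  obtain ⟨T, rfl⟩ := (syl_top_iff Nat.prime_three).1 hP
  have h2 := commutator_inf_eq_focalSubgroup T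
  rw [hG, top_inf_eq] at h2
  rw [h2, focalSubgroup_def, closure_le]
  generalize (T : Subgroup G) = P at *
  rintro _ ⟨h3, x, hx, g, rfl⟩
  have hy : g * x * g⁻¹ ∈ P := by
    rw [commutatorElement_def, mul_assoc x, mul_assoc x, Subgroup.mul_mem_cancel_left _ hx] at h3
    simpa [mul_assoc] using inv_mem h3
  rw [SetLike.mem_coe]
  by_cases k : x ∈ K
  · convert mul_mem k (inv_mem (hc.2 x ⟨hx, k⟩ g hy).2) using 1
    rw [commutatorElement_def]; group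
  obtain ⟨z, hz, zc, z3⟩ := h.zex pP e h1
  have z1 := o1 Nat.prime_three z3
  have pz := pP.piElt hz.1
  obtain ⟨T, hT, hT'⟩ := pz.zpowers.exists_syl (zpowers_le.2 (cen_le_cen1 hy zc))
  obtain ⟨c, c1, c2⟩ := hT.syl_elt (x := g * z * g⁻¹) (by rw [← cj_cen1, conj_mem_cj]; exact cen_le_cen1 hx zc) (pz.conj g)
  obtain ⟨w, -, hw⟩ := hP.syl_Jsub hT.pi le_top
  have k1 := h.ti z hz.2 z1 pz w (hc.2 z hz w (hw (conj_mem_cj.2 (hT' (mem_zpowers z))))).2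
  have k2 := h.ti z hz.2 z1 pz (w * (c * g)) (hc.2 z hz _ (by convert hw (conj_mem_cj.2 c2) using 1; group)).2
  rw [Subgroup.mul_mem_cancel_left _ k1] at k2
  have e2 : c * g * x * (c * g)⁻¹ = g * x * g⁻¹ := by
    rw [← mul_inv_cancel_right (g * x * g⁻¹) c, ← mem_cen1.1 c1]; group
  convert h.cmm pP e hx k k2 (e2 ▸ hy) using 1
  calc _ = x * (g * x * g⁻¹)⁻¹ := by rw [commutatorElement_def]; group
    _ = _ := by rw [← e2, commutatorElement_def]; group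

theorem half {K' M' : Subgroup G} (h' : T3 K' M') (pP : PGrp 3 P) (hP : P ≤ M) (c9 : 9 < #P)
    (hb : ∀ x ∈ K, x ∈ K' → PiElt {3} x → x = 1) (hu : u ∈ P) (uK : u ∈ K') (u3 : orderOf u = 3) (hz : z ∈ P) (zK : z ∈ K)
    (z3 : orderOf z = 3) (zu : z ∈ C[u]) : ∃ s, s * z * s⁻¹ = z ∧ s * u * s⁻¹ = z * u := by
  have u1 := o1 Nat.prime_three u3
  have z1 := o1 Nat.prime_three z3
  have nu : u ∉ K := fun k => u1 (hb u k uK (pP.piElt hu))
  have h1 : #(K ⊓ (P ⊓ C[u])) ≤ 3 := h'.small (inf_le_right.trans (inf_le_right.trans (h'.cen uK u1 (pP.piElt hu))))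
    ((pP.inf_left _).inf_right _) (eq_bot_iff.2 fun x hx => mem_bot.2 (hb x hx.2.1 hx.1 (pP.piElt hx.2.2.1)))
  have h2 := h.card_le (inf_le_left.trans hP : P ⊓ C[u] ≤ M) (pP.inf_left _)
  obtain ⟨s, hs, ns⟩ := SetLike.exists_of_lt (pP.lt_subnorm (lt_of_card_lt (inf_le_left : P ⊓ C[u] ≤ P) (by omega)))
  have zV : z ∈ K ⊓ (P ⊓ C[u]) := ⟨zK, hz, zu⟩
  have e1 : s * z * s⁻¹ = z := (three h1 zV z3 ⟨conj_mem (h.nm (hP hs.1)) zK, conj_mem hs.2 zV.2⟩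
    (conj_ne_one.2 z1)).resolve_right fun k => z1 (mem_bot.1 (of23 (ninv (K := ⊥) (podd pP hs.1)
      (by rw [nrm_bot]; trivial) (by rw [nrm_bot]; trivial) (by rw [k]; simp)) (mem_bot.2 (o3 z3))))
  have uC : u ∈ P ⊓ C[u] := ⟨hu, self_mem_cen1 u⟩
  have h3 : ⁅s, u⁆ ∈ K ⊓ (P ⊓ C[u]) := ⟨by
    rw [← commutatorElement_inv]; exact K.inv_mem (h.cmm pP hP hu nu (hP hs.1) (conj_mem hs.2 uC).1),
    (P ⊓ C[u]).mul_mem (conj_mem hs.2 uC) ((P ⊓ C[u]).inv_mem uC)⟩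
  rcases three h1 zV z3 h3 fun k => ns ⟨hs.1, c_iff.1 k⟩ with e | e
  · exact ⟨s, e1, by rw [conj_c, e]⟩
  · have e2 : s⁻¹ * z * s⁻¹⁻¹ = z := by nth_rewrite 1 [← e1]; group
    refine ⟨s⁻¹, e2, ?_⟩
    have e3 : u = s⁻¹ * (z⁻¹ * u) * s := by rw [← e, ← conj_c]; group
    calc _ = s⁻¹ * z * s⁻¹⁻¹ * (s⁻¹ * (z⁻¹ * u) * s) := by group
      _ = _ := by rw [e2, ← e3]

theorem odd (hP : Syl 3 P ⊤) (hG : _root_.commutator G = ⊤) (hU : Syl 3 (P ⊓ M) M) (h1 : P ⊓ K ≠ ⊥) : P ⊓ M ≤ K := by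
  by_contra h2
  have e := h.caseU hP hG hU h1 h2
  rw [inf_eq_left.2 e] at hU h2
  have pP := hP.pi
  obtain ⟨g, hg, u, hu, uK, nu, u3⟩ := h.out pP fun k => h2 (h.focal hP hG e h1 k)
  obtain ⟨z, hz, zc, z3⟩ := h.zex pP e h1
  have zu := cen_le_cen1 hu zc
  have nr := h.nreal hz.2 z3 (e hu) nu (h.cube pP e hu) (cen1_comm.1 zu)
  by_cases c9 : 9 < #P
  swap
  · have h4 := card_inf_mul_relIndex K P
    rw [h.i3 pP e h2, inf_comm] at h4
    have h5 := Nat.le_of_dvd (FT.card_pos _) ((pP.inf_left K).dvd h1)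
    exact tr hP hG z3 (by omega) hz.1 (fun Q _ pQ => (hP.card_le pQ le_top).trans (by omega)) nr
  have h' := h.cj g
  obtain ⟨s, e1, e2⟩ := h.half h' pP e c9 (fun x a b c => h.tiv hg a b c) hu uK u3 hz.1 hz.2 z3 zu
  have hE : ⟪u⟫ ⊔ ⟪z⟫ ≤ C[u] := sup_le (zpowers_le_cen1 u) (zpowers_le.2 zu)
  obtain ⟨P', hP', hE'⟩ := ((pP.piElt hu).zpowers.sup (pP.piElt hz.1).zpowers (zpowers_le.2 (cen_le_nrm _
    (cen_zpowers u ▸ zu)))).exists_syl (hE.trans (h'.cen uK (o1 Nat.prime_three u3) (pP.piElt hu)))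
  have uP : u ∈ P' := hE' (mem_sup_left (mem_zpowers u))
  obtain ⟨r, e3, e4⟩ := h'.half h hP'.pi hP'.le (by rwa [hP'.card_eq (hU.cj g), card_cj])
    (fun x a b c => h.tiv hg b a c) (hE' (mem_sup_right (mem_zpowers z))) hz.2 z3 (inv_mem uP) (inv_mem uK)
    (by rwa [orderOf_inv]) (inv_mem (cen1_comm.1 zu))
  have e3' : r * u * r⁻¹ = u := by rw [← inv_inj, ← e3]; group
  have cm := mem_cen1.1 zu
  have f1 : s * r * s * u * (s * r * s)⁻¹ = z := by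
    calc _ = s * (r * (s * u * s⁻¹) * r⁻¹) * s⁻¹ := by group
      _ = _ := by rw [e2, ← conj_mul (b := r), e4, e3', mul_assoc u⁻¹, cm, inv_mul_cancel_left, e1]
  have f2 : s * r * s * z * (s * r * s)⁻¹ = u⁻¹ := by
    calc _ = s * (r * (s * z * s⁻¹) * r⁻¹) * s⁻¹ := by group
      _ = (s * u * s⁻¹)⁻¹ * (s * z * s⁻¹) := by rw [e1, e4, ← conj_mul (b := s), e1]; group
      _ = _ := by rw [e1, e2]; group
  refine nr (s * r * s * (s * r * s)) ?_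
  generalize s * r * s = w at *
  calc _ = w * (w * z * w⁻¹) * w⁻¹ := by group
    _ = _ := by rw [f2, ← f1]; group

end T3

end Fx

end Cfsg.Agent.GO
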