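import Cfsg.Agent.GO.P8
import Cfsg.Agent.GO.A5x
import Cfsg.Agent.S0775
import Cfsg.Agent.H11.Semi

/-! Groups of shape 3^(1+2).SL2(3) with an elementary abelian subgroup of order 27. -/

set_option autoImplicit false
set_option linter.unusedSectionVars false
set_option linter.unusedVariables false

namespace Cfsg.Agent.GO

open Cfsg Subgroup Cfsg.Agent.FT Cfsg.Agent.GW
open scoped commutatorElement

universe u

variable {G : Type u} [Group G] [Finite G] {D : Set G} {p : ℕ}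
  {A B E H J K L M P Q R S T U V W X Y Z : Subgroup G} {a b d e g r s t v w x y z : G}

open Matrix
open scoped MatrixGroups

namespace H648

variable {i σ : G} {π : G →* SL(2, ZMod 3)}

def c7 : PCd := ⟨7, fun j => [3, 3, 3, 2, 2, 2, 3].getD j 2, fun j => ([[], [], [], [], [3], [3], []] : List (List ℕ)).getD j [],
  fun j i => (([[], [[0]], [[0], [0, 0, 1]], [[0], [1, 1], [2, 2]], [[0], [2], [1, 1], [3]],
    [[0], [1, 1, 2, 1, 1], [1, 1, 2, 2, 1, 1], [3], [3, 4]], [[0], [1], [1, 1, 2, 1, 1], [3], [5], [4, 5]]] :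
      List (List (List ℕ))).getD j []).getD i []⟩

theorem ok7 : c7.ok := by decide

def mP : ℕ → Matrix (Fin 2 ⊕ Fin 2) (Fin 2 ⊕ Fin 2) (ZMod 3) := fun i => P8.mk P8.ix4 (([
  [[1, 0, 1, 0], [0, 1, 0, 0], [0, 0, 1, 0], [0, 0, 0, 1]], [[1, 0, 0, 1], [0, 1, 1, 0], [0, 0, 1, 0], [0, 0, 0, 1]],
  [[1, 1, 0, 0], [0, 1, 0, 0], [0, 0, 1, 0], [0, 0, 2, 1]], [[1, 0, 0, 0], [0, 2, 0, 0], [0, 0, 1, 0], [0, 0, 0, 2]],
  [[1, 0, 0, 0], [0, 0, 0, 1], [0, 0, 1, 0], [0, 2, 0, 0]], [[1, 0, 0, 0], [0, 1, 0, 2], [0, 0, 1, 0], [0, 2, 0, 2]],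
  [[1, 0, 0, 0], [0, 1, 0, 2], [0, 0, 1, 0], [0, 0, 0, 1]]] : List (List (List (ZMod 3)))).getD i
    [[1], [0, 1], [0, 0, 1], [0, 0, 0, 1]])

theorem relP : c7.rel mP := by decide +kernel

theorem memP (i : ℕ) : mP i ∈ symplecticGroup (Fin 2) (ZMod 3) := by
  rw [SymplecticGroup.mem_iff]
  rcases i with _ | _ | _ | _ | _ | _ | _ | i
  iterate 7 decide +kernel
  exact (by decide +kernel : mP 7 * J _ _ * (mP 7)ᵀ = J _ _)

def gP (i : ℕ) : symplecticGroup (Fin 2) (ZMod 3) := ⟨mP i, memP i⟩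

theorem card_cen : #C[(QuotientGroup.mk' (center _) (gP 0) : PSp 2 (ZMod 3))] ≤ 648 := by
  have hZ := S0246.result (F := ZMod 3) (ZMod.card 3) 2 one_le_two
  let v : Fin 2 ⊕ Fin 2 → ZMod 3 := Pi.single (.inl 0) 1
  have v0 : v ≠ 0 := by decide
  have h1 := S0775.result (F := ZMod 3) (ZMod.card 3) 2 1 one_le_two (Submodule.span (ZMod 3) {v})
    (finrank_span_singleton v0) (by
      intro u hu w hw
      obtain ⟨a, rfl⟩ := Submodule.mem_span_singleton.1 hu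
      obtain ⟨b, rfl⟩ := Submodule.mem_span_singleton.1 hw
      clear hu hw; revert a b; decide +kernel)
  set D := C[(QuotientGroup.mk' (center _) (gP 0) : PSp 2 (ZMod 3))].comap (QuotientGroup.mk' _) with hD
  have p3 : gP 0 ^ 3 ^ 1 = 1 := Subtype.ext (by decide +kernel)
  have k : ∀ g ∈ D, ∀ u ∈ Submodule.span (ZMod 3) {v}, g.1 *ᵥ u ∈ Submodule.span (ZMod 3) {v} := fun g hg u hu => by
    obtain ⟨a, rfl⟩ := Submodule.mem_span_singleton.1 hu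
    rw [mulVec_smul]
    refine Submodule.smul_mem _ _ ?_
    have e := H11.eq_of_mk_eq_of_pow (p := 3) (by rw [hZ]; norm_num) (a := g * gP 0 * g⁻¹) (b := gP 0)
      ⟨1, by rw [conj_pow, p3]; group⟩ ⟨1, p3⟩ (by
        rw [QuotientGroup.mk_mul, QuotientGroup.mk_mul, QuotientGroup.mk_inv, mul_inv_eq_iff_eq_mul]
        exact mem_cen1.1 (mem_comap.1 hg))
    have e1 : g.1 * mP 0 = mP 0 * g.1 := congrArg Subtype.val (mul_inv_eq_iff_eq_mul.1 e)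
    have e2 : ∀ x : Fin 2 ⊕ Fin 2 → ZMod 3, mP 0 *ᵥ x = x + x (.inr 0) • v := by decide +kernel
    have e3 := congrArg (· *ᵥ Pi.single (.inr 0) 1) e1
    simp only [← mulVec_mulVec, e2, mulVec_add, Pi.single_eq_same, one_smul, add_right_inj] at e3
    exact Submodule.mem_span_singleton.2 ⟨_, e3.symm⟩
  have h2 : D ≤ stabilizing (spToMat 2 (ZMod 3)) (Submodule.span (ZMod 3) {v} : Set _) := fun g hg u =>
    ⟨k g hg u, fun e => by
      have := k g⁻¹ (inv_mem hg) _ e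
      change (g⁻¹).1 *ᵥ (g.1 *ᵥ u) ∈ _ at this
      rwa [mulVec_mulVec, ← Submonoid.coe_mul, inv_mul_cancel, Submonoid.coe_one, one_mulVec] at this⟩
  have h3 := FT.card_le h2
  have h4 := FT.card_mul_relIndex (A := center _) (B := D) fun x hx => by
    rw [hD, mem_comap, QuotientGroup.mk'_apply _ x, (QuotientGroup.eq_one_iff x).2 hx]; exact one_mem _
  have h5 := relIndex_ker D (QuotientGroup.mk' (center _))
  rw [QuotientGroup.ker_mk', hD, map_comap_eq_self_of_surjective (QuotientGroup.mk'_surjective _), ← hD] at h5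
  rw [h5, hZ] at h4
  rw [h1, ← h4] at h3
  norm_num at h3
  exact Nat.le_of_mul_le_mul_left (h3.trans_eq (by norm_num : 1296 = 2 * 648)) two_pos

/-- the element of order four -/
def i0 : SL(2, ZMod 3) := ⟨!![0, -1; 1, 0], by decide⟩

theorem sl_nml : ∀ g : SL(2, ZMod 3), g ≠ 1 → g = i0 ^ 2 ∨ g ^ 2 = i0 ^ 2 ∨ g ^ 3 = i0 ^ 2 ∨ ⁅g, i0⁆ ^ 2 = i0 ^ 2 := by
  decide +kernel

theorem sl_cen : ∀ g : SL(2, ZMod 3), i0 ^ 2 * g = g * i0 ^ 2 := by decide +kernel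

theorem sl_three : ∀ s : SL(2, ZMod 3), s ^ 3 = 1 → s ≠ 1 → s * i0 * s⁻¹ * i0 * (s * i0 * s⁻¹)⁻¹ = i0 ^ 2 * i0 ∧
    (s * (s * i0 * s⁻¹) * s⁻¹ = i0 * (s * i0 * s⁻¹) ∨ s * (s * i0 * s⁻¹) * s⁻¹ = s * i0 * s⁻¹ * i0) ∧
    ∀ g : SL(2, ZMod 3), ∃ a b c : Fin 4, g = i0 ^ a.1 * (s * i0 * s⁻¹) ^ b.1 * s ^ c.1 := by decide +kernel

theorem cen_le [R.Normal] (hk : π.ker = R) (hs : Function.Surjective π) (he : ∀ r ∈ R, r ^ 3 = 1) (hO : pCore 2 G = ⊥) :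
    C(R) ≤ R := by
  haveI : C(R).Normal := inferInstance
  by_contra! h
  obtain ⟨x, hx, hn⟩ := SetLike.not_le_iff_exists.1 h
  obtain ⟨i, hi⟩ := hs i0
  obtain ⟨n, hn, e⟩ : ∃ n ∈ C(R), π n = i0 ^ 2 := by
    rcases sl_nml (π x) (fun e => hn (hk ▸ e)) with e | e | e | e
    · exact ⟨x, hx, e⟩
    · exact ⟨x ^ 2, pow_mem hx 2, by rw [map_pow, e]⟩
    · exact ⟨x ^ 3, pow_mem hx 3, by rw [map_pow, e]⟩
    · exact ⟨⁅x, i⁆ ^ 2, pow_mem ((commutator_le_left C(R) ⊤) (commutator_mem_commutator hx (mem_top i))) 2,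
        by rw [map_pow, map_commutatorElement, hi, e]⟩
  have e1 : π (n ^ 3) = i0 ^ 2 := by rw [map_pow, e]; decide +kernel
  have e2 : (n ^ 3) ^ 2 = 1 := by
    rw [← pow_mul, mul_comm, pow_mul]; exact he _ (hk ▸ (show π (n ^ 2) = 1 by rw [map_pow, e]; decide +kernel))
  have hc := pow_mem hn 3
  generalize n ^ 3 = t at e1 e2 hc
  have h1 : ∀ g, g * t * g⁻¹ = t := fun g => by
    have r1 : t⁻¹ * (g * t * g⁻¹) ∈ R := hk ▸ (show π _ = 1 by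
      rw [map_mul, map_mul, map_mul, map_inv, map_inv, e1, ← sl_cen]; group)
    have r2 : (t⁻¹ * (g * t * g⁻¹)) ^ 2 = 1 := by
      have c : Commute t⁻¹ (g * t * g⁻¹) := by
        have := (show Commute _ t from FT.mem_cen.1 hc _ r1).symm
        simpa using ((Commute.refl t).mul_right this).inv_left
      rw [c.mul_pow, inv_pow, conj_pow, e2]; group
    have := he _ r1
    rw [pow_succ, r2, one_mul, inv_mul_eq_one] at this
    exact this.symm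
  have h2 : ⟪t⟫ ≤ pCore 2 G := by
    rw [← pcore_top' Nat.prime_two]
    exact pcore_max ((abelem_zpowers e2).pGrp Nat.prime_two) ⟨le_top, fun g _ => H3.mem_nrm_zpowers (by rw [h1]; exact mem_zpowers t)⟩
  rw [hO, le_bot_iff, zpowers_eq_bot] at h2
  rw [h2, map_one] at e1
  exact absurd e1 (by decide +kernel)

/-- generators -/
structure Gen (π : G →* SL(2, ZMod 3)) (R : Subgroup G) (a i σ : G) : Prop where
  pi : π i = i0
  i4 : i ^ 4 = 1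
  cen : R ⊓ C[i ^ 2] ≤ Z(R)
  aR : a ∈ R
  inv : i ^ 2 * a * (i ^ 2)⁻¹ = a⁻¹
  sup : Z(R) ⊔ ⟪a⟫ ⊔ ⟪i * a * i⁻¹⟫ = R
  nb : i * a * i⁻¹ ∉ Z(R) ⊔ ⟪a⟫
  s3 : σ ^ 3 = 1
  sR : σ ∉ R
  st : Commute σ (i ^ 2)
  sa : σ ∈ C(Z(R) ⊔ ⟪a⟫)
  mx : R ⊓ C(Z(R) ⊔ ⟪a⟫) ≤ Z(R) ⊔ ⟪a⟫

theorem sq_cen (hX : #X = 3) (hg : g ∈ N(X)) : g ^ 2 ∈ C(X) := by
  have h1 := relIndex_cen_dvd_pred Nat.prime_three hX (zpowers_le.2 hg)
  have h2 := pow_relIndex_mem (K := C(X)) (norms_cent (zpowers_le.2 hg)) (mem_zpowers g)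
  obtain ⟨k, hk⟩ := h1
  rw [show 2 = C(X).relIndex ⟪g⟫ * k from hk, pow_mul]
  exact pow_mem h2 k

theorem exists_gen [R.Normal] (hk : π.ker = R) (hs : Function.Surjective π) (he : ∀ r ∈ R, r ^ 3 = 1) (hc : C(R) ≤ R)
    (hx : H3.XS 3 R z) (h27 : #R = 27) (hE : Abelem 3 E) (cE : #E = 27) : ∃ a i σ, Gen π R a i σ := by
  have nR : ∀ x : G, x ∈ N(R) := fun x => (normalizer_eq_top R).ge (mem_top x)
  have na : ¬ Ab R := hx.not_ab_of_card (n := 1) le_rfl h27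
  have cZ := hx.card_center
  have pR := hx.pGrp
  have mR : ∀ x, π x = 1 → x ∈ R := fun x h => hk ▸ h
  obtain ⟨i', hi'⟩ := hs i0
  obtain ⟨i, pi, i4⟩ : ∃ i, π i = i0 ∧ i ^ 4 = 1 := ⟨i' ^ 9, by rw [map_pow, hi']; decide +kernel, by
    rw [← pow_mul, show 9 * 4 = 4 * 3 * 3 from rfl, pow_mul, pow_mul i' 4 3,
      he (i' ^ 4) (mR _ (by rw [map_pow, hi']; decide +kernel)), one_pow]⟩
  have t2 : (i ^ 2) ^ 2 = 1 := by rw [← pow_mul, i4]
  have tR : i ^ 2 ∉ R := fun e => absurd ((map_pow π i 2).symm.trans (hk.ge e)) (by rw [pi]; decide +kernel)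
  have cop : Cop R ⟪i ^ 2⟫ := by
    rw [Cop, h27, card_zpowers']
    exact Nat.Coprime.coprime_dvd_right (orderOf_dvd_of_pow_eq_one t2) (by norm_num)
  have nZ : ∀ x : G, x ∈ N(Z(R)) := fun x => zpowers_le.1 (norms_center (zpowers_le.2 (nR x)))
  have tZ : i ^ 2 ∈ C(Z(R)) := sq_cen cZ (nZ i)
  have irr : ∀ W, Z(R) < W → W < R → i ∉ N(W) := fun W h1 h2 hn => by
    have nW : W ⊴ R := hx.nml h2.le (h1.le (hx.center.ge (mem_zpowers z)))
    have c9 : #W = 9 := by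
      obtain ⟨k, e⟩ := (pR.mono h2.le).card
      have b1 := card_lt h1
      have b2 := card_lt h2
      rw [e] at b1 b2 ⊢
      have : 1 < k := (Nat.pow_lt_pow_iff_right (a := 3) (by norm_num)).1 (show 3 ^ 1 < 3 ^ k from cZ.symm.trans_lt b1)
      have : k < 3 := (Nat.pow_lt_pow_iff_right (by norm_num)).1 (b2.trans_eq h27 : 3 ^ k < 3 ^ 3)
      rw [show k = 2 by omega]; rfl
    have q : ∀ U V : Subgroup G, V ⊴ U → #U = 3 * #V → i ∈ N(U) → i ∈ N(V) → ⁅U, ⟪i ^ 2⟫⁆ ≤ V := fun U V n c a b => by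
      have := sq_cen (X := U /ₛ V) (g := coset(V, i)) (by rw [card_quo n.nrm, H3.relIndex_of_card_mul n.le c])
        (zpowers_le.1 (quo_zpowers b ▸ quo_norms V (zpowers_le.2 a)))
      rwa [← coset_pow b, ← zpowers_le, ← quo_zpowers (pow_mem b 2), quo_cents_iff (zpowers_le.2 (pow_mem b 2)) n.nrm,
        commC] at this
    have h3 := stable_factor_cent (zpowers_le.2 (pow_mem hn 2)) (cop.mono_left h2.le)
      (q W _ ⟨h1.le, h2.le.trans (center_nml R).nrm⟩ (by rw [c9, cZ]) hn (nZ i)) (zpowers_le.2 tZ)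
    exact tR (hc (zpowers_le.1 (stable_factor_cent (zpowers_le.2 (nR _)) cop (q R W nW (by rw [c9, h27]) (nR i) hn) h3)))
  have cen : R ⊓ C[i ^ 2] ≤ Z(R) := by
    by_contra e
    refine irr (R ⊓ C[i ^ 2]) (lt_of_le_of_ne (le_inf inf_le_left (le_cen1.2 tZ)) fun e' => e e'.ge)
      (lt_of_le_of_ne inf_le_left fun e' => tR (hc (le_cen1.1 (inf_eq_left.1 e')))) ?_
    exact zpowers_le.1 (normsI (zpowers_le.2 (nR i)) ((zpowers_le.2 (mem_cen1.2 (by group))).trans (le_nrm _)))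
  have inv : ∀ r ∈ R, r * (i ^ 2 * r * (i ^ 2)⁻¹) ∈ Z(R) := fun r hr => by
    have h1 := conj_mem (nR (i ^ 2)) hr
    have h2 : i ^ 2 * (i ^ 2 * r * (i ^ 2)⁻¹) * (i ^ 2)⁻¹ = r := by
      calc _ = (i ^ 2) ^ 2 * r * ((i ^ 2) ^ 2)⁻¹ := by rw [sq (i ^ 2)]; group
        _ = r := by rw [t2]; group
    have h3 := coprime_quotient_cent1 (center_nml R).le (nZ (i ^ 2)) (card_zpowers' (i ^ 2) ▸ cop.mono_left inf_le_left)
    rw [quo_eq_bot_of_le cen] at h3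
    rw [← coset_eq_one_iff (nZ _), ← mem_bot, h3]
    refine ⟨mem_quo_of_mem (nZ _) (mul_mem hr h1), mem_cen1.2 ?_⟩
    rw [eq_comm, ← mul_inv_eq_iff_eq_mul, ← coset_conj (nZ _) (nZ _), ← conj_mul, h2, coset_mul (nZ _) (nZ _),
      coset_mul (nZ r) (nZ _), coset_commute_iff (nZ _) (nZ _), hx.center]
    exact hx.comm _ h1 _ hr
  have ER : ¬ E ≤ R := fun e => na (eq_of_card_eq e (cE.trans h27.symm) ▸ hE.ab)
  have c9 : 9 ≤ #(R ⊓ E) := by
    have h1 := card_inf_mul_relIndex R E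
    have h2 : R.relIndex E ∣ 24 := by
      rw [← hk, relIndex_ker]; exact (card_subgroup_dvd_card _).trans (by rw [Nat.card_eq_fintype_card]; decide +kernel)
    have h3 := Nat.le_of_dvd (by norm_num) (Nat.dvd_gcd h2 (cE ▸ FT.relIndex_dvd R E))
    rw [cE] at h1
    have : Nat.gcd 24 27 = 3 := by norm_num
    nlinarith
  have mx : ∀ B ≤ R, Ab B → R ⊓ E ≤ B → B = R ⊓ E := fun B h1 h2 h3 =>
    (eq_of_card_le h3 ((hx.card_ab (n := 1) h27 h1 h2).trans c9)).symm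
  have abA : Ab (R ⊓ E) := hE.ab.mono inf_le_right
  have cA : R ⊓ C(R ⊓ E) ≤ R ⊓ E := fun r hr => mx (R ⊓ E ⊔ ⟪r⟫) (sup_le inf_le_left (zpowers_le.2 hr.1))
    (abA.sup (ab_zpowers r) (zpowers_le.2 hr.2)) le_sup_left ▸ mem_sup_right (mem_zpowers r)
  have ZA : Z(R) ≤ R ⊓ E := (le_inf inf_le_left (center_le_cen inf_le_left)).trans cA
  have tA : i ^ 2 ∈ N(R ⊓ E) := FT.mem_nrm.2 fun r hr => (mul_mem_cancel_left hr).1 (ZA (inv r hr.1))
  obtain ⟨y, hy, yR⟩ := SetLike.not_le_iff_exists.1 ER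
  have yC : y ∈ C(R ⊓ E) := hE.ab.cents inf_le_right le_rfl hy
  have y1 : y⁻¹ * (i ^ 2 * y * (i ^ 2)⁻¹) ∈ R := mR _ (by simp only [map_mul, map_inv, map_pow, pi, sl_cen]; group)
  have y2 : i ^ 2 * y * (i ^ 2)⁻¹ ∈ E := (E.mul_mem_cancel_left (E.inv_mem hy)).1 (cA ⟨y1, C(R ⊓ E).mul_mem (inv_mem yC)
    (conj_mem (zpowers_le.1 (norms_cent (zpowers_le.2 tA))) yC)⟩).2
  obtain ⟨a', ha', aZ⟩ := SetLike.exists_of_lt (lt_of_card_lt ZA (by omega))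
  have aA := mul_mem (inv_mem ha') (conj_mem tA ha')
  have tt : ∀ u : G, i ^ 2 * (i ^ 2 * u * (i ^ 2)⁻¹) * (i ^ 2)⁻¹ = u := fun u => by
    calc _ = (i ^ 2) ^ 2 * u * ((i ^ 2) ^ 2)⁻¹ := by rw [sq (i ^ 2)]; group
      _ = u := by rw [t2]; group
  have sq3 : ∀ (K : Subgroup G) (u : G), u ^ 3 = 1 → u * u ∈ K → u ∈ K := fun K u e h => by
    rw [eq_inv_of_mul_eq_one_right ((pow_three' u).symm.trans e)]; exact inv_mem h
  have aZ' : a'⁻¹ * (i ^ 2 * a' * (i ^ 2)⁻¹) ∉ Z(R) := fun e => aZ (sq3 _ _ (he _ ha'.1) (by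
    have := mul_mem (inv a' ha'.1) (inv_mem e)
    rwa [show ∀ a b : G, a * b * (a⁻¹ * b)⁻¹ = a * a from fun a b => by group] at this))
  set a := a'⁻¹ * (i ^ 2 * a' * (i ^ 2)⁻¹) with ha
  have eA : Z(R) ⊔ ⟪a⟫ = R ⊓ E := eq_of_card_le (sup_le ZA (zpowers_le.2 aA)) (by
    rw [H3.card_sup_zpowers Nat.prime_three (nZ a) aZ' (he a aA.1 ▸ one_mem _), cZ]
    exact hx.card_ab (n := 1) h27 inf_le_left abA)
  have ia : i ^ 2 * a * (i ^ 2)⁻¹ = a⁻¹ := by rw [ha, ← conj_mul, tt]; group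
  have lt1 : R ⊓ E < R := lt_of_le_of_ne inf_le_left fun e => na (e ▸ abA)
  have nb : i * a * i⁻¹ ∉ Z(R) ⊔ ⟪a⟫ := fun e => irr _ (lt_of_le_of_ne le_sup_left fun e' => aZ' (e'.ge (mem_sup_right
    (mem_zpowers a)))) (eA ▸ lt1) (mem_nrm_of_cj_le (by
      rw [cj_sup, cj_of_mem_nrm (nZ i), cj_zpowers]; exact sup_le le_sup_left (zpowers_le.2 e)))
  have bR := conj_mem (nR i) aA.1
  refine ⟨a, i, y * (i ^ 2 * y * (i ^ 2)⁻¹), pi, i4, cen, aA.1, ia, eq_of_card_le (sup_le (eA.le.trans inf_le_left)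
    (zpowers_le.2 bR)) ?_, nb, hE.pow (mul_mem hy y2), fun e => yR (sq3 _ _ (hE.pow hy) ?_), ?_,
    eA ▸ hE.ab.cents inf_le_right le_rfl (mul_mem hy y2), eA ▸ cA⟩
  · rw [H3.card_sup_zpowers Nat.prime_three ((hx.nrm (eA.le.trans inf_le_left) (mem_sup_left (hx.center.ge (mem_zpowers z)))) bR) nb
      (he _ bR ▸ one_mem _), eA, h27]
    omega
  · have := mul_mem e (inv_mem y1)
    rwa [show ∀ a b : G, a * b * (a⁻¹ * b)⁻¹ = a * a from fun a b => by group] at this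
  · refine (mul_inv_eq_iff_eq_mul.1 ?_).symm
    rw [← conj_mul, tt]; exact hE.ab.comm y2 hy

theorem mem_three (h : a ^ 3 = 1) (hx : x ∈ ⟪a⟫) : x = 1 ∨ x = a ∨ x = a⁻¹ := by
  obtain ⟨k, hk, rfl⟩ : ∃ k < 3, x = a ^ k := by
    obtain ⟨k, rfl⟩ := (mem_powers_iff_mem_zpowers).2 hx
    exact ⟨k % 3, Nat.mod_lt _ (by norm_num), pow_eq_pow_mod k h⟩
  interval_cases k
  · exact .inl (pow_zero a)
  · exact .inr (.inl (pow_one a))
  · exact .inr (.inr (eq_inv_of_mul_eq_one_left (by rw [← pow_succ, h])))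

theorem Gen.inv' (h : Gen π R a i σ) : Gen π R a i σ⁻¹ :=
  { h with
    s3 := by rw [inv_pow, h.s3, inv_one]
    sR := fun e => h.sR (inv_mem_iff.1 e)
    st := h.st.inv_left
    sa := inv_mem h.sa }

theorem Gen.act [R.Normal] (h : Gen π R a i σ) (he : ∀ r ∈ R, r ^ 3 = 1) (hc : C(R) ≤ R) (hx : H3.XS 3 R z) :
    ∃ σ, Gen π R a i σ ∧ σ * (i * a * i⁻¹) * σ⁻¹ = a⁻¹ * (i * a * i⁻¹) * a⁻¹ := by
  have nR : ∀ x : G, x ∈ N(R) := fun x => (normalizer_eq_top R).ge (mem_top x)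
  have nZ : ∀ x : G, x ∈ N(Z(R)) := fun x => zpowers_le.1 (norms_center (zpowers_le.2 (nR x)))
  have tZ : i ^ 2 ∈ C(Z(R)) := sq_cen hx.card_center (nZ i)
  have hb : i ^ 2 * (i * a * i⁻¹) * (i ^ 2)⁻¹ = (i * a * i⁻¹)⁻¹ := by
    rw [conj_inv, ← h.inv]; group
  have bR := conj_mem (nR i) h.aR
  have sup := h.sup
  set b := i * a * i⁻¹
  have cm : ∀ x ∈ R, ∀ y ∈ R, ⁅x, y⁆ ∈ Z(R) := fun x a y b => hx.center ▸ hx.comm x a y b
  have sa : σ * a * σ⁻¹ = a := mul_inv_eq_iff_eq_mul.2 (FT.mem_cen.1 h.sa a (mem_sup_right (mem_zpowers a))).symm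
  have d : b⁻¹ * (σ * b * σ⁻¹) ∈ Z(R) ⊔ ⟪a⟫ := by
    have dR := mul_mem (inv_mem bR) (conj_mem (nR σ) bR)
    refine h.mx ⟨dR, ?_⟩
    rw [cen_sup, cen_zpowers]
    refine ⟨le_cen1.1 (center_le_cen (zpowers_le.2 dR) |>.trans (cen_zpowers _).le), mem_cen1.2 ?_⟩
    have e := mul_inv_eq_iff_eq_mul.2 (FT.mem_cen.1 h.sa _ (mem_sup_left (cm a h.aR b bR))).symm
    rw [conjugate_commutatorElement, sa, commutatorElement_def, commutatorElement_def] at e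
    generalize σ * b * σ⁻¹ = c at e
    calc _ = b⁻¹ * (a⁻¹ * (a * c * a⁻¹ * c⁻¹))⁻¹ * c := by group
      _ = _ := by rw [e]; group
  obtain ⟨w, hw, u, hu, e⟩ := (mem_sup_norm (zpowers_le.2 (nZ a))).1 d
  have uR := zpowers_le.2 h.aR hu
  have iu : i ^ 2 * u * (i ^ 2)⁻¹ = u⁻¹ := by
    obtain ⟨k, rfl⟩ := hu
    simp only [← conj_zpow, h.inv, _root_.inv_zpow]
  have e2 : σ * b * σ⁻¹ = u⁻¹ * b * u⁻¹ := by
    have k1 : (u⁻¹ * b * u⁻¹)⁻¹ * (σ * b * σ⁻¹) ∈ Z(R) := by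
      have c1 := FT.mem_cen.1 (cm _ (inv_mem bR) u uR).2 u uR
      have c2 := FT.mem_cen.1 hw.2 u uR
      have : (u⁻¹ * b * u⁻¹)⁻¹ * (σ * b * σ⁻¹) = ⁅b⁻¹, u⁆ * w * u ^ 3 := by
        calc _ = u * ⁅b⁻¹, u⁆ * u * (b⁻¹ * (σ * b * σ⁻¹)) := by rw [commutatorElement_def]; group
          _ = ⁅b⁻¹, u⁆ * u * (u * w) * u := by rw [e, c1]; group
          _ = ⁅b⁻¹, u⁆ * (u * w) * u * u := by nth_rw 1 [c2]; simp only [mul_assoc]
          _ = _ := by rw [c2, pow_three']; simp only [mul_assoc]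
      rw [this, he u uR, mul_one]; exact mul_mem (cm _ (inv_mem bR) u uR) hw
    have k2 := mul_inv_eq_iff_eq_mul.2 (FT.mem_cen.1 tZ _ k1).symm
    have k3 := FT.mem_cen.1 k1.2 _ (conj_mem (nR σ) bR)
    have k4 := he _ k1.1
    have k5 : i ^ 2 * (σ * b * σ⁻¹) * (i ^ 2)⁻¹ = (σ * b * σ⁻¹)⁻¹ := by
      rw [conj_inv, ← hb]
      calc _ = i ^ 2 * σ * b * (i ^ 2 * σ)⁻¹ := by group
        _ = _ := by rw [← h.st.eq]; group
    have k6 : i ^ 2 * (u⁻¹ * b * u⁻¹) * (i ^ 2)⁻¹ = (u⁻¹ * b * u⁻¹)⁻¹ := by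
      rw [← conj_mul, ← conj_mul, ← conj_inv (b := i ^ 2), iu, hb]; group
    rw [← conj_mul, ← conj_inv (b := i ^ 2), k5, k6, inv_inv] at k2
    generalize σ * b * σ⁻¹ = y at k2 k3 k4
    generalize u⁻¹ * b * u⁻¹ = x at k2 k3 k4
    have k7 : x⁻¹ * y * (x⁻¹ * y) = 1 := by
      calc _ = y⁻¹ * (y * (x⁻¹ * y)) * y⁻¹ * y * (x⁻¹ * y) := by group
        _ = y⁻¹ * (x⁻¹ * y) * y * (x⁻¹ * y) := by rw [k3]; group
        _ = _ := by nth_rw 1 [← k2]; group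
    rw [pow_three', k7, one_mul, inv_mul_eq_one] at k4
    exact k4.symm
  rcases mem_three (he a h.aR) hu with rfl | rfl | rfl
  · refine absurd (hc ?_) h.sR
    rw [← sup, cen_sup, cen_zpowers]
    exact ⟨h.sa, mem_cen1.2 (mul_inv_eq_iff_eq_mul.1 (by simpa using e2))⟩
  · exact ⟨σ, h, e2⟩
  · refine ⟨σ⁻¹, h.inv', ?_⟩
    calc _ = σ⁻¹ * (a⁻¹ * (σ * b * σ⁻¹) * a⁻¹) * σ := by rw [e2]; group
      _ = _ := by nth_rw 1 2 [← sa]; group

theorem Gen.rel [R.Normal] (h : Gen π R a i σ) (hk : π.ker = R) (he : ∀ r ∈ R, r ^ 3 = 1) (hx : H3.XS 3 R z)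
    (e : σ * (i * a * i⁻¹) * σ⁻¹ = a⁻¹ * (i * a * i⁻¹) * a⁻¹) : Z(R) = ⟪⁅a, i * a * i⁻¹⁆⟫ ∧
    c7.rel fun k => [⁅a, i * a * i⁻¹⁆, a, i * a * i⁻¹, i ^ 2, i, σ * i * σ⁻¹, σ].getD k 1 := by
  have nR : ∀ x : G, x ∈ N(R) := fun x => (normalizer_eq_top R).ge (mem_top x)
  have hb : i * (i * a * i⁻¹) * i⁻¹ = a⁻¹ := by rw [← h.inv, sq]; group
  have bR := conj_mem (nR i) h.aR
  have nb := h.nb
  have s3 := sl_three (π σ) (by rw [← map_pow, h.s3, map_one]) fun e => h.sR (hk ▸ e)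
  obtain ⟨b, ia⟩ : ∃ b, i * a * i⁻¹ = b := ⟨_, rfl⟩
  rw [ia] at e hb bR nb ⊢
  have cZ : ⁅a, b⁆ ∈ Z(R) := hx.center ▸ hx.comm a h.aR b bR
  have eZ : Z(R) = ⟪⁅a, b⁆⟫ := eq_zpowers_of_prime (hx.card_center ▸ Nat.prime_three) cZ fun e => nb (h.mx ⟨bR, by
    rw [cen_sup, cen_zpowers]
    exact ⟨le_cen1.1 (center_le_cen (zpowers_le.2 bR) |>.trans (cen_zpowers _).le),
      mem_cen1.2 (commutatorElement_eq_one_iff_mul_comm.1 e).symm⟩⟩)
  have q : ∀ x ∈ R, x⁻¹ = x * x := fun x hx => inv_eq_of_mul_eq_one_left ((pow_three' x).symm.trans (he x hx))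
  have rC : R ≤ C(Z(R)) := centsC inf_le_right
  have fx : ∀ g ∈ C(Z(R)), g * ⁅a, b⁆ * g⁻¹ = ⁅a, b⁆ := fun g hg => mul_inv_eq_iff_eq_mul.2 (FT.mem_cen.1 hg _ cZ).symm
  have iC : i ∈ C(Z(R)) := by
    rw [eZ, cen_zpowers, mem_cen1, ← mul_inv_eq_iff_eq_mul, conjugate_commutatorElement, ia, hb,
      ← fx _ (rC (inv_mem h.aR)), commutatorElement_def, commutatorElement_def]
    group
  have sC : σ ∈ C(Z(R)) := cen_anti le_sup_left h.sa
  have jC : σ * i * σ⁻¹ ∈ C(Z(R)) := mul_mem (mul_mem sC iC) (inv_mem sC)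
  have sa : σ * a * σ⁻¹ = a := mul_inv_eq_iff_eq_mul.2 (FT.mem_cen.1 h.sa a (mem_sup_right (mem_zpowers a))).symm
  have st : σ * i ^ 2 * σ⁻¹ = i ^ 2 := mul_inv_eq_iff_eq_mul.2 h.st
  have j2 : (σ * i * σ⁻¹) ^ 2 = i ^ 2 := by rw [conj_pow, st]
  have ja : σ * i * σ⁻¹ * a * (σ * i * σ⁻¹)⁻¹ = a⁻¹ * b * a⁻¹ := by
    rw [← e, ← ia]; nth_rw 1 [← sa]; group
  have jb : σ * i * σ⁻¹ * b * (σ * i * σ⁻¹)⁻¹ = a⁻¹ * b * b * a⁻¹ := by
    have e1 : b = σ * (a * b * a) * σ⁻¹ := by rw [← conj_mul, ← conj_mul, e, sa]; group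
    calc _ = σ * (i * (a * b * a) * i⁻¹) * σ⁻¹ := by nth_rw 1 [e1]; group
      _ = _ := by
        rw [← conj_mul (b := i), ← conj_mul (b := i), ia, hb, ← conj_mul, ← conj_mul, ← conj_inv (b := σ), e, sa]
        calc _ = a⁻¹ * b * (a ^ 3)⁻¹ * b * a⁻¹ := by group
          _ = _ := by rw [he a h.aR]; group
  have u : ∀ x y : G, π x = π y → x ∈ C[i ^ 2] → y ∈ C[i ^ 2] → x ∈ C(Z(R)) → x ^ 4 = 1 → y ^ 4 = 1 → x = y :=
    fun x y e a b c d f => by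
      have w : x⁻¹ * y ∈ Z(R) := h.cen ⟨hk ▸ (show π _ = 1 by rw [map_mul, map_inv, e, inv_mul_cancel]), C[i ^ 2].mul_mem (inv_mem a) b⟩
      have c' : Commute x (x⁻¹ * y) := (FT.mem_cen.1 c _ w).symm
      have := c'.mul_pow 4
      rw [mul_inv_cancel_left, d, f, one_mul, pow_succ, he _ w.1, one_mul, eq_comm, inv_mul_eq_one] at this
      exact this
  have it : i ∈ C[i ^ 2] := mem_cen1.2 (by group)
  have sT : σ ∈ C[i ^ 2] := mem_cen1.2 h.st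
  have jt : σ * i * σ⁻¹ ∈ C[i ^ 2] := mul_mem (mul_mem sT it) (inv_mem sT)
  have ji : σ * i * σ⁻¹ * i * (σ * i * σ⁻¹)⁻¹ = i ^ 2 * i :=
    u _ _ (by simp only [map_mul, map_inv, map_pow, h.pi]; exact s3.1) (mul_mem (mul_mem jt it) (inv_mem jt))
      (mul_mem (pow_mem it 2) it) (mul_mem (mul_mem jC iC) (inv_mem jC)) (by rw [conj_pow, h.i4]; group)
      (by rw [← pow_succ, ← pow_mul, mul_comm, pow_mul, h.i4, one_pow])
  have pj : π (σ * i * σ⁻¹) = π σ * i0 * (π σ)⁻¹ := by simp only [map_mul, map_inv, h.pi]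
  have j4 : (σ * i * σ⁻¹) ^ 4 = 1 := by rw [conj_pow, h.i4]; group
  obtain ⟨j, σi⟩ : ∃ j, σ * i * σ⁻¹ = j := ⟨_, rfl⟩
  rw [σi] at jC j2 ja jb jt ji pj j4 ⊢
  have ij : (i * j) ^ 4 = 1 := by
    have : (i * j) ^ 2 = i ^ 2 := by
      calc _ = i * (j * i * j⁻¹) * j ^ 2 := by rw [sq, sq]; group
        _ = i ^ 4 * i ^ 2 := by rw [ji, j2]; group
        _ = _ := by rw [h.i4, one_mul]
    rw [show 4 = 2 * 2 from rfl, pow_mul, this, ← pow_mul, h.i4]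
  have σj : σ * j * σ⁻¹ = i * j := by
    have u' := fun y e b => u (σ * j * σ⁻¹) y e (mul_mem (mul_mem sT jt) (inv_mem sT)) b (mul_mem (mul_mem sC jC) (inv_mem sC))
      (by rw [conj_pow, j4]; group)
    rcases s3.2.1 with e' | e'
    · exact u' _ (by simp only [map_mul, map_inv, h.pi, pj]; exact e') (mul_mem it jt) ij
    have e1 := u' (j * i) (by simp only [map_mul, map_inv, h.pi, pj]; exact e') (mul_mem jt it)
      (by rw [show j * i = j * (i * j) * j⁻¹ by group, conj_pow, ij]; group)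
    have e2 : a⁻¹ * (a⁻¹ * b * a⁻¹) * a⁻¹ = a⁻¹ * b * b * a⁻¹ := by
      calc _ = σ * (j * a * j⁻¹) * σ⁻¹ := by rw [ja, ← conj_mul, ← conj_mul, ← conj_inv (b := σ), e, sa]
        _ = σ * j * σ⁻¹ * (σ * a * σ⁻¹) * (σ * j * σ⁻¹)⁻¹ := by group
        _ = _ := by rw [e1, sa, ← jb, ← ia]; group
    refine absurd ?_ nb
    have m1 : a ∈ Z(R) ⊔ ⟪a⟫ := mem_sup_right (mem_zpowers a)
    have := mul_mem (inv_mem (conj_mem' ((hx.nrm (sup_le inf_le_left (zpowers_le.2 h.aR))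
      (mem_sup_left (hx.center.ge (mem_zpowers z)))) bR) m1)) (inv_mem m1)
    rwa [show (b⁻¹ * a * b)⁻¹ * a⁻¹ = b⁻¹ * a * (a⁻¹ * (a⁻¹ * b * a⁻¹) * a⁻¹) * a by group, e2,
      show b⁻¹ * a * (a⁻¹ * b * b * a⁻¹) * a = b by group] at this
  have ta := h.inv
  have tb : i ^ 2 * b * (i ^ 2)⁻¹ = b⁻¹ := by rw [← ia, conj_inv, ← h.inv]; group
  have ba : b * a * b⁻¹ = ⁅a, b⁆ * (⁅a, b⁆ * a) := by
    rw [← mul_assoc, ← q _ cZ.1, commutatorElement_def]; group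
  rw [q a h.aR] at e ja jb hb ta
  rw [q b bR] at tb
  refine ⟨eZ, fun m hm => ?_⟩
  change m < 7 at hm
  interval_cases m <;> refine ⟨?_, fun k hk => ?_⟩ <;> try interval_cases k
  all_goals simp only [c7, ev, List.getD_cons_zero, List.getD_cons_succ, List.map_cons, List.map_nil, List.prod_cons,
    List.prod_nil, mul_one]
  all_goals try refine mul_inv_eq_iff_eq_mul.1 ?_
  exacts [he _ cZ.1, he a h.aR, fx a (rC h.aR), he b bR, fx b (rC bR), ba, by rw [← pow_mul, h.i4], fx _ (pow_mem iC 2), ta, tb,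
    fx i iC, ia, hb, by group, j2, fx j jC, by rw [ja]; simp only [mul_assoc], by rw [jb]; simp only [mul_assoc],
    mul_inv_eq_iff_eq_mul.2 (mem_cen1.1 jt), ji, h.s3, fx σ sC, sa, by rw [e]; simp only [mul_assoc], st, σi, σj]

theorem main [R.Normal] (hk : π.ker = R) (hs : Function.Surjective π) (he : ∀ r ∈ R, r ^ 3 = 1) (hO : pCore 2 G = ⊥)
    (hx : H3.XS 3 R z) (h27 : #R = 27) (hE : Abelem 3 E) (cE : #E = 27) (F : Type*) [Field F] [Fintype F]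
    (hF : Fintype.card F = 3) : ∃ (c : PSp 2 F) (S : Sylow 3 (PSp 2 F)), orderOf c = 3 ∧ c ∈ (S : Subgroup (PSp 2 F)) ∧
      c ∈ C((S : Subgroup (PSp 2 F))) ∧ Nonempty (G ≃* C[c]) := by
  have hc := cen_le hk hs he hO
  obtain ⟨a, i, σ', h'⟩ := exists_gen hk hs he hc hx h27 hE cE
  obtain ⟨σ, h, e⟩ := h'.act he hc hx
  obtain ⟨eZ, r⟩ := h.rel hk he hx e
  set g := fun k => [⁅a, i * a * i⁻¹⁆, a, i * a * i⁻¹, i ^ 2, i, σ * i * σ⁻¹, σ].getD k 1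
  change _ = ⟪g 0⟫ at eZ
  have m : ∀ k < 7, g k ∈ Kc g 7 := fun k => mem_Kc
  have top : ∀ x, x ∈ Kc g 7 := fun x => by
    have hR : R ≤ Kc g 7 := by
      rw [← h.sup, eZ]
      exact sup_le (sup_le (zpowers_le.2 (m 0 (by omega))) (zpowers_le.2 (m 1 (by omega)))) (zpowers_le.2 (m 2 (by omega)))
    obtain ⟨u, v, w, e⟩ := (sl_three (π σ) (by rw [← map_pow, h.s3, map_one]) fun e => h.sR (hk ▸ e)).2.2 (π x)
    have k := mul_mem (mul_mem (pow_mem (m 4 (by omega)) u.1) (pow_mem (m 5 (by omega)) v.1)) (pow_mem (m 6 (by omega)) w.1)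
    refine ((Kc g 7).mul_mem_cancel_left (inv_mem k)).1 (hR (hk ▸ (show π _ = 1 from ?_)))
    rw [map_mul, map_inv, inv_mul_eq_one, e]
    simp [g, h.pi]
  have cG : Nat.card G = 648 := by
    rw [← card_mul_index π.ker, index_ker, hk, h27, MonoidHom.range_eq_top.2 hs, card_top, Nat.card_eq_fintype_card]
    decide +kernel
  have cen : ∀ x, x ∈ C[g 0] := fun x => (show Kc g 7 ≤ _ from Kc_le.2 fun k hk => mem_cen1.2 (by
    rcases k with _ | k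
    · rfl
    rw [(r _ hk).2 0 (by omega)]
    congr 1
    have : k < 6 := by omega
    interval_cases k <;> exact mul_one _)) (top x)
  obtain ⟨φ0, h0⟩ := c7.exists_hom ok7 r ((PCd.relR.of_map (g := gP) (symplecticGroup (Fin 2) (ZMod 3)).subtype relP).map
    (QuotientGroup.mk' (center _)) fun a b h => congrArg _ (Subtype.ext h))
    (by rw [show Kc g c7.n = ⊤ from eq_top_iff.2 fun x _ => top x, card_top, cG]; decide)
  obtain ⟨e0⟩ := H10.nonempty_ringEquiv_zmod (K := F) 3 (Nat.card_eq_fintype_card.trans hF)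
  let ε : PSp 2 (ZMod 3) ≃* PSp 2 F := H10.quotientCenterCongr (H10.spCongr e0.symm)
  let φ : G →* PSp 2 F := ε.toMonoidHom.comp (φ0.comp ((MonoidHom.id G).codRestrict _ top))
  have φc : φ (g 0) = ε (QuotientGroup.mk' (center _) (gP 0)) := congrArg ε (h0 0 (by decide))
  have n1 : φ (g 0) ≠ 1 := fun e => by
    rw [φc, EmbeddingLike.map_eq_one_iff] at e
    have := congrArg Subtype.val (mem_center_iff.1 ((QuotientGroup.eq_one_iff _).1 e) ⟨_, SymplecticGroup.J_mem _ _⟩)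
    exact absurd this (by decide +kernel : J (Fin 2) (ZMod 3) * mP 0 ≠ mP 0 * J _ _)
  have gZ : g 0 ∈ Z(R) := eZ ▸ mem_zpowers _
  have inj : Function.Injective φ := by
    have k1 : φ.ker ⊓ R = ⊥ := by
      by_contra e
      obtain ⟨⟨x, hx1, hx2⟩, hx3⟩ := ne_bot_iff_exists_ne_one.1 (hx.pGrp.nil.meet_center
        (H := φ.ker ⊓ R) ⟨inf_le_right, le_top.trans (normalizer_eq_top _).ge⟩ e)
      have := eq_zpowers_of_prime (hx.card_center ▸ Nat.prime_three) hx2 fun e => hx3 (Subtype.ext e)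
      exact n1 (zpowers_le.2 hx1.1 (this ▸ gZ))
    rw [← MonoidHom.ker_eq_bot_iff, ← k1, eq_comm, inf_eq_left]
    exact (commutator_eq_bot_iff_le_centralizer.1 (le_bot_iff.1 (k1 ▸ commutator_le_inf _ _))).trans hc
  have o3 : orderOf (g 0) = 3 := by rw [← card_zpowers', ← eZ, hx.card_center]
  have le : φ.range ≤ C[φ (g 0)] := by
    rintro _ ⟨x, rfl⟩
    rw [mem_cen1, ← map_mul, ← map_mul, mem_cen1.1 (cen x)]
  have cr : #φ.range = 648 := by rw [← cG]; exact (Nat.card_congr (φ.ofInjective inj).toEquiv).symm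
  have eq : φ.range = C[φ (g 0)] := eq_of_card_le le (by
    rw [cr]
    exact le_trans (Nat.card_le_card_of_injective (fun y => ⟨ε.symm y.1, mem_cen1.2 (ε.injective (by
      simp only [map_mul, MulEquiv.apply_symm_apply, ← φc]; exact mem_cen1.1 y.2))⟩)
      fun y y' e => Subtype.ext (ε.symm.injective (congrArg Subtype.val e))) card_cen)
  obtain ⟨P, hP⟩ := (IsPGroup.of_card (p := 3) (n := 1) ((card_zpowers' _).trans o3)).exists_le_sylow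
  obtain ⟨S, hS⟩ := (P.isPGroup'.map φ).exists_le_sylow
  have eS : P.1.map φ = S := eq_of_card_le hS (by
    rw [card_map_of_injective inj, H10.card_sylow_of_card_eq (k := 4) P (m := 8) cG (by norm_num),
      H10.card_sylow_of_card_eq (k := 4) S (m := 320) (P8.card_psp hF) (by norm_num)])
  refine ⟨φ (g 0), S, by rw [orderOf_injective φ inj, o3], hS (mem_map_of_mem φ (hP (mem_zpowers _))), ?_,
    ⟨(φ.ofInjective inj).trans (MulEquiv.subgroupCongr eq)⟩⟩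
  rw [← eS]
  exact le_cen1.1 ((map_le_range _ _).trans le)

end H648

end Cfsg.Agent.GO
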