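import Cfsg.Agent.GO.A5x
import Cfsg.Agent.H3.SzT

/-! Two-groups with an involutory automorphism whose fixed points are permuted transitively by a cyclic group. -/

set_option autoImplicit false
set_option linter.unusedSectionVars false
set_option linter.unusedVariables false

namespace Cfsg.Agent.GO

open Cfsg Subgroup Cfsg.Agent.FT Cfsg.Agent.GW
open scoped commutatorElement

universe u

variable {G : Type u} [Group G] [Finite G] {D : Set G} {p : ℕ}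
  {A B E H J K L M P Q R S T U V W X Y Z : Subgroup G} {a b d e g r s t v w x y z : G}


open H3 H3.SzF

namespace Ht

variable {F : Type*} [Field F] [Fintype F] [CharP F 2] {χ c c₀ c₁ c₂ : G → F} {k : G} {l : ℕ}

/-- the twisted commutator -/
def dl (t x : G) : G := x⁻¹ * (t * x * t⁻¹)

theorem dl_mul : dl t (x * y) = y⁻¹ * dl t x * y * dl t y := by simp only [dl]; group

theorem dl_eq (h : dl t x = dl t y) : x * y⁻¹ ∈ C[t] := mem_cen1.2 (by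
  have : t * x * t⁻¹ = x * dl t y := by rw [← h, dl]; group
  calc _ = x * dl t y * t * y⁻¹ := by rw [dl]; group
    _ = _ := by rw [← this]; group)

/-- the hypotheses -/
structure Hy (S V K : Subgroup G) (t : G) : Prop where
  pS : PGrp 2 S
  tN : t ∈ N(S)
  t2 : t ^ 2 = 1
  KN : K ≤ N(S)
  tK : K ≤ C[t]
  eV : S ⊓ C[t] = V
  sz : H3.Sz V K
  el : ∀ v ∈ V, v * v = 1

namespace Hy

variable (h : Hy S V K t)
include h

theorem dl_mem (hx : x ∈ S) : dl t x ∈ S := mul_mem (inv_mem hx) (conj_mem h.tN hx)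

theorem dl_inv (x : G) : t * dl t x * t⁻¹ = (dl t x)⁻¹ := by
  calc _ = (t * x * t⁻¹)⁻¹ * (t ^ 2 * x * (t ^ 2)⁻¹) := by rw [dl, sq]; group
    _ = _ := by rw [h.t2, dl]; group

theorem dl_conj (hk : k ∈ K) (x : G) : dl t (k * x * k⁻¹) = k * dl t x * k⁻¹ := by
  calc _ = k * x⁻¹ * k⁻¹ * (k * t) * x * (k * t)⁻¹ := by rw [dl, mem_cen1.1 (h.tK hk)]; group
    _ = _ := by rw [dl]; group

theorem le : V ≤ S := h.eV.ge.trans inf_le_left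

theorem fix (hY : ¬ S ≤ Y) : ∃ x ∈ S, x ∉ Y ∧ dl t x ∈ Y ∧ ∀ s ∈ S, ⁅x, s⁆ ∈ Y := by
  have hP : PGrp 2 (S ⊔ ⟪t⟫) := h.pS.sup ((abelem_zpowers h.t2).pGrp Nat.prime_two) (zpowers_le.2 h.tN)
  obtain ⟨x, hx, h1, h2⟩ := hP.nil.exists_comm_mem (H := S) ⟨le_sup_left, sup_le (le_nrm S) (zpowers_le.2 h.tN)⟩ hY
  refine ⟨x⁻¹, inv_mem hx, by rwa [inv_mem_iff], ?_, fun s hs => ?_⟩
  · rw [dl, inv_inv, ← mul_assoc, ← mul_assoc]; exact (h2 t (mem_sup_right (mem_zpowers t))).1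
  · rw [show ⁅x⁻¹, s⁆ = ⁅x, x⁻¹ * s * x⁆⁻¹ by simp only [commutatorElement_def]; group]
    exact inv_mem (h2 _ (mem_sup_left (mul_mem (mul_mem (inv_mem hx) hs) hx))).1

theorem Om : Ω[2](V) = V := le_antisymm (Ohm_le 2 V) fun v hv => h.sz.mem_O.2 ⟨hv, h.el v hv⟩

theorem cen : V ≤ C(S) := by
  obtain ⟨x, hx, h1, h2, h3⟩ := h.fix (Y := ⊥) fun e => h.sz.ne_bot (le_bot_iff.1 (h.le.trans e))
  refine (h.Om.ge.trans (h.sz.O_le (W := V ⊓ C(S)) inf_le_left (normsI h.sz.nrm (norms_cent h.KN)) (ne_bot_of_mem (x := x)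
    ⟨h.eV.le ⟨hx, ?_⟩, FT.mem_cen.2 fun s hs => (commutatorElement_eq_one_iff_mul_comm.1 (h3 s hs)).symm⟩ h1))).trans inf_le_right
  simpa using dl_eq (t := t) (x := x) (y := 1) (by rw [mem_bot.1 h2, dl]; group)

theorem sz_of (hV : V ≤ A) (hA : A ≤ S) (hK : K ≤ N(A)) (hi : ∀ a ∈ A, t * a * t⁻¹ = a⁻¹) : H3.Sz A K ∧ Ω[2](A) = V := by
  have m : ∀ a ∈ A, a * a = 1 → a ∈ V := fun a ha e => h.eV.le ⟨hA ha, mem_cen1.2 (by
    rw [eq_comm, ← mul_inv_eq_iff_eq_mul, hi a ha, inv_eq_of_mul_eq_one_left e])⟩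
  have s : H3.Sz A K := ⟨h.pS.mono hA, h.sz.cyc, hK, by
    obtain ⟨x, hx, y, hy, e⟩ := h.sz.two
    exact ⟨x, hV hx, y, hV hy, e⟩, fun x hx y hy a b c d => h.sz.tr x (m x hx b) y (m y hy d) a b c d,
    fun k hk x hx a b => h.sz.fpf k hk x (m x hx b) a b⟩
  exact ⟨s, le_antisymm (fun x hx => m x (s.mem_O.1 hx).1 (s.mem_O.1 hx).2) fun v hv => s.mem_O.2 ⟨hV hv, h.el v hv⟩⟩

theorem inverts (hV : V ≤ A) (hA : A ≤ S) (ab : Ab A) (hK : K ≤ N(A)) (ht : t ∈ N(A)) (hx : x ∈ S) (h1 : x ∉ A) (h2 : dl t x ∈ A) :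
    ∀ a ∈ A, t * a * t⁻¹ = a⁻¹ := by
  let I : Subgroup G := ⟨⟨⟨{a | a ∈ A ∧ t * a * t⁻¹ = a⁻¹}, fun {a b} ha hb => ⟨mul_mem ha.1 hb.1, by
    rw [← conj_mul, ha.2, hb.2, ← mul_inv_rev, ab.comm ha.1 hb.1]⟩⟩, one_mem _, by group⟩,
    fun {a} ha => ⟨inv_mem ha.1, by rw [← conj_inv, ha.2]⟩⟩
  have m : ∀ a ∈ A, dl t a ∈ A := fun a ha => mul_mem (inv_mem ha) (conj_mem ht ha)
  let J : Subgroup G := ⟨⟨⟨{b | ∃ a ∈ A, b = dl t a}, by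
    rintro _ _ ⟨a, ha, rfl⟩ ⟨b, hb, rfl⟩
    exact ⟨a * b, mul_mem ha hb, by rw [dl_mul, ab.comm (inv_mem hb) (m a ha), inv_mul_cancel_right]⟩⟩, 1, one_mem _, by simp [dl]⟩, by
    rintro _ ⟨a, ha, rfl⟩
    exact ⟨t * a * t⁻¹, conj_mem ht ha, by rw [← h.dl_inv, dl, dl]; group⟩⟩
  have VI : V ≤ I := fun v hv => ⟨hV hv, by
    rw [← mem_cen1.1 (h.eV.ge hv).2, mul_inv_cancel_right, inv_eq_of_mul_eq_one_left (h.el v hv)]⟩
  have KI : K ≤ N(I) := le_nrm_iff.2 fun k hk a ha => ⟨conj_mem (hK hk) ha.1, by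
    rw [conj_inv, ← ha.2]
    calc _ = t * k * a * (t * k)⁻¹ := by group
      _ = _ := by rw [← mem_cen1.1 (h.tK hk)]; group⟩
  have IA' : I ≤ A := fun a ha => ha.1
  obtain ⟨s, -⟩ := h.sz_of VI (IA'.trans hA) KI fun a ha => ha.2
  rcases s.le_mho_or ⟨le_rfl, ab.mono IA', KI⟩ (W := J) (by rintro _ ⟨a, ha, rfl⟩; exact ⟨m a ha, h.dl_inv a⟩)
    (le_nrm_iff.2 (by rintro k hk _ ⟨a, ha, rfl⟩; exact ⟨_, conj_mem (hK hk) ha, (h.dl_conj hk a).symm⟩)) with e | e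
  · intro a ha
    obtain ⟨i, hi, e'⟩ := (ab.mono IA').mem_Mho_iff.1 (e ⟨a, ha, rfl⟩)
    have := VI (h.eV.le ⟨S.mul_mem (hA ha) (inv_mem (inv_mem (hA hi.1))), dl_eq (y := i⁻¹) (by
      rw [e', dl, ← conj_inv, hi.2, inv_inv, sq])⟩)
    exact ((I.mul_mem_cancel_right (inv_mem (inv_mem hi))).1 this).2
  · obtain ⟨a, ha, e'⟩ := e.ge (show dl t x ∈ I from ⟨h2, h.dl_inv x⟩)
    exact absurd ((A.mul_mem_cancel_right (inv_mem ha)).1 (hV (h.eV.le ⟨S.mul_mem hx (inv_mem (hA ha)), dl_eq e'⟩))) h1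

theorem core (hna : ¬ Ab S) (hF : Fintype.card F = #K + 1) : ∃ (A : Subgroup G) (χ c₀ c₂ : G → F), Co K V ⊥ χ c₀ ∧
    Co K A V χ (fun x => c₀ (x * x)) ∧ Co K S A χ c₂ ∧ ∀ x ∈ S, x * x ∈ V := by
  have nV : V ⊴ S := ⟨h.le, (centsC h.cen).trans (cen_le_nrm V)⟩
  obtain ⟨A, hV, ⟨ab, nA, hK, ht⟩, mx⟩ := exists_max (A := V) (fun A => Ab A ∧ A ⊴ S ∧ K ≤ N(A) ∧ t ∈ N(A))
    ⟨ab_iff.2 (h.cen.trans (cen_anti h.le)), nV, h.sz.nrm, cen_le_nrm V (le_cen1.1 (h.eV.ge.trans inf_le_right))⟩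
  obtain ⟨x₀, hx₀, n₀, d₀, m₀⟩ := h.fix (Y := A) fun e => hna (ab.mono e)
  have hi := h.inverts hV nA.le ab hK ht hx₀ n₀ d₀
  obtain ⟨s, eO⟩ := h.sz_of hV nA.le hK hi
  have iA : IA A K A := ⟨le_rfl, ab, hK⟩
  obtain ⟨e, he⟩ := exists_ex s.pS s.ne_bot
  obtain ⟨χ, c₀, h0⟩ := s.exists_co_O hF
  have h1 := s.co_ab h0 iA he
  have lem : ∀ D Y, D ≤ A → K ≤ N(D) → D ≠ ⊥ → Y ≤ S → K ≤ N(Y) → Y ≤ N(D) → ∀ u ∈ Y, ∀ w ∈ D, ⁅u, w⁆ ∈ ℧[2](D) :=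
    fun D Y a b c d e f u hu w hw => comm_swap_mem ((s.le_mho_or ⟨a, ab.mono a, b⟩ (comm_le_left f) (normsR b e)).resolve_right
      (h.pS.nil.comm_lt (a.trans nA.le) d f c).ne (commutator_mem_commutator hw hu))
  have da : ∀ a ∈ A, dl t a = a⁻¹ ^ 2 := fun a ha => by rw [dl, hi a ha, sq]
  have back : ∀ x ∈ S, dl t x ∈ ℧[2](A) → x ∈ A := fun x hx e => by
    obtain ⟨a, ha, e⟩ := ab.mem_Mho_iff.1 e
    exact (A.mul_mem_cancel_right (inv_mem (inv_mem ha))).1 (hV (h.eV.le ⟨S.mul_mem hx (inv_mem (inv_mem (nA.le ha))),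
      dl_eq (by rw [e, da _ (inv_mem ha), inv_inv])⟩))
  let X : Subgroup G := ⟨⟨⟨{x | x ∈ S ∧ dl t x ∈ A}, fun {a b} ha hb => ⟨mul_mem ha.1 hb.1, by
    rw [dl_mul]; exact mul_mem (conj_mem' (nA.nrm hb.1) ha.2) hb.2⟩⟩, one_mem _, by simp [dl]⟩,
    fun {a} ha => ⟨inv_mem ha.1, by
      rw [show dl t a⁻¹ = a * (dl t a)⁻¹ * a⁻¹ by simp only [dl]; group]; exact conj_mem (nA.nrm ha.1) (inv_mem ha.2)⟩⟩
  have XS : X ≤ S := fun x hx => hx.1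
  have AX : A ≤ X := fun a ha => ⟨nA.le ha, da a ha ▸ pow_mem (inv_mem ha) 2⟩
  have KX : K ≤ N(X) := le_nrm_iff.2 fun k hk x hx => ⟨conj_mem (h.KN hk) hx.1, h.dl_conj hk x ▸ conj_mem (hK hk) hx.2⟩
  have h2 : Co K X A χ fun x => c₀ (dl t x ^ 2 ^ e) := ⟨AX, KX, fun x hx y hy => by
      rw [dl_mul, h1.add _ (conj_mem' (nA.nrm hy.1) hx.2) _ hy.2]
      have := h1.conj_of (u := y⁻¹) (lem A S le_rfl hK s.ne_bot le_rfl h.KN nA.nrm _ (inv_mem hy.1) _ hx.2) hx.2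
      rw [inv_inv] at this; rw [this],
    fun x hx => (h1.ker _ hx.2).trans ⟨back x hx.1, fun ha => da x ha ▸ pow_mem_Mho 2 (inv_mem ha)⟩, fun a => by
      by_cases a0 : a = 0
      · exact ⟨1, one_mem _, by simp [dl, a0, h0.one]⟩
      have n := mt (h1.ker _ d₀).1 fun e => n₀ (back _ hx₀ e)
      obtain ⟨k, hk, ek⟩ := h0.ch.surj _ (div_ne_zero a0 n)
      exact ⟨_, conj_mem (KX hk) ⟨hx₀, d₀⟩, by rw [h.dl_conj hk, h1.act k hk _ d₀, ek, div_mul_cancel₀ _ n]⟩,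
    fun k hk x hx => by rw [h.dl_conj hk, h1.act k hk _ hx.2], h0.ch⟩
  have cX : ⁅X, S⁆ ≤ A := by
    have : X ⊓ qpre(A, C(S /ₛ A)) = X := h2.irr (lt_of_le_of_ne (le_inf AX (le_qpre _)) fun e => n₀ (e.ge ⟨⟨hx₀, d₀⟩,
      (mem_qpre_cen nA.nrm).2 ⟨nA.nrm hx₀, by
        rw [commC, comm_zpowers_le_iff (nA.nrm hx₀)]; exact fun s hs => comm_swap_mem (m₀ s hs)⟩⟩)) inf_le_left
      (normsI KX (norms_cq h.KN hK))
    exact ((le_qpre_cen nA.nrm).1 (this.ge.trans inf_le_right)).2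
  have nX : X ⊴ S := ⟨XS, norms_of_comm_le (cX.trans AX)⟩
  have tX : t ∈ N(X) := FT.mem_nrm.2 fun x hx => ⟨conj_mem h.tN hx.1, by
    rw [show dl t (t * x * t⁻¹) = t * dl t x * t⁻¹ by simp only [dl]; group]; exact conj_mem ht hx.2⟩
  have naX : ¬ Ab X := fun e => n₀ ((mx X ⟨e, nX, KX, tX⟩ AX).le ⟨hx₀, d₀⟩)
  have nz : ∀ {X₁ X₂ : Subgroup G} {c c₁ c₂ : G → F} {B : F → F → F}, Co K ⁅X₁, X₂⁆ ℧[2](⁅X₁, X₂⁆) χ c →
      (∀ x ∈ X₁, ∀ y ∈ X₂, B (c₁ x) (c₂ y) = c ⁅x, y⁆) → ∃ a b, B a b ≠ 0 := fun hD hB => by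
    by_contra! e
    exact hD.lt.not_ge (commutator_le.2 fun x hx y hy => (hD.ker _ (commutator_mem_commutator hx hy)).1 (by rw [← hB x hx y hy, e]))
  have D0 : ⁅X, A⁆ ≠ ⊥ := fun e0 => by
    have cm : ∀ x ∈ X, ∀ a ∈ A, ⁅x, a⁆ = 1 := fun x hx a ha => mem_bot.1 (e0.le (commutator_mem_commutator hx ha))
    have le : ⁅X, X⁆ ≤ A := h2.der_le
    obtain ⟨l, hl⟩ := exists_ex (s.pS.mono le) (mt ab_iff_der.2 naX)
    have hD := s.co_ab h0 ⟨le, ab.mono le, normsR KX KX⟩ hl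
    obtain ⟨B, b0, b1, b2, b3⟩ := hD.desc_comm (S := X) (fun u hu w hw => cm u hu w (le hw) ▸ one_mem _) h2 h2 le_rfl le_rfl
      (fun x hx y hy => commutator_mem_commutator hx hy) (fun x hx y hy => comm_swap_mem (cm y hy x hx ▸ one_mem _))
      fun x hx y hy => cm x hx y hy ▸ one_mem _
    obtain ⟨a, b, n⟩ := nz hD b0
    obtain ⟨σ, τ, ne, e⟩ := alt_supp b1 b2 (fun a => by
      obtain ⟨x, hx, rfl⟩ := h2.surj a
      rw [b0 x hx x hx, commutatorElement_self, hD.one]) h0.ch.onto b3 n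
    exact lin_alt_false h0.ch.onto (ρ := 1) ne (fun _ => rfl) e
  have le : ⁅X, A⁆ ≤ A := comm_le_right (XS.trans nA.nrm)
  obtain ⟨l, hl⟩ := exists_ex (s.pS.mono le) D0
  have hD := s.co_ab h0 ⟨le, ab.mono le, normsR KX hK⟩ hl
  have c2 : ∀ x ∈ S, ∀ a ∈ A, ∀ n, ⁅x, a ^ n⁆ = ⁅x, a⁆ ^ n := fun x hx a ha n =>
    comm_pow_right (ab.comm ha (comm_le_right nA.nrm (commutator_mem_commutator hx ha))) n
  obtain ⟨B, b0, b1, b2, b3⟩ := hD.desc_comm (S := X) (lem _ X le (normsR KX hK) D0 XS KX (normsR (le_nrm X) (XS.trans nA.nrm)))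
    h2 h1 le_rfl AX (fun x hx y hy => commutator_mem_commutator hx hy)
    (fun x hx y hy => commutatorElement_eq_one_iff_mul_comm.2 (ab.comm hx hy) ▸ one_mem _) fun x hx y hy => by
      obtain ⟨a, ha, rfl⟩ := ab.mem_Mho_iff.1 hy
      rw [c2 x hx.1 a ha]; exact pow_mem_Mho 2 (commutator_mem_commutator hx ha)
  obtain ⟨α, β, n⟩ := nz hD b0
  have sq : ∀ x ∈ X, x ∉ A → x * x ∈ ℧[2](A) := fun x hx hn => (h1.ker _ (h2.sq_mem hx)).1 (by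
    by_contra e
    refine bil_nzd b1 b2 h0.ch.onto (h0.ch.exists_ne s) b3 n (mt (h2.ker x hx).1 hn) e ?_
    rw [b0 x hx _ (h2.sq_mem hx), commutatorElement_eq_one_iff_mul_comm.2 (mul_assoc x x x).symm, hD.one])
  have e1 : l + 1 ≤ e := by
    obtain ⟨d, hd, n⟩ := hl.ex
    obtain ⟨a, ha, rfl⟩ := ab.mem_Mho_iff.1 (commutator_le.2 (lem A X le_rfl hK s.ne_bot XS KX (XS.trans nA.nrm)) hd)
    by_contra! f
    obtain ⟨j, rfl⟩ : ∃ j, l = e + j := ⟨l - e, by omega⟩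
    exact n (by rw [← pow_mul, ← pow_succ', add_right_comm, pow_add, pow_mul, he.pw a ha, one_pow])
  obtain rfl : e = l + 1 := by
    by_contra f
    obtain ⟨j, rfl⟩ : ∃ j, e = l + 1 + j + 1 := ⟨e - l - 2, by omega⟩
    obtain ⟨a, ha, ea⟩ := ab.mem_Mho_iff.1 (sq x₀ ⟨hx₀, d₀⟩ n₀)
    have q1 := hi _ (h2.sq_mem ⟨hx₀, d₀⟩)
    have m := commutator_mem_commutator (inv_mem (show x₀ ∈ X from ⟨hx₀, d₀⟩)) d₀
    have q2 : (a⁻¹ ^ 2) ^ 2 = ⁅x₀⁻¹, dl t x₀⁆ * dl t x₀ ^ 2 := by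
      calc _ = (x₀ * x₀)⁻¹ * (x₀ * x₀)⁻¹ := by rw [ea]; group
        _ = _ := by nth_rw 2 [← q1]; simp only [_root_.sq, dl, commutatorElement_def]; group
    have q3 := congrArg (· ^ 2 ^ (l + 1 + j)) q2
    simp only [← pow_mul] at q3
    rw [Commute.mul_pow (ab.comm (le m) (pow_mem d₀ 2)), ← pow_mul, mul_assoc, ← pow_succ', ← pow_succ',
      he.pw _ (inv_mem ha), pow_add 2 (l + 1), pow_mul, hl.pw _ m, one_pow, one_mul] at q3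
    exact n₀ ((h2.ker _ ⟨hx₀, d₀⟩).1 (by rw [← q3, h0.one]))
  obtain rfl : l = 0 := by
    by_contra f
    obtain ⟨j, rfl⟩ : ∃ j, l = j + 1 := ⟨l - 1, by omega⟩
    refine n (idem_zero b1 b2 h0.ch.onto h0.ch.onto (h0.ch.exists_ne s) b3 (fun u v => ?_) _ _)
    obtain ⟨x, hx, rfl⟩ := h2.surj u
    obtain ⟨a, ha, rfl⟩ := h1.surj v
    obtain ⟨b, hb, eb⟩ := ab.mem_Mho_iff.1 (lem A X le_rfl hK s.ne_bot XS KX (XS.trans nA.nrm) x hx a ha)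
    have m := commutator_mem_commutator hx hb
    have m' := commutator_mem_commutator hx ha
    have q1 : (⁅x, b⁆ * ⁅x, a⁆) ^ 2 = 1 := by
      rw [Commute.mul_pow (ab.comm (le m) (le m')), ← c2 x hx.1 b hb, ← eb, _root_.sq, ← comm_sq_left]
      exact commutatorElement_eq_one_iff_mul_comm.2 (ab.comm (h2.sq_mem hx) ha)
    rw [b0 x hx a ha]
    nth_rw 1 [eb]
    rw [← pow_mul, ← pow_succ', b0 x hx b hb]
    refine eq_of_add_eq_zero ?_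
    rw [← hD.add _ m _ m', pow_succ', pow_mul, q1, one_pow, h0.one]
  have eM : ℧[2](A) = V := le_antisymm (Mho_le_iff.2 fun a ha => eO.le (s.mem_O.2 ⟨pow_mem ha 2, by
    rw [← pow_add]; exact he.pw a ha⟩)) (eO.ge.trans (s.O_le (Mho_le 2 A) (norms_Mho 2 hK) (he.mho ab).ne_bot))
  have sq' : ∀ x ∈ X, x * x ∈ V := fun x hx => by
    by_cases e : x ∈ A
    exacts [eM.le (sq_mem_Mho e), eM.le (sq x hx e)]
  have eX : X = S := le_antisymm XS (by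
    by_contra e
    obtain ⟨w, hw, a, b, -⟩ := h.fix e
    exact a ⟨hw, back _ b.1 (by rw [dl, h.dl_inv, eM]; exact sq' _ (inv_mem b))⟩)
  rw [eO] at h0
  rw [eM] at h1
  exact ⟨A, χ, c₀, _, h0, h1.congr (fun _ _ => rfl) fun x _ => by simp [_root_.sq], eX ▸ h2, eX ▸ sq'⟩

end Hy

end Ht

end Cfsg.Agent.GO
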