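import Cfsg.Agent.GO.Ht
import Cfsg.Agent.GO.Pc
import Cfsg.Agent.H18.U34
import Cfsg.Agent.H11.ClassifyQ
import Cfsg.Agent.S0243
import Cfsg.Agent.S0279
import Cfsg.Agent.S0280

/-! Identification of the Sylow 2-subgroups of L3(q) and U3(q), q even. -/

set_option autoImplicit false
set_option linter.unusedSectionVars false
set_option linter.unusedVariables false

namespace Cfsg.Agent.GO

open Cfsg Subgroup Cfsg.Agent.FT Cfsg.Agent.GW
open scoped commutatorElement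

universe u

variable {G : Type u} [Group G] [Finite G] {D : Set G} {p : ℕ}
  {A B E H J K L M P Q R S T U V W X Y Z : Subgroup G} {a b d e g r s t v w x y z : G}


open H3 H3.SzF
open scoped MatrixGroups

namespace Ht

variable {F : Type*} [Field F] [Fintype F] [CharP F 2] {χ c c₀ c₁ c₂ : G → F} {k : G} {l : ℕ}

/-- a central extension of an elementary abelian group by `F` -/
structure CE (S V : Subgroup G) (c₀ : G → F) : Prop where
  cd : Cd V ⊥ c₀
  le : V ≤ S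
  cen : V ≤ C(S)
  sq : ∀ x ∈ S, x * x ∈ V

namespace CE

variable (h : CE S V c₀)
include h

theorem cm (hx : x ∈ V) (hy : y ∈ S) : y * x = x * y := FT.mem_cen.1 (h.cen hx) y hy

theorem sq_add (hx : x ∈ S) (hy : y ∈ S) : c₀ (x * y * (x * y)) = c₀ (x * x) + c₀ (y * y) + c₀ ⁅x, y⁆ := by
  have h1 := comm_mem_of_sq h.sq (inv_mem hx) hy
  have h2 : c₀ ⁅x⁻¹, y⁆ = c₀ ⁅x, y⁆ := by
    have := h.cm (comm_mem_of_sq h.sq hx hy) (inv_mem hx)
    rw [show ⁅x⁻¹, y⁆ = (x⁻¹ * ⁅x, y⁆ * x)⁻¹ by simp only [commutatorElement_def]; group, this, inv_mul_cancel_right,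
      h.cd.inv (comm_mem_of_sq h.sq hx hy), CharTwo.neg_eq]
  rw [mul_sq_eq, h.cd.add _ (mul_mem (h.sq x hx) h1) _ (h.sq y hy), h.cd.add _ (h.sq x hx) _ h1, h2]
  ring

theorem lift (b : G → G → F) (a1 : ∀ x ∈ S, ∀ y ∈ S, ∀ z ∈ S, b (x * y) z = b x z + b y z)
    (a2 : ∀ x ∈ S, ∀ y ∈ S, ∀ z ∈ S, b x (y * z) = b x y + b x z)
    (z1 : ∀ x ∈ V, ∀ y ∈ S, b x y = 0) (z2 : ∀ x ∈ S, ∀ y ∈ V, b x y = 0) (hb : ∀ x ∈ S, b x x = c₀ (x * x)) :
    ∃ d : G → F, (∀ x ∈ S, ∀ y ∈ S, d (x * y) = d x + d y + b x y) ∧ ∀ z ∈ V, d z = c₀ z := by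
  classical
  have hO := h.le
  have hs := h.sq
  obtain ⟨T, hOT, ⟨hTS, d, d1, d2⟩, hmax⟩ := exists_max (A := V) (fun T => T ≤ S ∧
    ∃ d : G → F, (∀ x ∈ T, ∀ y ∈ T, d (x * y) = d x + d y + b x y) ∧ ∀ z ∈ V, d z = c₀ z)
    ⟨hO, c₀, fun x hx y hy => by rw [h.cd.add x hx y hy, z1 x hx y (hO hy), add_zero], fun _ _ => rfl⟩
  by_cases hT : S ≤ T
  · exact ⟨d, fun x hx y hy => d1 x (hT hx) y (hT hy), d2⟩
  exfalso
  obtain ⟨x, hx, hxT⟩ := SetLike.not_le_iff_exists.1 hT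
  have hn : S ≤ N(T) := (nml_of_der_le ((H3.der_le_of_sq hs).trans hOT) hTS).nrm
  have pol : ∀ s ∈ S, ∀ t ∈ S, c₀ ⁅s, t⁆ = b s t + b t s := fun s hs' t ht => by
    have e1 := h.sq_add hs' ht
    rw [← hb _ (mul_mem hs' ht), ← hb s hs', ← hb t ht, a1 s hs' t ht _ (mul_mem hs' ht),
      a2 s hs' s hs' t ht, a2 t ht s hs' t ht] at e1
    linear_combination -e1
  have dz : ∀ z ∈ V, ∀ t ∈ T, d (z * t) = c₀ z + d t := fun z hz t ht => by
    rw [d1 z (hOT hz) t ht, d2 z hz, z1 z hz t (hTS ht), add_zero]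
  have hxt : ∀ t ∈ T, x * t ∉ T := fun t ht e => hxT ((mul_mem_cancel_right ht).1 e)
  let d' : G → F := fun g => if g ∈ T then d g else d (x⁻¹ * g) + b x (x⁻¹ * g)
  have p1 : ∀ t ∈ T, d' t = d t := fun t ht => if_pos ht
  have p2 : ∀ t ∈ T, d' (x * t) = d t + b x t := fun t ht => by
    simp only [d', if_neg (hxt t ht), inv_mul_cancel_left]
  have cases : ∀ g ∈ T ⊔ ⟪x⟫, g ∈ T ∨ ∃ t ∈ T, g = x * t := fun g hg => by
    obtain ⟨t, ht, n, rfl⟩ := (mem_sup_zpowers_iff_nat (hn hx)).1 hg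
    obtain ⟨m, rfl | rfl⟩ := Nat.even_or_odd' n
    · exact Or.inl (mul_mem ht (by rw [pow_mul, _root_.sq]; exact pow_mem (hOT (hs x hx)) m))
    · refine Or.inr ⟨x⁻¹ * t * x * (x * x) ^ m, mul_mem (conj_mem' (hn hx) ht) (pow_mem (hOT (hs x hx)) m), ?_⟩
      rw [pow_succ', pow_mul, _root_.sq]; group
  have sw : ∀ t ∈ T, t * x = x * (⁅t, x⁆ * t) := fun t ht => by
    rw [← mul_assoc, h.cm (comm_mem_of_sq hs (hTS ht) hx) hx, commutatorElement_def]; group
  refine hxT ((hmax (T ⊔ ⟪x⟫) ⟨sup_le hTS (zpowers_le.2 hx), d', fun g hg g' hg' => ?_,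
    fun z hz => by rw [p1 z (hOT hz), d2 z hz]⟩ le_sup_left).le (mem_sup_right (mem_zpowers x)))
  rcases cases g hg with ht | ⟨t, ht, rfl⟩ <;> rcases cases g' hg' with ht' | ⟨t', ht', rfl⟩
  · rw [p1 _ (mul_mem ht ht'), p1 _ ht, p1 _ ht', d1 _ ht _ ht']
  · have hz := comm_mem_of_sq hs (hTS ht) hx
    have e : g * (x * t') = x * (⁅g, x⁆ * (g * t')) := by rw [← mul_assoc, sw g ht]; group
    rw [e, p2 _ (mul_mem (hOT hz) (mul_mem ht ht')), p1 g ht, p2 t' ht', dz _ hz _ (mul_mem ht ht'),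
      d1 g ht t' ht', a2 x hx _ (hO hz) _ (hTS (mul_mem ht ht')), z2 x hx _ hz,
      a2 x hx g (hTS ht) t' (hTS ht'), a2 g (hTS ht) x hx t' (hTS ht'), pol g (hTS ht) x hx]
    linear_combination add_self' (b x g)
  · rw [mul_assoc, p2 _ (mul_mem ht ht'), p2 t ht, p1 g' ht', d1 t ht g' ht',
      a2 x hx t (hTS ht) g' (hTS ht'), a1 x hx t (hTS ht) g' (hTS ht')]
    ring
  · have hz := comm_mem_of_sq hs (hTS ht) hx
    have e : x * t * (x * t') = x * x * (⁅t, x⁆ * (t * t')) := by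
      rw [mul_assoc x t, ← mul_assoc t x, sw t ht]; group
    have hm := mul_mem (hOT hz) (mul_mem ht ht')
    rw [e, p1 _ (mul_mem (hOT (hs x hx)) hm), p2 t ht, p2 t' ht', dz _ (hs x hx) _ hm,
      dz _ hz _ (mul_mem ht ht'), d1 t ht t' ht', ← hb x hx, pol t (hTS ht) x hx,
      a1 x hx t (hTS ht) _ (mul_mem hx (hTS ht')), a2 x hx x hx t' (hTS ht'),
      a2 t (hTS ht) x hx t' (hTS ht')]
    linear_combination -add_self' (b x t')

theorem param {p : G → F × F} (hp : Cd S V p) (β : F × F → F × F → F) (b1 : ∀ v v' w, β (v + v') w = β v w + β v' w)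
    (b2 : ∀ v w w', β v (w + w') = β v w + β v w') (hb : ∀ x ∈ S, β (p x) (p x) = c₀ (x * x)) :
    ∃ e : F → F → F → S, (∀ a b c a' b' c', e a b c = e a' b' c' → a = a' ∧ b = b' ∧ c = c') ∧ (∀ g, ∃ a b c, g = e a b c) ∧
      ∀ a b c a' b' c', e a b c * e a' b' c' = e (a + a') (b + b') (c + c' + β (a, b) (a', b')) := by
  have hO := h.le
  have z2 : ∀ x ∈ S, ∀ y ∈ V, β (p x) (p y) = 0 := fun x _ y hy => by
    rw [hp.zero hy]; exact map_zero_of_add (b2 _)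
  obtain ⟨d, d1, d2⟩ := h.lift (fun x y => β (p x) (p y)) (fun x hx y hy z _ => by rw [hp.add x hx y hy, b1])
    (fun x _ y hy z hz => by rw [hp.add y hy z hz, b2]) (fun x hx y _ => by
      rw [hp.zero hx]; exact map_zero_of_add (f := fun v => β v (p y)) (fun v v' => b1 v v' _)) z2 hb
  have ex : ∀ a b c, ∃ g : S, p g = (a, b) ∧ d g = c := fun a b c => by
    obtain ⟨x, hx, ex⟩ := hp.surj (a, b)
    obtain ⟨z, hz, e⟩ := h.cd.surj (c + d x)
    refine ⟨⟨x * z, mul_mem hx (hO hz)⟩, (hp.mul_right hx hz).trans ex, ?_⟩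
    simp only
    rw [d1 x hx z (hO hz), z2 x hx z hz, d2 z hz, e]
    linear_combination add_self' (d x)
  have uq : ∀ g g' : S, p g = p g' → d g = d g' → g = g' := fun g g' e1 e2 => by
    have hz := (hp.eq_iff g.2 g'.2).1 e1
    have := d1 g g.2 _ (hO hz)
    rw [mul_inv_cancel_left, z2 g g.2 _ hz, add_zero, e2, left_eq_add, d2 _ hz, h.cd.ker _ hz, mem_bot, inv_mul_eq_one] at this
    exact Subtype.ext this
  choose e e2 e3 using ex
  refine ⟨e, fun a b c a' b' c' h' => ?_, fun g => ⟨(p g).1, (p g).2, d g, uq _ _ (e2 _ _ _).symm (e3 _ _ _).symm⟩,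
    fun a b c a' b' c' => uq _ _ ?_ ?_⟩
  · have := e2 a b c
    rw [h', e2, Prod.mk.injEq] at this
    exact ⟨this.1.symm, this.2.symm, by rw [← e3 a b c, h', e3]⟩
  · rw [coe_mul, hp.add _ (e _ _ _).2 _ (e _ _ _).2, e2, e2, e2]; rfl
  · rw [coe_mul, d1 _ (e _ _ _).2 _ (e _ _ _).2, e2, e2, e3, e3, e3]

end CE

theorem co_compl (h : Co K A V χ c) (hW : K ≤ N(W)) (e1 : A ⊔ W = S) (e2 : A ⊓ W = V) (hd : ⁅S, S⁆ ≤ V) :
    ∃ c', Co K S W χ c' ∧ ∀ a ∈ A, c' a = c a := by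
  classical
  have AS : A ≤ S := le_sup_left.trans e1.le
  have WS : W ≤ S := le_sup_right.trans e1.le
  have nW : S ≤ N(W) := (nml_of_der_le (hd.trans (e2.ge.trans inf_le_right)) WS).nrm
  have dec : ∀ x ∈ S, ∃ a ∈ A, ∃ w ∈ W, x = a * w := fun x hx => (mem_sup_norm' (AS.trans nW)).1 (e1.ge hx)
  choose! f f1 g g1 fg using dec
  have key : ∀ a ∈ A, ∀ w ∈ W, c (f (a * w)) = c a := fun a ha w hw => by
    have m := mul_mem (AS ha) (WS hw)
    refine (h.eq_iff (f1 _ m) ha).2 (e2.le ⟨A.mul_mem (inv_mem (f1 _ m)) ha, ?_⟩)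
    rw [show (f (a * w))⁻¹ * a = g (a * w) * w⁻¹ by rw [inv_mul_eq_iff_eq_mul, ← mul_assoc, ← fg _ m, mul_inv_cancel_right]]
    exact W.mul_mem (g1 _ m) (inv_mem hw)
  refine ⟨fun x => c (f x), ⟨WS, e1 ▸ normsY h.nX hW, fun x hx y hy => ?_, fun x hx => ?_, fun a => ?_, fun k hk x hx => ?_, h.ch⟩,
    fun a ha => by simpa using key a ha 1 (one_mem _)⟩
  · rw [← h.add _ (f1 x hx) _ (f1 y hy), ← key _ (mul_mem (f1 x hx) (f1 y hy)) _
      (mul_mem (conj_mem' (nW (AS (f1 y hy))) (g1 x hx)) (g1 y hy))]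
    congr 2
    nth_rw 1 [fg x hx, fg y hy]; group
  · rw [h.ker _ (f1 x hx), ← e2, mem_inf, and_iff_right (f1 x hx), ← W.mul_mem_cancel_right (g1 x hx), ← fg x hx]
  · obtain ⟨x, hx, e⟩ := h.surj a
    exact ⟨x * 1, mul_mem (AS hx) (one_mem _), (key x hx 1 (one_mem _)).trans e⟩
  · rw [← h.act k hk _ (f1 x hx), ← key _ (conj_mem (h.nX hk) (f1 x hx)) _ (conj_mem (hW hk) (g1 x hx)), conj_mul, ← fg x hx]

theorem Hy.quad (h : Hy S V K t) (hna : ¬ Ab S) (hF : Fintype.card F = #K + 1) :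
    ∃ (c₀ : G → F) (p : G → F × F) (ε κ : F), CE S V c₀ ∧ Cd S V p ∧ ε ≠ 0 ∧
      ∀ x ∈ S, c₀ (x * x) = (p x).1 * (p x).1 + ε * (p x).1 * (p x).2 + κ * (p x).2 * (p x).2 := by
  obtain ⟨A, χ, c₀, c₂, h0, h1, h2, hs⟩ := h.core hna hF
  have ce : CE S V c₀ := ⟨h0.cd, h.le, h.cen, hs⟩
  obtain ⟨W, hW, e1, e2⟩ := h.sz.exists_compl h1.le h2.le hs h.KN h.sz.nrm h1.nX
  obtain ⟨c₁, h3, e3⟩ := co_compl h1 hW e1 e2 (H3.der_le_of_sq hs)
  have h4 : Co K W V χ c₂ := by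
    rw [← e2, inf_comm]
    exact h2.restrict h3.le hW fun e => h2.lt.not_ge (e1.ge.trans (sup_le le_rfl e))
  have cm : ∀ x ∈ S, ∀ v ∈ V, ⁅x, v⁆ = 1 := fun x hx v hv => commutatorElement_eq_one_iff_mul_comm.2 (ce.cm hv hx)
  obtain ⟨Q, q1, q2⟩ := h4.desc1 (fun x => c₀ (x * x)) χ (fun x hx y hy => by
    rw [ce.sq_add (h3.le hx) (h.le hy), h.el y hy, cm x (h3.le hx) y hy, h0.one, add_zero, add_zero])
    fun k hk x hx => by rw [conj_mul, h0.act k hk _ (hs x (h3.le hx))]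
  have q3 : ∀ w ∈ W, c₀ (w * w) = Q 1 * c₂ w := fun w hw => by
    by_cases e : c₂ w = 0
    · rw [h.el w ((h4.ker w hw).1 e), h0.one, e, mul_zero]
    obtain ⟨k, hk, ek⟩ := h0.ch.surj _ e
    rw [← q1 w hw, ← ek, mul_comm, ← q2 ⟨k, hk⟩, mul_one]
  obtain ⟨B, b0, b1, b2, b3⟩ := h0.desc_comm (S := S) (fun u hu w hw => cm u hu w hw) (h1.map (rt F)) (h4.map (rt F)) h2.le h3.le
    (fun x hx y hy => comm_mem_of_sq hs (h2.le hx) (h3.le hy)) (fun x hx y hy => comm_swap_mem (cm y (h3.le hy) x hx))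
    fun x hx y hy => cm x (h2.le hx) y hy
  obtain ⟨ε₁, ε₂, b4⟩ := bil_two b1 b2 (h1.map (rt F)).ch.onto (θ := 1) (fun k => (rt_mul_rt _).symm) b3
  have hp := (h3.map (rt F)).cd_prod (h2.map (rt F)) e1
  rw [e2] at hp
  have f : ∀ x ∈ S, c₀ (x * x) = rt F (c₁ x) * rt F (c₁ x) + (ε₁ + ε₂) * rt F (c₁ x) * rt F (c₂ x) +
      Q 1 * rt F (c₂ x) * rt F (c₂ x) := fun x hx => by
    obtain ⟨a, ha, w, hw, rfl⟩ := (mem_sup_norm (h3.le.trans h2.nml.nrm)).1 (e1.ge hx)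
    rw [ce.sq_add (h2.le ha) (h3.le hw), h3.mul_right (h2.le ha) hw, h2.mul_left ha (h3.le hw), ← b0 a ha w hw, b4, e3 a ha,
      rt_mul_rt, mul_assoc (Q 1), rt_mul_rt, q3 w hw]
    simp only [RingAut.one_apply]; ring
  refine ⟨c₀, _, ε₁ + ε₂, Q 1, ce, hp, fun e => hna (ab_iff_forall.2 fun x hx y hy => ?_), f⟩
  have := ce.sq_add hx hy
  rw [f _ (mul_mem hx hy), f x hx, f y hy, e, h3.add x hx y hy, h2.add x hx y hy, map_add, map_add] at this
  refine commutatorElement_eq_one_iff_mul_comm.1 ((h0.ker _ (comm_mem_of_sq hs hx hy)).1 ?_)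
  linear_combination -this + add_self' (rt F (c₁ x) * rt F (c₁ y) + Q 1 * rt F (c₂ x) * rt F (c₂ y))

theorem syl {X H : Type*} [Group X] [Group H] [Finite H] {f : X →* H} (hf : Function.Injective f) {N d m : ℕ}
    (hX : Nat.card X = 2 ^ N) (hZ : Odd #(center H)) (hd : Odd d) (hm : Odd m) (e : d * Nat.card (H ⧸ center H) = 2 ^ N * m)
    (P : Sylow 2 (H ⧸ center H)) : Nonempty (X ≃* P) := by
  obtain ⟨m', e'⟩ := (Nat.Coprime.pow_left N (Nat.coprime_two_left.2 hd)).dvd_of_dvd_mul_left ⟨m, e⟩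
  refine sylow_of_inj (φ := (QuotientGroup.mk' _).comp f) ((injective_iff_map_eq_one _).2 fun x hx => ?_) hX P
    (H10.card_sylow_of_card_eq P e' fun h2 => ?_)
  · have h1 := orderOf_dvd_of_pow_eq_one (pow_card ((QuotientGroup.eq_one_iff _).1 hx))
    rw [orderOf_injective f hf] at h1
    exact orderOf_eq_one_iff.1 (Nat.eq_one_of_dvd_coprimes (Nat.Coprime.pow_left N (Nat.coprime_two_left.2 hZ))
      (hX ▸ orderOf_dvd_natCard x) h1)
  · rw [e', mul_left_comm, Nat.mul_right_inj (by positivity)] at e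
    exact Nat.not_even_iff_odd.2 hm (even_iff_two_dvd.2 (e ▸ h2.mul_left d))

theorem odd_gcd (a : ℕ) : Odd (Nat.gcd 3 a) := Odd.of_dvd_nat (by decide) (Nat.gcd_dvd_left 3 a)

theorem Hy.ident (h : Hy S V K t) (hna : ¬ Ab S) {n : ℕ} (hn : #K + 1 = 2 ^ n) :
    (∃ (F : Type) (_ : Field F) (_ : Fintype F), Fintype.card F = 4 ^ n ∧ ∀ P : Sylow 2 (PSU 3 F (2 ^ n)), Nonempty (S ≃* P)) ∨
    ∃ (F : Type) (_ : Field F) (_ : Fintype F), Fintype.card F = 2 ^ n ∧
      ∀ P : Sylow 2 (Matrix.ProjectiveSpecialLinearGroup (Fin 3) F), Nonempty (S ≃* P) := by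
  classical
  have n0 : n ≠ 0 := by rintro rfl; have := h.sz.three_le; omega
  let L := GaloisField 2 (n * 2)
  have : Fintype L := Fintype.ofFinite _
  have hL : Fintype.card L = (2 ^ n) ^ 2 := by
    rw [← Nat.card_eq_fintype_card, GaloisField.card 2 _ (by omega), pow_mul]
  have hq := H11.qConj_conjQ hL
  set σ := H11.conjQ hL
  have : Fintype (σ.eqLocusField (RingHom.id L)) := Fintype.ofFinite _
  have hK : Fintype.card (σ.eqLocusField (RingHom.id L)) = 2 ^ n := by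
    rw [← Nat.card_eq_fintype_card]; exact hq.card_fixed
  obtain ⟨c₀, p, ε, κ, ce, hp, ε0, f⟩ := h.quad hna (hK.trans hn.symm)
  have t2 : (2 : σ.eqLocusField (RingHom.id L)) = 0 := CharTwo.two_eq_zero
  have ev : Even (2 ^ n) := (Nat.even_pow' n0).2 even_two
  have o1 : ∀ k, k ≠ 0 → Odd ((2 ^ n) ^ k - 1) := fun k hk => Nat.Even.sub_odd (Nat.one_le_pow _ _ (by positivity))
    ((Nat.even_pow' hk).2 ev) odd_one
  have cS : ∀ e : _ → _ → _ → S, (∀ a b c a' b' c' : σ.eqLocusField (RingHom.id L), e a b c = e a' b' c' → a = a' ∧ b = b' ∧ c = c') →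
      (∀ g, ∃ a b c, g = e a b c) → Nat.card S = 2 ^ (n * 3) := fun e e1 e2 => by
    rw [← Nat.card_congr (Equiv.ofBijective (fun v : _ × _ × _ => e v.1 v.2.1 v.2.2)
      ⟨fun v w hh => by obtain ⟨h1, h2, h3⟩ := e1 _ _ _ _ _ _ hh; exact Prod.ext h1 (Prod.ext h2 h3),
        fun g => by obtain ⟨a, b, c, rfl⟩ := e2 g; exact ⟨(a, b, c), rfl⟩⟩)]
    simp only [Nat.card_eq_fintype_card, Fintype.card_prod, hK]; ring
  have lin : ∀ a b c d : σ.eqLocusField (RingHom.id L), a * d + b * c ≠ 0 →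
      Cd S V fun x => (a * (p x).1 + b * (p x).2, c * (p x).1 + d * (p x).2) := fun a b c d hd =>
    ⟨hp.le, fun x hx y hy => by
      rw [hp.add x hx y hy, Prod.fst_add, Prod.snd_add, Prod.mk_add_mk, Prod.mk.injEq]; constructor <;> ring,
    fun x hx => by
      rw [← hp.ker x hx, Prod.mk_eq_zero]
      exact ⟨fun e => Prod.ext (mul_left_cancel₀ hd (by simp only [Prod.fst_zero]; linear_combination d * e.1 + b * e.2 - b * d * (p x).2 * t2))
        (mul_left_cancel₀ hd (by simp only [Prod.snd_zero]; linear_combination c * e.1 + a * e.2 - a * c * (p x).1 * t2)),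
        fun e => by simp [e]⟩,
    fun v => by
      obtain ⟨x, hx, e⟩ := hp.surj ((d * v.1 + b * v.2) / (a * d + b * c), (c * v.1 + a * v.2) / (a * d + b * c))
      refine ⟨x, hx, ?_⟩
      rw [e]
      refine Prod.ext ?_ ?_ <;> simp only [← mul_div_assoc, ← add_div, div_eq_iff hd]
      · linear_combination a * b * v.2 * t2
      · linear_combination c * d * v.1 * t2⟩
  by_cases hr : ∃ r, r * r + ε * r + κ = 0
  · obtain ⟨r, hr⟩ := hr
    obtain ⟨e, e1, e2, e3⟩ := ce.param (lin 1 r 1 (r + ε) (by rwa [one_mul, mul_one, add_right_comm, add_self', zero_add]))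
      (fun v w => v.1 * w.2) (fun _ _ _ => add_mul _ _ _) (fun _ _ _ => mul_add _ _ _) fun x hx => by
        rw [f x hx]; linear_combination (p x).2 ^ 2 * hr + (r * (p x).1 * (p x).2 - κ * (p x).2 ^ 2) * t2
    refine .inr ⟨_, inferInstance, inferInstance, hK, fun P => ?_⟩
    choose a b c habc using e2
    let u : _ → _ → _ → SL(3, σ.eqLocusField (RingHom.id L)) := fun a b c =>
      ⟨!![1, a, c; 0, 1, b; 0, 0, 1], by simp [Matrix.det_fin_three]⟩
    refine syl (f := MonoidHom.mk' (fun g => u (a g) (b g) (c g)) fun g g' => ?_) (fun g g' hh => ?_) (cS e e1 fun g => ⟨_, _, _, habc g⟩)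
      (by rw [H10.card_center_SL_fin 3 (by norm_num)]; exact odd_gcd _) ((odd_gcd (2 ^ n - 1)).mul (by simpa using o1 1 one_ne_zero))
      ((o1 3 (by norm_num)).mul ((o1 2 two_ne_zero).mul (o1 1 one_ne_zero))) ?_ P
    · obtain ⟨r1, r2, r3⟩ := e1 _ _ _ _ _ _ ((habc (g * g')).symm.trans ((congrArg₂ (· * ·) (habc g) (habc g')).trans (e3 _ _ _ _ _ _)))
      rw [r1, r2, r3]
      refine Subtype.ext (Eq.symm ((Matrix.SpecialLinearGroup.coe_mul _ _).trans ?_))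
      ext i j; fin_cases i <;> fin_cases j <;> simp [u, Matrix.mul_apply, Fin.sum_univ_three] <;> ring
    · have e0 := congrArg Subtype.val hh
      rw [habc g, habc g', show a g = a g' from congrFun (congrFun e0 0) 1, show b g = b g' from congrFun (congrFun e0 1) 2,
        show c g = c g' from congrFun (congrFun e0 0) 2]
    · rw [mul_assoc, S0243.result hK 3 (by norm_num), pow_mul, Fin.prod_univ_three]
      generalize 2 ^ n = q
      simp only [Fin.val_zero, Fin.val_one, Fin.val_two, pow_zero]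
      rw [show q ^ 3 - q ^ 1 = q * (q ^ 2 - 1) by rw [Nat.mul_sub_one, pow_one]; ring_nf,
        show q ^ 3 - q ^ 2 = q ^ 2 * (q ^ 1 - 1) by rw [Nat.mul_sub_one]; ring_nf]
      ring
  push Not at hr
  have μ0 : rt _ κ ≠ 0 := fun e => hr 0 (by rw [← rt_mul_rt κ, e]; simp)
  have hμ := rt_mul_rt κ
  generalize rt _ κ = μ at μ0 hμ
  obtain ⟨e, e1, e2, e3⟩ := ce.param (lin 1 0 0 μ (by simpa using μ0))
    (fun v w => v.1 * w.1 + ε / μ * v.1 * w.2 + v.2 * w.2) (fun _ _ _ => by simp only [Prod.fst_add, Prod.snd_add]; ring)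
    (fun _ _ _ => by simp only [Prod.fst_add, Prod.snd_add]; ring) fun x hx => by
      rw [f x hx, ← hμ]; field_simp; ring
  have B : H18.BCo (ε / μ) e := ⟨fun a a0 ea => hr (a * μ) (by
    rw [← hμ, (div_eq_iff μ0).1 ea]; field_simp; linear_combination μ ^ 2 * (a ^ 2 + 1) * t2), e1, e2, fun a b c a' b' c' => by
      rw [e3]; congr 1; ring⟩
  have t3 : (2 : L) = 0 := CharTwo.two_eq_zero
  obtain ⟨θ, hθ⟩ := H11.exists_ne_conj hq.ne_id
  have θ0 : θ + σ θ ≠ 0 := fun e => hθ (by linear_combination e - θ * t3)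
  have hζ : σ (θ / (θ + σ θ)) = θ / (θ + σ θ) + 1 := by
    rw [map_div₀, map_add, hq.invol, add_comm (σ θ), div_add_one θ0]
    congr 1; linear_combination -θ * t3
  generalize θ / (θ + σ θ) = ζ at hζ
  obtain ⟨s, -, hs⟩ := H11.exists_norm_form_root (z := (μ / ε) ^ 2) (z' := ⟨ζ ^ 2 + ζ, show σ _ = ζ ^ 2 + ζ by
    rw [map_add, map_pow, hζ]; linear_combination (ζ + 1) * t3⟩) (fun x e => hr (x * ε) (by
      rw [← hμ]; field_simp at e; linear_combination e)) fun x e => by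
      have e' : ((x : L) + ζ) * (x + ζ + 1) = 0 := by
        have : (x : L) ^ 2 + x + (ζ ^ 2 + ζ) = 0 := congrArg Subtype.val e
        linear_combination this + x * ζ * t3
      have hx : σ x = x := x.2
      rcases mul_eq_zero.1 e' with e | e <;> have := congrArg σ e <;> simp only [map_add, map_one, hx, hζ, map_zero] at this <;>
        exact one_ne_zero (α := L) (by linear_combination this - e)
  have hs' : (s : L) * s + s + (μ / ε) ^ 2 = ζ ^ 2 + ζ := by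
    rw [t2, zero_mul, sub_zero, mul_one, one_mul, one_mul] at hs
    have := congrArg Subtype.val hs
    push_cast at this
    exact this
  have fx : ∀ a : σ.eqLocusField (RingHom.id L), σ a = a := fun a => a.2
  obtain ⟨φ, hφ⟩ := B.exists_hom hq (τ := (ε / μ : σ.eqLocusField (RingHom.id L)) * (ζ + s))
    (by rw [map_mul, map_add, fx, fx, hζ]; linear_combination (ε / μ : σ.eqLocusField (RingHom.id L)) * (ζ + s) * t3) (by
      have a1 : (μ : L) ≠ 0 := by exact_mod_cast μ0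
      have a2 : (ε : L) ≠ 0 := by exact_mod_cast ε0
      rw [map_mul, map_add, fx, fx, hζ]; push_cast
      have a3 : (ε / μ : L) * (μ / ε) = 1 := by rw [div_mul_div_cancel₀ a1, div_self a2]
      linear_combination -(ε / μ : L) ^ 2 * hs' + (ε / μ : L) ^ 2 * (s * s + s + ζ * s) * t3 + ((ε / μ : L) * (μ / ε) + 1) * a3)
  refine .inl ⟨L, inferInstance, inferInstance, by rw [hL, ← pow_mul, mul_comm, pow_mul]; rfl, fun P => syl hφ (cS e e1 e2)
    (by rw [S0279.result hL 3 le_rfl]; exact odd_gcd _) ((odd_gcd (2 ^ n + 1)).mul ev.add_one)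
    (m := ((2 ^ n) ^ 1 + 1) * ((2 ^ n) ^ 2 - 1) * ((2 ^ n) ^ 3 + 1)) ((((Nat.even_pow' one_ne_zero).2 ev).add_one.mul
      (o1 2 two_ne_zero)).mul ((Nat.even_pow' three_ne_zero).2 ev).add_one) ?_ P⟩
  rw [mul_assoc, S0280.result hL 3 (by norm_num), pow_mul]
  simp [Finset.prod_range_succ]

end Ht

end Cfsg.Agent.GO
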