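import Cfsg.Agent.GO.Ht2
import Cfsg.Agent.S1237

/-! Applications. -/

set_option autoImplicit false
set_option linter.unusedSectionVars false
set_option linter.unusedVariables false

namespace Cfsg.Agent.GO

open Cfsg Subgroup Cfsg.Agent.FT Cfsg.Agent.GW
open scoped commutatorElement

universe u

variable {G : Type u} [Group G] [Finite G] {D : Set G} {p : ℕ}
  {A B E H J K L M P Q R S T U V W X Y Z : Subgroup G} {a b d e g r s t v w x y z : G}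


open H3 H3.SzF SemidirectProduct

namespace Ht

theorem sz_mk (hc : Cyc K) (hn : K ≤ N(V)) (el : ∀ v ∈ V, v * v = 1) (cV : #V = #K + 1) (h2 : 2 ≤ #K)
    (h : (∀ x ∈ V, ∀ y ∈ V, x ≠ 1 → y ≠ 1 → ∃ k ∈ K, k * x * k⁻¹ = y) ∨ ∀ k ∈ K, ∀ x ∈ V, x ≠ 1 → k * x * k⁻¹ = x → k = 1) :
    H3.Sz V K := by
  have key : ∀ x (hx : x ∈ V), x ≠ 1 → Function.Bijective fun o : Option K =>
      (o.elim 1 (fun k => ⟨k * x * k.1⁻¹, conj_mem (hn k.2) hx⟩) : V) := fun x hx x1 => by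
    rcases h with h | h
    · refine Function.Surjective.bijective_of_nat_card_le (fun y => ?_) (by rw [Finite.card_option, cV])
      by_cases e : y = 1
      · exact ⟨none, e.symm⟩
      obtain ⟨k, hk, e⟩ := h x hx y y.2 x1 fun e' => e (Subtype.ext e')
      exact ⟨some ⟨k, hk⟩, Subtype.ext e⟩
    · refine Function.Injective.bijective_of_nat_card_le ?_ (by rw [Finite.card_option, cV])
      rintro (_ | k) (_ | k') e <;> replace e := congrArg Subtype.val e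
      · rfl
      · exact absurd (conj_eq_one_iff.1 e.symm) x1
      · exact absurd (conj_eq_one_iff.1 e) x1
      · refine congrArg some (Subtype.ext (inv_mul_eq_one.1 (h _ (mul_mem (inv_mem k'.2) k.2) x hx x1 ?_)).symm)
        calc _ = k'.1⁻¹ * (k * x * k.1⁻¹) * k' := by group
          _ = _ := by rw [show k * x * k.1⁻¹ = k' * x * k'.1⁻¹ from e]; group
  refine ⟨(show Abelem 2 V from ⟨ab_iff_forall.2 fun x hx y hy => ?_, fun v hv => (sq v).trans (el v hv)⟩).pGrp Nat.prime_two,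
    hc, hn, ?_, fun x hx y hy a _ b _ => ?_, fun k hk x hx a _ e => ?_⟩
  · rw [← inv_eq_of_mul_eq_one_left (el _ (mul_mem hx hy)), mul_inv_rev, inv_eq_of_mul_eq_one_left (el x hx),
      inv_eq_of_mul_eq_one_left (el y hy)]
  · obtain ⟨x, hx, x1⟩ := FT.exists_ne_one (ne_bot_of_one_lt_card (H := V) (by omega))
    obtain ⟨k, hk, k1⟩ := FT.exists_ne_one (ne_bot_of_one_lt_card (H := K) h2)
    exact ⟨x, hx, k * x * k⁻¹, conj_mem (hn hk) hx, fun e => k1 (congrArg Subtype.val (Option.some_injective _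
      ((key x hx x1).1 (a₁ := some ⟨k, hk⟩) (a₂ := some 1) (Subtype.ext (by simpa using e.symm))))), x1, el x hx,
      mt conj_eq_one_iff.1 x1, el _ (conj_mem (hn hk) hx)⟩
  · obtain ⟨_ | k, e⟩ := (key x hx a).2 ⟨y, hy⟩
    · exact absurd (congrArg Subtype.val e).symm b
    · exact ⟨k, k.2, congrArg Subtype.val e⟩
  · exact congrArg Subtype.val (Option.some_injective _
      ((key x hx a).1 (a₁ := some ⟨k, hk⟩) (a₂ := some 1) (Subtype.ext (by simpa using e))))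

theorem s3161 {Q : Type*} [Group Q] [Finite Q] (hQ : IsPGroup 2 Q) (hna : ¬ IsMulCommutative Q) (n : ℕ) (hn : 2 ≤ n)
    (α ρ : MulAut Q) (hα : orderOf α = 2) (hρ : orderOf ρ = 2 ^ n - 1) (hc : Commute α ρ)
    (C : Subgroup Q) (hC : ∀ x : Q, x ∈ C ↔ α x = x) (hCE : IsElementaryAbelian 2 C ∧ #C = 2 ^ n)
    (htr : ∀ x y : Q, x ∈ C → y ∈ C → x ≠ 1 → y ≠ 1 → ∃ k : ℕ, (ρ ^ k) x = y) :
    (∃ (F : Type) (_ : Field F) (_ : Fintype F), Fintype.card F = 4 ^ n ∧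
        ∃ S : Sylow 2 (PSU 3 F (2 ^ n)), Nonempty (Q ≃* S)) ∨
      (∃ (F : Type) (_ : Field F) (_ : Fintype F), Fintype.card F = 2 ^ n ∧
        ∃ S : Sylow 2 (Matrix.ProjectiveSpecialLinearGroup (Fin 3) F), Nonempty (Q ≃* S)) := by
  have inj := inl_injective (φ := (⊤ : Subgroup (MulAut Q)).subtype)
  have injr := inr_injective (φ := (⊤ : Subgroup (MulAut Q)).subtype)
  let r : MulAut Q →* Hol Q ⊤ := inr.comp topEquiv.symm.toMonoidHom
  have cj : ∀ γ x, r γ * inl x * (r γ)⁻¹ = inl (γ x) := fun γ x => hol_conj (Γ := ⊤) ⟨γ, trivial⟩ x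
  have ro := orderOf_injective r (injr.comp topEquiv.symm.injective)
  have : 2 ^ 2 ≤ 2 ^ n := Nat.pow_le_pow_right two_pos hn
  have cK : #⟪r ρ⟫ + 1 = 2 ^ n := by rw [card_zpowers', ro, hρ]; omega
  have el : ∀ v ∈ holL ⊤ C, v * v = 1 := by rintro _ ⟨x, hx, rfl⟩; rw [← map_mul, ← sq, hCE.1.2 x hx, map_one]
  have eV : holL ⊤ ⊤ ⊓ C[r α] = holL ⊤ C := by
    ext x
    refine ⟨?_, ?_⟩
    · rintro ⟨⟨x, -, rfl⟩, h⟩
      exact inl_mem_holL.2 ((hC x).2 (inj (by rw [← cj, ← mem_cen1.1 h, mul_inv_cancel_right])))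
    · rintro ⟨x, h, rfl⟩
      exact ⟨inl_mem_holL.2 trivial, mem_cen1.2 (mul_inv_eq_iff_eq_mul.1 (by rw [cj, (hC x).1 h])).symm⟩
  have n1 : ∀ A, A ≤ N(holL (⊤ : Subgroup (MulAut Q)) ⊤) := fun A => by rw [normalizer_holL_top]; exact le_top
  have tK : ⟪r ρ⟫ ≤ C[r α] := zpowers_le.2 (mem_cen1.2 (hc.map r).symm)
  have h : Hy (holL ⊤ ⊤) (holL ⊤ C) ⟪r ρ⟫ (r α) := ⟨pGrp_of_isPGroup Nat.prime_two ((hQ.to_subgroup ⊤).map _), n1 ⊤ trivial,
    by rw [← map_pow, ← hα, pow_orderOf_eq_one, map_one], n1 _, tK, eV,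
    sz_mk (cyc_zpowers _) (eV ▸ normsI (n1 _) (tK.trans (le_nrm _))) el (by rw [card_holL, hCE.2, cK]) (by omega) (.inl (by
      rintro _ ⟨x, hx, rfl⟩ _ ⟨y, hy, rfl⟩ a b
      obtain ⟨k, e⟩ := htr x y hx hy (fun e => a (by rw [e, map_one])) fun e => b (by rw [e, map_one])
      exact ⟨r ρ ^ k, pow_mem (mem_zpowers _) k, by rw [← map_pow, cj, e]⟩)), el⟩
  let e : Q ≃* holL (⊤ : Subgroup (MulAut Q)) ⊤ := topEquiv.symm.trans ((⊤ : Subgroup Q).equivMapOfInjective _ inj)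
  rcases h.ident (fun e => hna ⟨⟨fun a b => inj (by
    rw [map_mul, map_mul]; exact e.comm (inl_mem_holL.2 trivial) (inl_mem_holL.2 trivial))⟩⟩) cK with ⟨F, _, _, c, f⟩ | ⟨F, _, _, c, f⟩
  · exact .inl ⟨F, _, _, c, default, (f _).map e.trans⟩
  · exact .inr ⟨F, _, _, c, default, (f _).map e.trans⟩

theorem s2933 (hT : IsPGroup 2 T) (hVT : V ≤ T ⊓ C(T)) (hV : #V = 4 ∧ ∀ v ∈ V, v ^ 2 = 1) (t ρ : G) (ht : orderOf t = 2)
    (hρ : orderOf ρ = 3) (htn : t ∈ N(V) ⊓ N(T)) (hρn : ρ ∈ N(V) ⊓ N(T)) (htρ : t * ρ = ρ * t) (hVρ : ⁅V, ⟪ρ⟫⁆ = V)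
    (hCt : T ⊓ C[t] = V) : (#T = 16 ∧ ∀ x ∈ T, x ^ 2 = 1) ∨
    (∃ n : ℕ, 1 ≤ n ∧ Nonempty (T ≃* Multiplicative (ZMod (2 ^ n)) × Multiplicative (ZMod (2 ^ n)))) ∨
    (∃ (F : Type) (_ : Field F) (_ : Fintype F), Fintype.card F = 4 ∧
      ∀ P : Sylow 2 (Matrix.ProjectiveSpecialLinearGroup (Fin 3) F), Nonempty (T ≃* P)) ∨
    (∃ (F : Type) (_ : Field F) (_ : Fintype F), Fintype.card F = 16 ∧ ∀ P : Sylow 2 (PSU 3 F 4), Nonempty (T ≃* P)) := by
  have cK : #⟪ρ⟫ = 3 := (card_zpowers' ρ).trans hρ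
  have el : ∀ v ∈ V, v * v = 1 := fun v hv => (sq v).symm.trans (hV.2 v hv)
  have ab : Ab V := ab_iff.2 (hVT.trans (inf_le_right.trans (cen_anti (hVT.trans inf_le_left))))
  have h : Hy T V ⟪ρ⟫ t := ⟨pGrp_of_isPGroup Nat.prime_two hT, htn.2, ht ▸ pow_orderOf_eq_one t, zpowers_le.2 hρn.2,
    zpowers_le.2 (mem_cen1.2 htρ.symm), hCt, sz_mk (cyc_zpowers _) (zpowers_le.2 hρn.1) el (by rw [cK, hV.1]) (by omega)
      (.inr fun k hk x hx a e => by_contra fun k1 => a (mem_bot.1 ((coprime_abel_cent_TI (zpowers_le.2 hρn.1)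
        (by rw [Cop, cK, hV.1]; norm_num) ab).le ⟨hVρ.ge hx, by
          rw [eq_zpowers_of_prime (cK ▸ Nat.prime_three) hk k1, cen_zpowers]
          exact mem_cen1.2 (mul_inv_eq_iff_eq_mul.1 e).symm⟩))), el⟩
  by_cases hna : Ab T
  swap
  · rcases h.ident hna (n := 2) (by rw [cK]; rfl) with e | e
    exacts [.inr (.inr (.inr e)), .inr (.inr (.inl e))]
  by_cases hi : ∀ s ∈ T, s * s = 1 → s ∈ V
  · have : Fintype (GaloisField 2 4) := Fintype.ofFinite _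
    have hF : Fintype.card (GaloisField 2 4) = 16 := by rw [← Nat.card_eq_fintype_card, GaloisField.card 2 4 (by norm_num)]; rfl
    have k := fun P => S1237.result hT (prankLE_iff.2 fun A a b => (card_le fun x hx => hi x (a hx) ((sq x).symm.trans (b.pow hx))).trans
      hV.1.le) (fun e => absurd (prankLE_iff.1 e V h.le ⟨ab, hV.2⟩) (by rw [hV.1]; norm_num))
      (T.normalizerMonoidHom ⟨ρ, hρn.2⟩) (fun s s' a b => by
        have o : ∀ s : T, orderOf s = 2 → s.1 ≠ 1 ∧ s.1 * s.1 = 1 := fun s a => ⟨fun e => by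
          rw [show s = 1 from Subtype.ext e, orderOf_one] at a; omega, by
            rw [← sq, ← a]; exact congrArg Subtype.val (pow_orderOf_eq_one s)⟩
        obtain ⟨k, hk, e⟩ := h.sz.tr s (hi s s.2 (o s a).2) s' (hi s' s'.2 (o s' b).2) (o s a).1 (o s a).2 (o s' b).1 (o s' b).2
        obtain ⟨m, rfl⟩ := mem_powers_iff_mem_zpowers.2 hk
        exact ⟨m, Subtype.ext (by rw [← map_pow]; exact e)⟩) hF P
    by_cases e : ∃ n : ℕ, 1 ≤ n ∧ Nonempty (T ≃* Multiplicative (ZMod (2 ^ n) × ZMod (2 ^ n)))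
    · obtain ⟨n, a, ⟨b⟩⟩ := e
      exact .inr (.inl ⟨n, a, ⟨b.trans (MulEquiv.prodMultiplicative _ _)⟩⟩)
    · exact .inr (.inr (.inr ⟨_, _, _, hF, fun P => (k P).resolve_left e⟩))
  push Not at hi
  obtain ⟨s, hs, s2, sV⟩ := hi
  have W := abelem_Ohm_of_ab (p := 2) (hna.mono (Ohm_le 2 T))
  have nW : ∀ g ∈ N(T), g ∈ N(Ω[2](T)) := fun g hg => zpowers_le.1 (norms_Ohm 2 (zpowers_le.2 hg))
  have d1 : ∀ x, dl t x ∈ Ω[2](T) → dl t x ∈ V := fun x hx => hCt.le ⟨Ohm_le 2 T hx, mem_cen1.2 (by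
    rw [eq_comm, ← mul_inv_eq_iff_eq_mul, h.dl_inv, inv_eq_of_mul_eq_one_left ((sq _).symm.trans (W.pow hx))])⟩
  have d2 : ∀ x ∈ Ω[2](T), dl t x ∈ V := fun x hx => d1 x (mul_mem (inv_mem hx) (conj_mem (nW t htn.2) hx))
  have sW : s ∈ Ω[2](T) := mem_Ohm hs ((sq s).trans s2)
  have d3 : ∀ v ∈ V, ∃ w ∈ Ω[2](T), dl t w = v := fun v hv => by
    by_cases e : v = 1
    · exact ⟨1, one_mem _, by simp [dl, e]⟩
    obtain ⟨k, hk, e⟩ := h.sz.tr _ (d2 s sW) v hv (fun e => sV (hCt.le ⟨hs, by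
      simpa using dl_eq (t := t) (x := s) (y := 1) (by rw [e, dl]; group)⟩)) (el _ (d2 s sW)) e (el v hv)
    exact ⟨_, conj_mem (nW k (h.KN hk)) sW, (h.dl_conj hk s).trans e⟩
  have le : T ≤ Ω[2](T) := by
    by_contra e
    obtain ⟨x, hx, a, b, -⟩ := h.fix e
    obtain ⟨w, hw, e⟩ := d3 _ (d1 x b)
    have := hCt.le ⟨T.mul_mem hx (inv_mem (Ohm_le 2 T hw)), dl_eq e.symm⟩
    exact a ((Ω[2](T).mul_mem_cancel_right (inv_mem hw)).1 (mem_Ohm (h.le this) (hV.2 _ this)))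
  refine .inl ⟨?_, fun x hx => W.pow (le hx)⟩
  let f : T →* G := MonoidHom.mk' (fun x => dl t x) fun a b => by
    rw [coe_mul, dl_mul, hna.comm (inv_mem b.2) (h.dl_mem a.2), inv_mul_cancel_right]
  have e1 : f.ker = V.subgroupOf T := by
    ext x
    refine ⟨fun e => hCt.le ⟨x.2, by simpa using dl_eq (t := t) (x := x) (y := 1) (e.trans (by simp [dl]))⟩, fun e => ?_⟩
    change dl t x = 1
    rw [dl, ← show x * t = t * x from mem_cen1.1 (hCt.ge e).2]; group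
  have e2 : f.range = V := le_antisymm (by rintro _ ⟨x, rfl⟩; exact d2 _ (le x.2)) fun v hv => by
    obtain ⟨w, hw, e⟩ := d3 v hv
    exact ⟨⟨w, Ohm_le 2 T hw⟩, e⟩
  rw [← FT.card_mul_relIndex h.le, relIndex, ← e1, index_ker, e2, hV.1]

end Ht

end Cfsg.Agent.GO
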