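import Cfsg.Agent.GO.Mw1

/-! The four generator theorem of MacWilliams. -/

set_option autoImplicit false
set_option linter.unusedSectionVars false
set_option linter.unusedVariables false

namespace Cfsg.Agent.GO

open Cfsg Subgroup Cfsg.Agent.FT Cfsg.Agent.GW
open scoped commutatorElement

universe u

variable {G : Type u} [Group G] [Finite G] {D : Set G} {p : ℕ}
  {A B E H J K L M P Q R S T U V W X Y Z : Subgroup G} {a b d e g r s t v w x y z : G}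

variable {c f : G} {N : Subgroup G} {k : ℕ}

namespace Fg

theorem cmem (hx : x ∈ K) (hy : y ∈ K) : ⁅x, y⁆ ∈ K := by
  rw [commutatorElement_def]; exact mul_mem (mul_mem (mul_mem hx hy) (inv_mem hx)) (inv_mem hy)

/-- `x` inverts no element of order four of `A` -/
def Ni (A : Subgroup G) (x : G) : Prop := ∀ a ∈ A, ⁅a, x⁆ = a * a → a * a = 1

/-- `⟨x⟩ C_P(A)` is a normal subgroup without real elements of order four -/
structure Un (P A W : Subgroup G) (x : G) : Prop where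
  mem : x ∈ P ⊓ C(W)
  out : x ∉ C(A)
  ni : Ni A x
  nm : ∀ g ∈ P, ⁅x, g⁆ ∈ C(A)

namespace Fa
variable (h : Fa P A W)
include h

theorem WA : W ≤ A := fun x hx => ((h.memW x).1 hx).1
theorem w2 (hw : w ∈ W) : w * w = 1 := ((h.memW w).1 hw).2
theorem wi (hw : w ∈ W) : w⁻¹ = w := inv_eq_of_mul_eq_one_right (h.w2 hw)
theorem aW : Abelem 2 W := ⟨h.ab.mono h.WA, fun x hx => by rw [sq, h.w2 hx]⟩
theorem nW : P ≤ N(W) := le_nrm_iff.2 fun g hg x hx => (h.memW _).2 ⟨conj_mem (h.nA hg) (h.WA hx), by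
  rw [conj_mul (b := g), h.w2 hx]; group⟩
theorem cW : #W ≤ 4 := h.ne W (h.WA.trans h.le) h.nW h.aW
theorem nC : P ≤ N(C(A)) := norms_cent h.nA
theorem AD : A ≤ P ⊓ C(W) := le_inf h.le (h.ab.le_cen.trans (centralizer_le h.WA))
theorem CD : P ⊓ C(A) ≤ P ⊓ C(W) := inf_le_inf_left _ (centralizer_le h.WA)
theorem wc (hw : w ∈ W) (hx : x ∈ P ⊓ C(W)) : w * x = x * w := mem_cen.1 hx.2 w hw
theorem iD : C(W).relIndex P ≤ 2 := H3.relIndex_cen_le_sq Nat.prime_two h.pP ⟨h.WA.trans h.le, h.nW⟩ h.cW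
theorem inW (hc : c ∈ P ⊓ C(A)) (e : c * c = 1) : c ∈ W := (h.memW c).2 ⟨h.om c hc (by rw [e, mul_one]), e⟩

theorem cw (ha : a ∈ A) (hx : x ∈ P ⊓ C(W)) : ⁅a, x⁆ ∈ W := by
  have h1 : x * a⁻¹ * x⁻¹ ∈ A := conj_mem (h.nA hx.1) (inv_mem ha)
  have e : ⁅a, x⁆ = a * (x * a⁻¹ * x⁻¹) := by rw [commutatorElement_def]; group
  refine (h.memW _).2 ⟨e ▸ mul_mem ha h1, ?_⟩
  rw [e, mul_assoc a, ← mul_assoc _ a, h.ab.comm h1 ha, mul_assoc a, ← mul_assoc a, conj_mul (b := x),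
    ← h.wc (h.sw _ (inv_mem ha)) hx]
  group

theorem cl (ha : a ∈ A) (hb : b ∈ A) (hx : x ∈ P ⊓ C(W)) : ⁅a * b, x⁆ = ⁅a, x⁆ * ⁅b, x⁆ := by
  have : ⁅a * b, x⁆ = a * ⁅b, x⁆ * a⁻¹ * ⁅a, x⁆ := by simp only [commutatorElement_def]; group
  rw [this, ← h.wc (h.cw hb hx) (h.AD ha), mul_inv_cancel_right, h.aW.ab.comm (h.cw hb hx) (h.cw ha hx)]

theorem cr (ha : a ∈ A) (hx : x ∈ P ⊓ C(W)) (hy : y ∈ P ⊓ C(W)) : ⁅a, x * y⁆ = ⁅a, x⁆ * ⁅a, y⁆ := by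
  have : ⁅a, x * y⁆ = ⁅a, x⁆ * (x * ⁅a, y⁆ * x⁻¹) := by simp only [commutatorElement_def]; group
  rw [this, ← h.wc (h.cw ha hy) hx, mul_inv_cancel_right]

omit h in
theorem c1 (ha : a ∈ A) (hc : c ∈ C(A)) : ⁅a, c⁆ = 1 := commutatorElement_eq_one_iff_mul_comm.2 (mem_cen.1 hc a ha)
omit h in
theorem memC (hx : ∀ a ∈ A, ⁅a, x⁆ = 1) : x ∈ C(A) :=
  mem_cen.2 fun a ha => commutatorElement_eq_one_iff_mul_comm.1 (hx a ha)

theorem same (ha : a ∈ A) (hb : b ∈ A) (e : a * a = b * b) (hx : x ∈ P ⊓ C(W)) : ⁅a, x⁆ = ⁅b, x⁆ := by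
  have h1 : a * b⁻¹ ∈ W := (h.memW _).2 ⟨mul_mem ha (inv_mem hb), by
    rw [mul_assoc, ← mul_assoc b⁻¹, h.ab.comm (inv_mem hb) ha, mul_assoc, ← mul_assoc, e]; group⟩
  have := h.cl (h.WA h1) hb hx
  rwa [inv_mul_cancel_right, commutatorElement_eq_one_iff_mul_comm.2 (h.wc h1 hx), one_mul] at this

theorem sqC (hx : x ∈ P ⊓ C(W)) : x * x ∈ P ⊓ C(A) :=
  ⟨mul_mem hx.1 hx.1, memC fun a ha => by rw [h.cr ha hx hx, h.w2 (h.cw ha hx)]⟩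

theorem cmul (ha : a ∈ A) (hc : c ∈ P ⊓ C(A)) (hx : x ∈ P ⊓ C(W)) : ⁅a, c * x⁆ = ⁅a, x⁆ := by
  rw [h.cr ha (h.CD hc) hx, c1 ha hc.2, one_mul]

theorem commC (hx : x ∈ P ⊓ C(W)) (hy : y ∈ P ⊓ C(W)) : ⁅x, y⁆ ∈ C(A) := comm_sq (fun s hs => (h.sqC hs).2) hx hy

theorem cj (ha : a ∈ A) (hs : s ∈ P) (ht : t ∈ P ⊓ C(W)) (e : ⁅s, t⁆ ∈ C(A)) : ⁅s * a * s⁻¹, t⁆ = s * ⁅a, t⁆ * s⁻¹ := by
  have e1 : s * ⁅a, t⁆ * s⁻¹ = ⁅s * a * s⁻¹, ⁅s, t⁆ * t⁆ := by simp only [commutatorElement_def]; group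
  rw [e1, h.cmul (conj_mem (h.nA hs) ha) ⟨cmem hs ht.1, e⟩ ht]

theorem ni_mul (hc : c ∈ P ⊓ C(A)) (hx : x ∈ P ⊓ C(W)) (hn : Ni A x) : Ni A (c * x) := fun a ha e =>
  hn a ha (by rwa [h.cmul ha hc hx] at e)

theorem un_mul (hc : c ∈ P ⊓ C(A)) (hn : Un P A W x) : Un P A W (c * x) :=
  ⟨mul_mem (h.CD hc) hn.mem, fun e => hn.out ((Subgroup.mul_mem_cancel_left _ hc.2).1 e), h.ni_mul hc hn.mem hn.ni, fun g hg => by
    have : ⁅c * x, g⁆ = c * ⁅x, g⁆ * (g * c⁻¹ * g⁻¹) := by simp only [commutatorElement_def]; group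
    rw [this]
    exact mul_mem (mul_mem hc.2 (hn.nm g hg)) (conj_mem (h.nC hg) (inv_mem hc.2))⟩

omit h in
theorem Ni.no (hn : Ni A x) (hf : f ∈ A) (e : x * f * x⁻¹ = f⁻¹) : f * f = 1 := hn f hf (by
  have : ⁅f, x⁆ = f * (x * f * x⁻¹)⁻¹ := by rw [commutatorElement_def]; group
  rw [this, e, inv_inv])

theorem ni_C (hx : x ∈ C(A)) : Ni A x := fun a ha e => by rw [← e, c1 ha hx]

theorem inv_C (hn : Ni A x) (hc : c ∈ P ⊓ C(A)) (e : x * c * x⁻¹ = c⁻¹) : c ∈ W := by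
  refine h.inW hc (by_contra fun h2 => ?_)
  obtain ⟨f, hf, f2, f4, fi⟩ := inv_four (h.pP.piElt hc.1) h2
  exact f2 (Ni.no hn (h.om f (zpowers_le.2 hc hf) f4) (fi x e))

theorem inv_cos (hn : Ni A x) (x2 : x * x = 1) (hc : c ∈ P ⊓ C(A)) (e : c * x * (c * x) = 1) : c ∈ W :=
  h.inv_C hn hc (by
    rw [inv_eq_of_mul_eq_one_right x2, eq_inv_iff_mul_eq_one]
    calc _ = c⁻¹ * (c * x * (c * x)) * c := by group
      _ = 1 := by rw [e]; group)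

theorem srC : SR 2 (P ⊓ C(A)) := sr_two h.cW fun c hc x hx e => h.inv_C (h.ni_C hx.2) hc e

theorem fin (hi : C(A).relIndex (P ⊓ C(W)) ≤ 4)
    (hs : ∀ s ∈ P, s ∉ C(W) → C(A).relIndex (P ⊓ C(W) ⊓ cm C(A) s) ≤ 2) : SR 4 P := by
  have e : ∀ H ≤ P, (P ⊓ C(A)).relIndex H = C(A).relIndex H := fun H hH => by
    rw [← inf_relIndex_right, ← inf_relIndex_right C(A), inf_right_comm, inf_eq_right.2 hH, inf_comm]
  have i1 : ∀ H ≤ P, C(A).relIndex H ≤ C(A).relIndex (C(W) ⊓ H) * 2 := fun H hH =>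
    (rel_le_mul _ C(W) H).trans (Nat.mul_le_mul_left _ ((rel_mono hH).trans h.iD))
  refine sr_four (Y := C(A)) h.srC (fun x hx => mul_mem hx.2 hx.2) ?_ fun H hH h2 => ?_
  · have := i1 P le_rfl
    rw [inf_comm] at this
    rw [e P le_rfl]; omega
  rw [e H hH]
  by_cases h1 : H ≤ C(W)
  · exact (rel_mono (le_inf hH h1)).trans hi
  obtain ⟨s, s1, s2⟩ := SetLike.not_le_iff_exists.1 h1
  have := (rel_mono (H := C(A)) (K := C(W) ⊓ H) (L := P ⊓ C(W) ⊓ cm C(A) s) fun t ht =>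
    ⟨⟨hH ht.2, ht.1⟩, h.nC (hH ht.2), comm_sq h2 s1 ht.2⟩).trans (hs s (hH s1) s2)
  have := i1 H hH
  omega

omit h in
theorem idx (ha : a ∈ A) (h1 : ∀ x ∈ X, ⁅a, x⁆ ∈ V) (h2 : ∀ x ∈ X, ⁅a, x⁆ = 1 → x ∈ C(A)) : C(A).relIndex X ≤ #V := by
  refine le_trans ?_ (H3.relIndex_centralizer_le_card X V (y := a) fun g hg => by
    rw [← commutatorElement_inv]; exact inv_mem (h1 g hg))
  rw [← inf_relIndex_right C[a]]
  exact rel_anti fun x hx => h2 x hx.2 (commutatorElement_eq_one_iff_mul_comm.2 (mem_cen1.1 hx.1).symm)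

theorem cyc (ha : a ∈ A) (hc : ∀ c ∈ A, c * c = 1 ∨ c * c = a * a) : SR 4 P := by
  have k : ∀ x ∈ P ⊓ C(W), ⁅a, x⁆ = 1 → x ∈ C(A) := fun x hx e => memC fun c hc' => by
    rcases hc c hc' with e1 | e1
    · rw [h.same hc' (one_mem _) (by rw [e1, mul_one]) hx, commutatorElement_one_left]
    · rw [h.same hc' ha e1 hx, e]
  refine h.fin ((idx ha (fun x hx => h.cw ha hx) k).trans h.cW) fun s hs hn => ?_
  have h2 := two_card (inf_le_left : W ⊓ C[s] ≤ W) fun e => hn (mem_cen.2 fun w hw => mem_cen1.1 (e hw).2)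
  have := h.cW
  refine (idx (X := P ⊓ C(W) ⊓ cm C(A) s) (V := W ⊓ C[s]) ha (fun x hx => ⟨h.cw ha hx.1, mem_cen1.2 ?_⟩) fun x hx => k x hx.1).trans (by omega)
  have h3 := conj_mem (h.nA hs) ha
  have e : s * a * s⁻¹ * (s * a * s⁻¹) = a * a := by
    rcases hc _ h3 with e | e
    · rw [e]; rw [conj_mul (b := s), conj_eq_one_iff] at e; exact e.symm
    · exact e
  have := h.cj ha hs hx.1 hx.2.2
  rw [h.same h3 ha e hx.1] at this
  conv_lhs => rw [this]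
  group

end Fa

/-- the case `A ≅ Z₄ × Z₄` -/
structure Fb (P A W : Subgroup G) (a b : G) : Prop extends Fa P A W where
  ha : a ∈ A
  hb : b ∈ A
  a1 : a * a ≠ 1
  b1 : b * b ≠ 1
  ne2 : a * a ≠ b * b
  zc : ∀ g ∈ P, g * (a * a) * g⁻¹ = a * a

namespace Fb
variable (h : Fb P A W a b)
include h

theorem wa : a * a ∈ W := h.sw a h.ha
theorem wb : b * b ∈ W := h.sw b h.hb
theorem four (hw : w ∈ W) : w = 1 ∨ w = a * a ∨ w = b * b ∨ w = a * a * (b * b) :=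
  four_mem h.aW h.cW h.wa h.wb h.a1 h.b1 h.ne2 hw
theorem ab2 : a * b * (a * b) = a * a * (b * b) := by
  rw [mul_assoc, ← mul_assoc b, h.ab.comm h.hb h.ha]; group
theorem c4 : #W = 4 := h.cW.antisymm (by
  have h1 := two_card (zpowers_le.2 h.wa) fun e => by
    rcases (H3.mem_zpowers_two (h.aW.pow h.wa)).1 (e h.wb) with e | e
    exacts [h.b1 e, h.ne2 e.symm]
  rwa [card_zpowers', orderOf_eq_prime (h.aW.pow h.wa) h.a1] at h1)

theorem rep (hc : c ∈ A) (hx : x ∈ P ⊓ C(W)) : (c * c = 1 ∧ ⁅c, x⁆ = 1) ∨ (c * c = a * a ∧ ⁅c, x⁆ = ⁅a, x⁆) ∨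
    (c * c = b * b ∧ ⁅c, x⁆ = ⁅b, x⁆) ∨ (c * c = a * a * (b * b) ∧ ⁅c, x⁆ = ⁅a, x⁆ * ⁅b, x⁆) := by
  rcases h.four (h.sw c hc) with e | e | e | e
  · exact Or.inl ⟨e, by rw [h.same hc (one_mem _) (by rw [e, mul_one]) hx, commutatorElement_one_left]⟩
  · exact Or.inr (Or.inl ⟨e, h.same hc h.ha e hx⟩)
  · exact Or.inr (Or.inr (Or.inl ⟨e, h.same hc h.hb e hx⟩))
  · exact Or.inr (Or.inr (Or.inr ⟨e, by rw [h.same hc (mul_mem h.ha h.hb) (e.trans h.ab2.symm) hx, h.cl h.ha h.hb hx]⟩))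

theorem inC (hx : x ∈ P ⊓ C(W)) (e1 : ⁅a, x⁆ = 1) (e2 : ⁅b, x⁆ = 1) : x ∈ C(A) := Fa.memC fun c hc => by
  rcases h.rep hc hx with e | e | e | e <;> simp [e.2, e1, e2]

theorem ni (hx : x ∈ P ⊓ C(W)) (e1 : ⁅a, x⁆ ≠ a * a) (e2 : ⁅b, x⁆ ≠ b * b) (e3 : ⁅a, x⁆ * ⁅b, x⁆ ≠ a * a * (b * b)) :
    Ni A x := fun c hc e0 => by
  rcases h.rep hc hx with e | e | e | e
  · exact e.1
  all_goals exact absurd (e.2.symm.trans (e0.trans e.1)) ‹_›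

theorem adjust (hy : y ∈ P ⊓ C(W)) (hn : Ni A y) (y2 : y * y ∈ W) : ∃ c ∈ A, c * y * (c * y) = 1 := by
  have k : ∀ c ∈ A, c * y * (c * y) = c * c * ⁅c, y⁆ * (y * y) := fun c hc => by
    have : c * y * (c * y) = c * ⁅c, y⁆⁻¹ * c * (y * y) := by rw [commutatorElement_def]; group
    rw [this, h.wi (h.cw hc hy), mul_assoc c, h.wc (h.cw hc hy) (h.AD hc), ← mul_assoc c]
  have m : ∀ c ∈ A, c * c * ⁅c, y⁆ ∈ W := fun c hc => mul_mem (h.sw c hc) (h.cw hc hy)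
  have n : ∀ c ∈ A, c * c ≠ 1 → c * c * ⁅c, y⁆ ≠ 1 := fun c hc h1 e =>
    h1 (hn c hc (by rw [eq_inv_of_mul_eq_one_right e, h.wi (h.sw c hc)]))
  have e3 : a * b * (a * b) * ⁅a * b, y⁆ = a * a * ⁅a, y⁆ * (b * b * ⁅b, y⁆) := by
    rw [h.ab2, h.cl h.ha h.hb hy, mul_assoc (a * a), ← mul_assoc (b * b), h.aW.ab.comm h.wb (h.cw h.ha hy)]; group
  have n3 := n _ (mul_mem h.ha h.hb) (by
    rw [h.ab2]; exact fun e => h.ne2 (by rw [eq_inv_of_mul_eq_one_left e, h.wi h.wb]))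
  rcases four_mem h.aW h.cW (m a h.ha) (m b h.hb) (n a h.ha h.a1) (n b h.hb h.b1)
    (fun e => n3 (by rw [e3, e, h.w2 (m b h.hb)])) y2 with e | e | e | e
  · exact ⟨1, one_mem _, by simpa using e⟩
  · exact ⟨a, h.ha, by rw [k a h.ha, ← e, h.w2 y2]⟩
  · exact ⟨b, h.hb, by rw [k b h.hb, ← e, h.w2 y2]⟩
  · exact ⟨a * b, mul_mem h.ha h.hb, by rw [k _ (mul_mem h.ha h.hb), e3, ← e, h.w2 y2]⟩

theorem AC : A ≤ P ⊓ C(A) := le_inf h.le h.ab.le_cen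

theorem un_sq (hn : Un P A W y) : y * y ∉ W := fun y2 => by
  obtain ⟨c, hc, e⟩ := h.adjust hn.mem hn.ni y2
  have hu := h.un_mul (h.AC hc) hn
  generalize c * y = u at *
  have hk : ∀ g ∈ P, ⁅u, g⁆ ∈ W := fun g hg => by
    refine h.inv_cos hu.ni e ⟨cmem hu.mem.1 hg, hu.nm g hg⟩ ?_
    have : ⁅u, g⁆ * u * (⁅u, g⁆ * u) = u * g * u⁻¹ * g⁻¹ * (u * u) * g * u⁻¹ * g⁻¹ * u := by
      rw [commutatorElement_def]; group
    rw [this, e, mul_one, inv_mul_cancel_right, inv_eq_of_mul_eq_one_right e, mul_assoc (u * g), e, mul_one,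
      mul_inv_cancel_right, e]
  have e2 : u ^ 2 = 1 := by rwa [sq]
  have := h.ne (W ⊔ ⟪u⟫) (sup_le (h.WA.trans h.le) (zpowers_le.2 hu.mem.1)) (nrm_sup h.nW hu.mem.1 hk)
    (h.aW.sup_zpowers hu.mem.2 e2)
  rw [H3.card_sup_zpowers Nat.prime_two (h.nW hu.mem.1) (fun k => hu.out (h.ab.le_cen (h.WA k))) (e2 ▸ one_mem _),
    h.c4] at this
  omega

theorem srN (hn : Un P A W d) : SR 2 (P ⊓ C(A) ⊔ ⟪d⟫) := by
  have nd : d ∈ N(P ⊓ C(A)) := norms_subcent (le_nrm P) h.nA hn.mem.1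
  have k : ∀ y ∈ P ⊓ C(A) ⊔ ⟪d⟫, y ∈ P ⊓ C(A) ∨ Un P A W y := fun y hy => by
    rcases mem_sup2 nd (h.sqC hn.mem) hy with e | ⟨c, hc, rfl⟩
    exacts [Or.inl e, Or.inr (h.un_mul hc hn)]
  refine sr_two h.cW fun c hc x hx e => ?_
  have nx : Ni A x := (k x hx).elim (fun e => h.ni_C e.2) Un.ni
  rcases k c hc with hc' | hc'
  · exact h.inv_C nx hc' e
  by_cases c2 : c * c = 1
  · exact absurd (c2 ▸ one_mem W) (h.un_sq hc')
  obtain ⟨f, hf, f2, f4, fi⟩ := inv_four (h.pP.piElt hc'.mem.1) c2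
  rcases k f (zpowers_le.2 hc hf) with hf' | hf'
  · exact absurd (Fa.Ni.no nx (h.om f hf' f4) (fi x e)) f2
  · exact absurd (h.inW (h.sqC hf'.mem) f4) (h.un_sq hf')

theorem noOm (hn : Un P A W d) (hx : x ∈ P ⊓ C(W)) (nx : Ni A x) (fx : ∀ c ∈ A, ⁅c, x⁆ = 1 → c * c = 1) : False := by
  have k : ∀ y ∈ P ⊓ C(W), (∀ c ∈ A, ⁅c, y⁆ = 1 → c * c = 1) → ∀ c ∈ P ⊓ C(A), c * y = y * c → c ∈ W :=
    fun y hy fy c hc e => by
    refine h.inW hc (by_contra fun h2 => ?_)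
    obtain ⟨f, hf, f2, f4, -⟩ := inv_four (h.pP.piElt hc.1) h2
    exact f2 (fy f (h.om f (zpowers_le.2 hc hf) f4)
      (commutatorElement_eq_one_iff_mul_comm.2 (mem_cen1.1 (zpowers_le.2 (mem_cen1.2 e) hf))))
  obtain ⟨c, hc, e⟩ := h.adjust hx nx (k x hx fx _ (h.sqC hx) (mul_assoc _ _ _))
  have hu := mul_mem (h.AD hc) hx
  have nu := h.ni_mul (h.AC hc) hx nx
  have fu : ∀ f ∈ A, ⁅f, c * x⁆ = 1 → f * f = 1 := fun f hf e => fx f hf (by rwa [h.cmul hf (h.AC hc) hx] at e)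
  generalize c * x = u at *
  have e1 : ⁅d, u⁆ * u = d * u * d⁻¹ := by rw [commutatorElement_def]; group
  have hw : ⁅d, u⁆ ∈ W := h.inv_cos nu e ⟨cmem hn.mem.1 hu.1, hn.nm u hu.1⟩ (by
    rw [e1, conj_mul (b := d), e]; group)
  refine h.un_sq hn (k u hu fu _ (h.sqC hn.mem) ?_)
  calc d * d * u = d * (d * u * d⁻¹) * d := by group
    _ = ⁅d, u⁆ * (d * u * d⁻¹) * (d * d) := by rw [← e1, ← mul_assoc d, ← h.wc hw hn.mem, e1]; group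
    _ = _ := by rw [← e1, ← mul_assoc ⁅d, u⁆, h.w2 hw, one_mul]

theorem exR : ∃ R : Subgroup (G × G), R ≤ W.prod W ∧ R.relIndex (W.prod W) * C(A).relIndex (P ⊓ C(W)) = 16 ∧
    ∀ u v, (u, v) ∈ R → ∃ x ∈ P ⊓ C(W), ⁅a, x⁆ = u ∧ ⁅b, x⁆ = v := by
  let φ : ↥(P ⊓ C(W)) →* G × G := MonoidHom.mk' (fun x => (⁅a, (x : G)⁆, ⁅b, (x : G)⁆)) fun x y => by
    simp only [Subgroup.coe_mul, h.cr h.ha x.2 y.2, h.cr h.hb x.2 y.2, Prod.mk_mul_mk]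
  have hle : φ.range ≤ W.prod W := by rintro _ ⟨x, rfl⟩; exact ⟨h.cw h.ha x.2, h.cw h.hb x.2⟩
  have hk : φ.ker = C(A).subgroupOf (P ⊓ C(W)) := by
    ext x
    rw [MonoidHom.mem_ker, mem_subgroupOf]
    exact ⟨fun e => h.inC x.2 (congrArg Prod.fst e) (congrArg Prod.snd e),
      fun e => Prod.ext (Fa.c1 h.ha e) (Fa.c1 h.hb e)⟩
  refine ⟨φ.range, hle, ?_, fun u v ⟨x, e⟩ => ⟨x, x.2, congrArg Prod.fst e, congrArg Prod.snd e⟩⟩
  have := FT.card_mul_relIndex hle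
  rw [Nat.card_congr (prodEquiv W W).toEquiv, Nat.card_prod, h.c4, ← index_ker, hk] at this
  rw [mul_comm]; exact this

theorem conj_b (hs : s ∈ P) (hn : s ∉ C(W)) : s * (b * b) * s⁻¹ = a * a * (b * b) := by
  rcases h.four (conj_mem (h.nW hs) h.wb) with e | e | e | e
  · exact absurd (conj_eq_one_iff.1 e) h.b1
  · exact absurd (mul_left_cancel (mul_right_cancel ((h.zc s hs).trans e.symm))) h.ne2
  · refine absurd (mem_cen.2 fun w hw => (mul_inv_eq_iff_eq_mul.1 ?_).symm) hn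
    rcases h.four hw with rfl | rfl | rfl | rfl
    exacts [by group, h.zc s hs, e, by rw [← conj_mul (b := s), h.zc s hs, e]]
  · exact e

theorem ls (hs : s ∈ P) (hn : s ∉ C(W)) (ht : t ∈ P ⊓ C(W)) (e : ⁅s, t⁆ ∈ C(A)) :
    ⁅a, t⁆ * ⁅b, t⁆ = s * ⁅b, t⁆ * s⁻¹ := by
  rw [← h.cj h.hb hs ht e, ← h.cl h.ha h.hb ht]
  exact h.same (mul_mem h.ha h.hb) (conj_mem (h.nA hs) h.hb) (by rw [conj_mul (b := s), h.conj_b hs hn, h.ab2]) ht

theorem facts : a * a * (a * a) = 1 ∧ b * b * (b * b) = 1 ∧ b * b * (a * a) = a * a * (b * b) ∧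
    a * a * (a * a * (b * b)) = b * b ∧ b * b * (a * a * (b * b)) = a * a ∧ a * a * (b * b) * (a * a) = b * b ∧
    a * a * (b * b) * (b * b) = a * a ∧ a * a * (b * b) ≠ 1 ∧ a * a * (b * b) ≠ a * a ∧ a * a * (b * b) ≠ b * b := by
  have h1 := h.w2 h.wa
  have h2 := h.w2 h.wb
  have h3 := h.aW.ab.comm h.wb h.wa
  refine ⟨h1, h2, h3, by rw [← mul_assoc, h1, one_mul], by rw [← h3, ← mul_assoc, h2, one_mul],
    by rw [← h3, mul_assoc, h1, mul_one], by rw [mul_assoc, h2, mul_one],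
    fun e => h.ne2 (by rw [eq_inv_of_mul_eq_one_left e, h.wi h.wb]), by simpa using h.b1, by simpa using h.a1⟩

theorem caseA (hn : Un P A W d) : SR 4 P := by
  obtain ⟨f1, f2, f3, f4, f5, f6, f7, f8, f9, f10⟩ := h.facts
  have nd : d ∈ N(P ⊓ C(A)) := norms_subcent (le_nrm P) h.nA hn.mem.1
  have i2 := H3.relIndex_sup_zpowers Nat.prime_two nd (fun e => hn.out e.2) (by rw [sq]; exact h.sqC hn.mem)
  have k : ∀ L, P ⊓ C(A) ⊔ ⟪d⟫ ≤ L → L ≤ P → 2 * (P ⊓ C(A) ⊔ ⟪d⟫).relIndex L = C(A).relIndex L := fun L h1 h2 => by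
    rw [← i2, relIndex_mul_relIndex _ _ _ le_sup_left h1, ← inf_relIndex_right, ← inf_relIndex_right C(A), inf_right_comm,
      inf_eq_right.2 h2, inf_comm]
  have hD : P ⊓ C(A) ⊔ ⟪d⟫ ≤ P ⊓ C(W) := sup_le h.CD (zpowers_le.2 hn.mem)
  have i8 : C(A).relIndex (P ⊓ C(W)) ≤ 8 := by
    obtain ⟨R, h1, h2, h3⟩ := h.exR
    by_cases e : W.prod W ≤ R
    · obtain ⟨x, hx, e1, e2⟩ := h3 (b * b) (a * a * (b * b)) (e ⟨h.wb, mul_mem h.wa h.wb⟩)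
      refine (h.noOm hn hx (h.ni hx (e1 ▸ h.ne2.symm) (e2 ▸ f10) (by rw [e1, e2, f5]; exact f9.symm)) fun c hc e0 => ?_).elim
      rcases h.rep hc hx with e | e | e | e
      · exact e.1
      · exact absurd (e1.symm.trans (e.2.symm.trans e0)) h.b1
      · exact absurd (e2.symm.trans (e.2.symm.trans e0)) f8
      · rw [e1, e2, f5] at e; exact absurd (e.2.symm.trans e0) h.a1
    · have := one_lt_relIndex e
      nlinarith
  have i4 := k _ hD inf_le_left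
  have i1 : ∀ H ≤ P, (P ⊓ C(A) ⊔ ⟪d⟫).relIndex H ≤ (P ⊓ C(A) ⊔ ⟪d⟫).relIndex (C(W) ⊓ H) * 2 := fun H hH =>
    (rel_le_mul _ C(W) H).trans (Nat.mul_le_mul_left _ ((rel_mono hH).trans h.iD))
  refine sr_four (Y := C(A)) (h.srN hn) (fun x hx => (h.sqC (hD hx)).2) ?_ fun H hH h2 => ?_
  · have := i1 P le_rfl
    rw [inf_comm C(W)] at this
    omega
  by_cases h1 : H ≤ C(W)
  · exact (rel_mono (le_inf hH h1)).trans (by omega)
  obtain ⟨s, s1, s2⟩ := SetLike.not_le_iff_exists.1 h1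
  have a1 := (rel_mono (H := P ⊓ C(A) ⊔ ⟪d⟫) (K := C(W) ⊓ H) (L := P ⊓ C(W) ⊓ cm C(A) s) fun t ht =>
    ⟨⟨hH ht.2, ht.1⟩, h.nC (hH ht.2), comm_sq h2 s1 ht.2⟩)
  have a2 := k (P ⊓ C(W) ⊓ cm C(A) s) (le_inf hD (sup_le (fun c hc => ⟨h.nC hc.1, by
      rw [commutatorElement_def]; exact mul_mem (conj_mem (h.nC (hH s1)) hc.2) (inv_mem hc.2)⟩)
    (zpowers_le.2 ⟨h.nC hn.mem.1, by rw [← commutatorElement_inv]; exact inv_mem (hn.nm s (hH s1))⟩)))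
    (inf_le_left.trans inf_le_left)
  have a3 := (Fa.idx (X := P ⊓ C(W) ⊓ cm C(A) s) h.hb (fun x hx => h.cw h.hb hx.1) fun x hx e => h.inC hx.1 (by
    simpa [e] using h.ls (hH s1) s2 hx.1 hx.2.2) e).trans h.cW
  have := i1 H hH
  omega

theorem caseB (hn : ∀ d, ¬ Un P A W d) : SR 4 P := by
  obtain ⟨f1, f2, f3, f4, f5, f6, f7, f8, f9, f10⟩ := h.facts
  by_cases hP : P ≤ C(W)
  · refine h.fin (by_contra fun hi => ?_) fun s hs e => absurd (hP hs) e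
    obtain ⟨R, h1, h2, h3⟩ := h.exR
    have k : ∀ u v, (u ≠ 1 ∨ v ≠ 1) → u ≠ a * a → v ≠ b * b → u * v ≠ a * a * (b * b) → (u, v) ∉ R :=
      fun u v e0 e1 e2 e3 hR => by
      obtain ⟨x, hx, rfl, rfl⟩ := h3 u v hR
      exact hn x ⟨hx, fun e => e0.elim (· (Fa.c1 h.ha e)) (· (Fa.c1 h.hb e)), h.ni hx e1 e2 e3,
        fun g hg => h.commC hx ⟨hg, hP hg⟩⟩
    have wab := mul_mem h.wa h.wb
    have n0 := k 1 (a * a) (Or.inr h.a1) h.a1.symm h.ne2 (by rw [one_mul]; exact f9.symm)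
    have n1 := k (b * b) 1 (Or.inl h.b1) h.ne2.symm h.b1.symm (by rw [mul_one]; exact f10.symm)
    have n2 := k _ _ (Or.inl f8) f9 f10 (by rw [h.w2 wab]; exact f8.symm)
    have n3 := k (b * b) _ (Or.inl h.b1) h.ne2.symm f10 (by rw [f5]; exact f9.symm)
    have n4 := k _ (a * a) (Or.inl f8) f9 h.ne2 (by rw [f6]; exact f10.symm)
    have i2 : R.relIndex (W.prod W) = 2 := by
      have := one_lt_relIndex (A := R) (B := W.prod W) fun e => n0 (e ⟨one_mem _, h.wa⟩)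
      by_contra e
      have h4 : 3 ≤ R.relIndex (W.prod W) := by omega
      have h5 : R.relIndex (W.prod W) ≠ 3 := fun e => by rw [e] at h2; omega
      nlinarith [show 4 ≤ R.relIndex (W.prod W) by omega]
    have m1 := H3.mul_mem_of_relIndex_two i2 (x := (1, a * a)) (y := (b * b, 1)) ⟨one_mem _, h.wa⟩ ⟨h.wb, one_mem _⟩ n0 n1
    have m2 := H3.mul_mem_of_relIndex_two i2 (x := (b * b, a * a * (b * b))) (y := (a * a * (b * b), a * a))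
      ⟨h.wb, wab⟩ ⟨wab, h.wa⟩ n3 n4
    have := mul_mem m1 m2
    simp only [Prod.mk_mul_mk, one_mul, mul_one, f5, f6, f3] at this
    exact n2 this
  obtain ⟨s, s1, s2⟩ := SetLike.not_le_iff_exists.1 hP
  have k : ∀ x ∈ P ⊓ C(W), ⁅a, x⁆ = 1 → x ∈ C(A) := fun x hx e => by_contra fun hx' => by
    have nD : P ≤ N(P ⊓ C(W)) := norms_subcent (le_nrm P) h.nW
    obtain ⟨y, hy, n1, -, n3⟩ := exists_mod (Q := P ⊓ C(W) ⊓ C[a]) (Y := C(A)) h.pP (inf_le_left.trans inf_le_left)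
      (le_nrm_iff.2 fun g hg y hy => ⟨conj_mem (nD hg) hy.1, by
        have e1 : ⁅a, g * y * g⁻¹⁆ = g * ⁅g⁻¹ * a * g⁻¹⁻¹, y⁆ * g⁻¹ := by simp only [commutatorElement_def]; group
        rw [h.same (conj_mem (h.nA (inv_mem hg)) h.ha) h.ha (by rw [conj_mul (b := g⁻¹), h.zc _ (inv_mem hg)]) hy.1,
          commutatorElement_eq_one_iff_mul_comm.2 (mem_cen1.1 hy.2).symm, mul_one, mul_inv_cancel] at e1
        exact mem_cen1.2 (commutatorElement_eq_one_iff_mul_comm.1 e1).symm⟩)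
      fun k => hx' (k ⟨hx, mem_cen1.2 (commutatorElement_eq_one_iff_mul_comm.1 e).symm⟩)
    have e1 := commutatorElement_eq_one_iff_mul_comm.2 (mem_cen1.1 hy.2).symm
    have e2 := h.ls s1 s2 hy.1 (by rw [← commutatorElement_inv]; exact inv_mem (n3 s s1))
    rw [e1, one_mul] at e2
    rcases h.four (h.cw h.hb hy.1) with e | e | e | e
    · exact n1 (h.inC hy.1 e1 e)
    · exact hn y ⟨hy.1, n1, h.ni hy.1 (e1 ▸ h.a1.symm) (e ▸ h.ne2) (by rw [e1, e, one_mul]; exact f9.symm), n3⟩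
    · rw [e, h.conj_b s1 s2] at e2; exact f10 e2.symm
    · rw [e, ← conj_mul (b := s), h.zc s s1, h.conj_b s1 s2, f4] at e2; exact f10 e2
  refine h.fin ((Fa.idx h.ha (fun x hx => h.cw h.ha hx) k).trans h.cW) fun s hs hn => ?_
  refine (Fa.idx (X := P ⊓ C(W) ⊓ cm C(A) s) (V := ⟪a * a⟫) h.ha (fun x hx => ?_) fun x hx => k x hx.1).trans (by
    rw [card_zpowers', orderOf_eq_prime (h.aW.pow h.wa) h.a1])
  have e2 := eq_mul_inv_of_mul_eq (h.ls hs hn hx.1 hx.2.2)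
  rw [h.wi (h.cw h.hb hx.1)] at e2
  rw [e2, H3.mem_zpowers_two (h.aW.pow h.wa)]
  rcases h.four (h.cw h.hb hx.1) with e | e | e | e <;> rw [e]
  · simp
  · rw [h.zc s hs, f1]; simp
  · rw [h.conj_b hs hn, f7]; simp
  · rw [← conj_mul (b := s), h.zc s hs, h.conj_b hs hn, f4, f5]; simp

end Fb

theorem macw (pP : PGrp 2 P) (ne : ∀ E ≤ P, P ≤ N(E) → Abelem 2 E → #E ≤ 4) : SR 4 P := by
  obtain ⟨A, W, h⟩ := exists_fa pP ne
  by_cases h1 : ∃ a ∈ A, ∀ c ∈ A, c * c = 1 ∨ c * c = a * a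
  · obtain ⟨a, ha, hc⟩ := h1
    exact h.cyc ha hc
  push Not at h1
  obtain ⟨c, hc, c1, -⟩ := h1 1 (one_mem _)
  obtain ⟨d, hd, d1, cd⟩ := h1 c hc
  obtain ⟨w, hw, w1, -, wc⟩ := exists_mod (Y := ⊥) pP (h.WA.trans h.le) h.nW fun e => c1 (mem_bot.1 (e (h.sw c hc)))
  have ⟨a, ha, e⟩ : ∃ a ∈ A, a * a = w := by
    rcases four_mem h.aW h.cW (h.sw c hc) (h.sw d hd) c1 d1 cd.symm hw with e | e | e | e
    · exact absurd (mem_bot.2 e) w1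
    · exact ⟨c, hc, e.symm⟩
    · exact ⟨d, hd, e.symm⟩
    · exact ⟨c * d, mul_mem hc hd, by rw [e, mul_assoc, ← mul_assoc d, h.ab.comm hd hc]; group⟩
  obtain ⟨b, hb, b1, ab⟩ := h1 a ha
  have hb : Fb P A W a b := ⟨h, ha, hb, fun k => w1 (mem_bot.2 (e ▸ k)), b1, ab.symm, fun g hg => by
    rw [e, ← commutatorElement_eq_one_iff_mul_comm.1 (mem_bot.1 (wc g hg)), mul_inv_cancel_right]⟩
  by_cases hn : ∃ d, Un P A W d
  · exact hb.caseA hn.choose_spec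
  · exact hb.caseB (not_exists.1 hn)

end Fg

end Cfsg.Agent.GO
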