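import Cfsg.Agent.GO.Mw2

/-! `2`-groups with a normal `E₈`. -/

set_option autoImplicit false
set_option linter.unusedSectionVars false
set_option linter.unusedVariables false

namespace Cfsg.Agent.GO

open Cfsg Subgroup Cfsg.Agent.FT Cfsg.Agent.GW
open scoped commutatorElement

universe u

variable {G : Type u} [Group G] [Finite G] {D : Set G} {p : ℕ}
  {A B E H J K L M P Q R S T U V W X Y Z : Subgroup G} {a b d e g r s t v w x y z : G}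

variable {c f l u : G} {N F : Subgroup G} {k : ℕ}

namespace Fg

theorem pw (hB : PGrp 2 B) (A : Subgroup G) : ∃ k, A.relIndex B = 2 ^ k := by
  obtain ⟨n, hn⟩ := hB.card
  obtain ⟨i, -, e⟩ := (Nat.dvd_prime_pow Nat.prime_two).1 (hn ▸ FT.relIndex_dvd A B)
  exact ⟨i, e⟩

theorem pw_cases (hB : PGrp 2 B) (A : Subgroup G) : A.relIndex B = 1 ∨ A.relIndex B = 2 ∨ A.relIndex B = 4 ∨
    8 ≤ A.relIndex B := by
  obtain ⟨k, e⟩ := pw hB A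
  rw [e]
  rcases k with _ | _ | _ | k
  · simp
  · simp
  · simp
  · have := Nat.one_le_two_pow (n := k)
    right; right; right; rw [pow_succ, pow_succ, pow_succ]; omega

theorem sr_cyc (a : G) : SR 1 ⟪a⟫ := fun K M hK hM hs => by
  obtain ⟨x, hx, rfl, -⟩ := ((cyc_zpowers a).mono hK).exists_gen
  have := H3.card_sup_zpowers_le (K := M) Nat.prime_two
    (cen_le_nrm _ (centsS hM (ab_zpowers x).le_cen (mem_zpowers x))) (by rw [sq]; exact hs x hx)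
  rwa [sup_eq_right.2 hM] at this

theorem SR.idx (h : SR k X) (hi : X.relIndex S ≤ 2) : SR (k + 1) S := fun K M hK hM hs => by
  have h1 := h (X ⊓ K) (M ⊓ (X ⊓ K)) inf_le_left inf_le_right fun x hx => ⟨hs x hx.2, mul_mem hx hx⟩
  have h2 : #(M ⊓ (X ⊓ K)) ≤ #M := card_le inf_le_left
  have h3 := (rel_mono (H := X) hK).trans hi
  rw [← card_inf_mul_relIndex X K, pow_succ]
  calc _ ≤ 2 ^ k * #M * 2 := Nat.mul_le_mul (h1.trans (Nat.mul_le_mul_left _ h2)) h3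
    _ = _ := by ring

theorem sr_mc {m : ℕ} (h : H3.MC S a b m) : SR 2 S := SR.idx (sr_cyc a) h.relIndex.le

theorem sr_card (h : #S ≤ 2 ^ k) : SR k S := fun K M hK hM hs =>
  ((card_le hK).trans h).trans (Nat.le_mul_of_pos_right _ (FT.card_pos M))

theorem nrm_sq (hM : M ≤ K) (hs : ∀ x ∈ K, x * x ∈ M) : K ≤ N(M) := (nml_of_der_le (GW.der_le_of_sq hs) hM).nrm

theorem sr_syl (hS : Syl 2 S ⊤) (h : SR k S) : SR k (⊤ : Subgroup G) := fun K M _ hM hs => by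
  obtain ⟨T, hT⟩ := exists_syl 2 K
  obtain ⟨g, -, hg⟩ := hS.syl_Jsub hT.pi le_top
  have h1 := h (cj g T) (cj g (M ⊓ T)) hg (cj_mono g inf_le_right) fun x hx => by
    obtain ⟨y, hy, rfl⟩ := mem_cj'.1 hx
    rw [conj_mul (b := g), conj_mem_cj]
    exact ⟨hs y (hT.le hy), mul_mem hy hy⟩
  rw [card_cj, card_cj] at h1
  have h2 : K ≤ M ⊔ T := le_of_forall_syl fun q hq _ => by
    by_cases e : q = 2
    · exact ⟨T, e ▸ hT, le_sup_right⟩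
    obtain ⟨Q, hQ⟩ := exists_syl q K
    refine ⟨Q, hQ, fun x hx => mem_sup_left ((hQ.pi.piElt hx).mem_of_pow_mem (n := 2)
      ((piNat_prime Nat.prime_two).2 fun k => e k.symm) (by rw [sq]; exact hs x (hQ.le hx)))⟩
  have h3 := card_sup_mul_card_inf (hT.le.trans (nrm_sq hM hs))
  have h4 := card_le h2
  have h5 := FT.card_pos (M ⊓ T)
  refine Nat.le_of_mul_le_mul_right ?_ h5
  calc _ ≤ #(M ⊔ T) * #(M ⊓ T) := Nat.mul_le_mul_right _ h4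
    _ ≤ #M * (2 ^ k * #(M ⊓ T)) := h3 ▸ Nat.mul_le_mul_left _ h1
    _ = _ := by ring

theorem of_top (h : SR k (⊤ : Subgroup G)) : SectionalPRankLE 2 k G := fun H N _ A _ hA => by
  have hN : N ≤ A.comap (QuotientGroup.mk' N) := fun x hx => by
    rw [mem_comap, QuotientGroup.mk'_apply, (QuotientGroup.eq_one_iff x).2 hx]; exact one_mem _
  have := h ((A.comap (QuotientGroup.mk' N)).map H.subtype) (N.map H.subtype) le_top (map_mono hN) (by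
      rintro _ ⟨x, hx, rfl⟩
      refine ⟨x * x, (QuotientGroup.eq_one_iff _).1 ?_, map_mul _ _ _⟩
      rw [QuotientGroup.mk_mul, ← sq]; exact hA _ hx)
  rw [card_map_of_injective H.subtype_injective, card_map_of_injective H.subtype_injective,
    ← FT.card_mul_relIndex hN, mul_comm] at this
  have e := relIndex_ker (A.comap (QuotientGroup.mk' N)) (QuotientGroup.mk' N)
  rw [QuotientGroup.ker_mk', map_comap_eq_self_of_surjective (QuotientGroup.mk'_surjective N)] at e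
  rw [← e]
  exact Nat.le_of_mul_le_mul_right this (FT.card_pos N)

theorem gen4 (hi : N.relIndex F ≤ 4) (hY : N ⊓ F ≤ Y) (hb : b ∈ F) (hx : x ∈ F) (bY : b ∈ Y) (xY : x ∈ Y) (bN : b ∉ N)
    (xN : x ∉ N) (e : x * b ∉ N) : F ≤ Y := by
  by_contra hn
  have h1 := one_lt_relIndex hn
  have h2 := relIndex_inf_mul_relIndex N Y F
  have h3 : (N ⊓ Y).relIndex F ≤ N.relIndex F := by
    rw [← inf_relIndex_right N]; exact rel_anti (le_inf inf_le_left hY)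
  have h4 := one_lt_relIndex (A := N) (B := Y ⊓ F) fun k => bN (k ⟨bY, hb⟩)
  exact e (H3.mul_mem_of_relIndex_two (S := Y ⊓ F) (by nlinarith) ⟨xY, hx⟩ ⟨bY, hb⟩ xN bN)

theorem c_iff : ⁅x, y⁆ = 1 ↔ x ∈ C[y] := commutatorElement_eq_one_iff_mul_comm.trans mem_cen1.symm
theorem c_mul (x y z : G) : ⁅x, y * z⁆ = ⁅x, y⁆ * (y * ⁅x, z⁆ * y⁻¹) := by simp only [commutatorElement_def]; group
theorem mul_c (x y z : G) : ⁅x * y, z⁆ = x * ⁅y, z⁆ * x⁻¹ * ⁅x, z⁆ := by simp only [commutatorElement_def]; group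
theorem c_conj (x y g : G) : g * ⁅x, y⁆ * g⁻¹ = ⁅g * x * g⁻¹, g * y * g⁻¹⁆ := by simp only [commutatorElement_def]; group
theorem conj_c (x g : G) : g * x * g⁻¹ = ⁅g, x⁆ * x := by simp only [commutatorElement_def]; group
theorem fix_of (hx : x ∈ C(E)) (he : e ∈ E) : x * e * x⁻¹ = e := by rw [← mem_cen.1 hx e he, mul_inv_cancel_right]
theorem idx1 (h : ∀ x ∈ X, ⁅a, x⁆ ∈ V) : C[a].relIndex X ≤ #V :=
  H3.relIndex_centralizer_le_card X V fun g hg => by rw [← commutatorElement_inv]; exact inv_mem (h g hg)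

/-- a normal `E₈` with an invariant flag -/
structure He (P E L : Subgroup G) (z : G) : Prop where
  pP : PGrp 2 P
  le : E ≤ P
  nE : P ≤ N(E)
  aE : Abelem 2 E
  cE : #E = 8
  LE : L ≤ E
  cL : #L = 4
  zL : z ∈ L
  z1 : z ≠ 1
  zc : z ∈ C(P)
  cl : ∀ l ∈ L, ∀ g ∈ P, ⁅l, g⁆ ∈ ⟪z⟫
  ce : ∀ e ∈ E, ∀ g ∈ P, ⁅e, g⁆ ∈ L

theorem exists_he (pP : PGrp 2 P) (le : E ≤ P) (nE : P ≤ N(E)) (aE : Abelem 2 E) (cE : #E = 8) : ∃ L z, He P E L z := by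
  obtain ⟨z, hz, z1, -, zc⟩ := exists_mod (Y := ⊥) pP le nE fun e => by
    have := card_le e; rw [cE, card_bot] at this; omega
  rw [mem_bot] at z1
  have zc : z ∈ C(P) := mem_cen.2 fun g hg => (commutatorElement_eq_one_iff_mul_comm.1 (mem_bot.1 (zc g hg))).symm
  have c2 : #⟪z⟫ = 2 := by rw [card_zpowers', orderOf_eq_prime (aE.pow hz) z1]
  obtain ⟨l, hl, l1, l2, lc⟩ := exists_mod (Y := ⟪z⟫) pP le nE fun e => by
    have := card_le e; omega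
  have nz : P ≤ N(⟪z⟫) := cents_norm (centsC (zpowers_le.2 zc))
  have c4 : #(⟪z⟫ ⊔ ⟪l⟫ : Subgroup G) = 4 := by rw [H3.card_sup_zpowers Nat.prime_two (nz (le hl)) l1 (by rwa [sq]), c2]
  have hL : ⟪z⟫ ⊔ ⟪l⟫ ≤ E := sup_le (zpowers_le.2 hz) (zpowers_le.2 hl)
  have i2 : (⟪z⟫ ⊔ ⟪l⟫).relIndex E = 2 := H3.relIndex_of_card_mul hL (by rw [cE, c4])
  have nL := nrm_sup nz (le hl) lc
  refine ⟨_, z, pP, le, nE, aE, cE, hL, c4, mem_sup_left (mem_zpowers z), z1, zc, fun x hx g hg => ?_, fun e he g hg => ?_⟩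
  · rcases mem_sup2 (nz (le hl)) l2 hx with h | ⟨c, hc, rfl⟩
    · rw [c_iff.2 (mem_cen1.2 (mem_cen.1 (zpowers_le.2 zc h) g hg).symm)]; exact one_mem _
    · rw [mul_c, c_iff.2 (mem_cen1.2 (mem_cen.1 (zpowers_le.2 zc hc) g hg).symm), mul_one]
      exact mul_mem (mul_mem hc (lc g hg)) (inv_mem hc)
  · have h1 : g * e⁻¹ * g⁻¹ ∈ E := conj_mem (nE hg) (inv_mem he)
    rw [commutatorElement_def, mul_assoc e, mul_assoc e, H3.mul_mem_iff_of_relIndex_two i2 he h1]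
    exact ⟨fun h => conj_mem (nL hg) (inv_mem h), fun h => by simpa [mul_assoc] using inv_mem (conj_mem' (nL hg) h)⟩

namespace He
variable (h : He P E L z)
include h

theorem e2 (he : e ∈ E) : e * e = 1 := by rw [← sq, h.aE.pow he]
theorem ei (he : e ∈ E) : e⁻¹ = e := inv_eq_of_mul_eq_one_right (h.e2 he)
theorem zE : z ∈ E := h.LE h.zL
theorem cz : #⟪z⟫ = 2 := by rw [card_zpowers', orderOf_eq_prime (h.aE.pow h.zE) h.z1]
theorem mz : x ∈ ⟪z⟫ ↔ x = 1 ∨ x = z := H3.mem_zpowers_two (h.aE.pow h.zE)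
theorem zle : ⟪z⟫ ≤ E := zpowers_le.2 h.zE
theorem zfix (hx : x ∈ ⟪z⟫) (hg : g ∈ P) : g * x * g⁻¹ = x := by
  rw [mem_cen.1 (zpowers_le.2 h.zc hx) g hg, mul_inv_cancel_right]
theorem EC : E ≤ P ⊓ C(E) := le_inf h.le h.aE.ab.le_cen
theorem nC : P ≤ N(P ⊓ C(E)) := norms_subcent (le_nrm P) h.nE
theorem cE' (he : e ∈ E) (hg : g ∈ P) : ⁅e, g⁆ ∈ E := h.LE (h.ce e he g hg)
theorem cmul (he : e ∈ E) (hc : c ∈ C(E)) (hx : x ∈ P) : ⁅e, c * x⁆ = ⁅e, x⁆ := by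
  rw [c_mul, Fa.c1 he hc, one_mul, fix_of hc (h.cE' he hx)]
theorem mulc (he : e ∈ E) (hu : ⁅u, x⁆ ∈ E) : ⁅e * u, x⁆ = ⁅u, x⁆ * ⁅e, x⁆ := by
  rw [mul_c, fix_of (h.aE.ab.le_cen he) hu]
theorem iL : C(L).relIndex P ≤ 2 := H3.relIndex_cen_le_sq Nat.prime_two h.pP ⟨h.LE.trans h.le,
  le_nrm_iff.2 fun g hg x hx => by
    rw [conj_c, ← commutatorElement_inv]; exact mul_mem (inv_mem (h.ce x (h.LE hx) g hg)) hx⟩ h.cL.le

theorem exE : ∃ e ∈ E, ∀ x ∈ C(L), x ∈ C[e] → x ∈ C(E) := by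
  obtain ⟨e, he, hn⟩ := SetLike.not_le_iff_exists.1 fun k : E ≤ L => by have := card_le k; rw [h.cE, h.cL] at this; omega
  refine ⟨e, he, fun x h1 h2 => ?_⟩
  rw [← H3.sup_zpowers_eq_of_prime (K := L) (by rw [H3.relIndex_of_card_mul h.LE (n := 2) (by rw [h.cE, h.cL])]; exact Nat.prime_two)
    h.LE he hn]
  exact centsY (X := ⟪x⟫) (zpowers_le.2 h1) (zpowers_le.2 (by rwa [cen_zpowers])) (mem_zpowers x)

theorem iC (hX : X ≤ P ⊓ C(L)) (hV : ∀ e ∈ E, ∀ x ∈ X, ⁅e, x⁆ ∈ V) : C(E).relIndex X ≤ #V := by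
  obtain ⟨e, he, k⟩ := h.exE
  refine le_trans ?_ (idx1 (hV e he))
  rw [← inf_relIndex_right C[e]]
  exact rel_anti fun x hx => k x (hX hx.2).2 hx.1

theorem i8 : C(E).relIndex P ≤ 8 := by
  have h1 := h.iC (X := C(L) ⊓ P) (by rw [inf_comm]) fun e he x hx => h.ce e he x hx.2
  have := h.iL
  rw [h.cL] at h1
  exact (rel_le_mul _ C(L) P).trans (by nlinarith)

theorem fixL (hn : s ∉ C(L)) (hs : s ∈ P) (hl : l ∈ L) (e : s * l * s⁻¹ = l) : l ∈ ⟪z⟫ := by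
  by_contra k
  refine hn ?_
  rw [← H3.sup_zpowers_eq_of_prime (K := ⟪z⟫) (by
    rw [H3.relIndex_of_card_mul (zpowers_le.2 h.zL) (n := 2) (by rw [h.cz, h.cL])]; exact Nat.prime_two) (zpowers_le.2 h.zL) hl k]
  exact centsY (X := ⟪s⟫) (centsC (zpowers_le.2 (cen_anti (zpowers_le.2 hs) h.zc)))
    (zpowers_le.2 (by rw [cen_zpowers, mem_cen1]; exact mul_inv_eq_iff_eq_mul.1 e)) (mem_zpowers s)

theorem one (hF : F ≤ P) (hs : ∀ x ∈ F, x * x ∈ C(E)) (hn : ¬ F ≤ C(L)) (he : e ∈ E) (hx : x ∈ F) : ⁅e, x⁆ ∈ ⟪z⟫ := by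
  have h1 := h.ce e he x (hF hx)
  by_cases k : x ∈ C(L)
  · obtain ⟨s, s1, s2⟩ := SetLike.not_le_iff_exists.1 hn
    refine h.fixL s2 (hF s1) h1 ?_
    have h2 : ⁅s, e⁆ ∈ L := by rw [← commutatorElement_inv]; exact inv_mem (h.ce e he s (hF s1))
    rw [c_conj, conj_c x, h.cmul (conj_mem (h.nE (hF s1)) he) (comm_sq hs s1 hx) (hF hx), conj_c,
      h.mulc (h.LE h2) (h.LE h1), Fa.c1 h2 k, mul_one]
  · refine h.fixL k (hF hx) h1 ?_
    have := Fa.c1 he (hs x hx)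
    rw [c_mul] at this
    rw [eq_inv_of_mul_eq_one_right this, h.ei (h.LE h1)]

theorem i4 (hF : F ≤ P) (hs : ∀ x ∈ F, x * x ∈ C(E)) : C(E).relIndex F ≤ 4 := by
  by_cases hn : F ≤ C(L)
  · exact h.cL ▸ h.iC (le_inf hF hn) fun e he x hx => h.ce e he x (hF hx)
  have h1 := h.iC (X := C(L) ⊓ F) (fun x hx => ⟨hF hx.2, hx.1⟩) fun e he x hx => h.one hF hs hn he hx.2
  have := (rel_mono (H := C(L)) hF).trans h.iL
  rw [h.cz] at h1
  exact (rel_le_mul _ C(L) F).trans (by nlinarith)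

theorem sm (hC : #(P ⊓ C(E)) ≤ 16) (hn : ¬ SR 4 P) : ∃ H ≤ P, 4 ≤ C(E).relIndex H ∧ ∀ x ∈ H, 8 ≤ #(P ⊓ C(E) ⊓ C[x]) := by
  simp only [SR, not_forall, not_le] at hn
  obtain ⟨H, M, hH, hM, hs, hlt⟩ := hn
  have nM := nrm_sq hM hs
  have pH := h.pP.mono hH
  have e1 := card_sup_mul_card_inf (A := M) (B := C(E) ⊓ H) (inf_le_right.trans nM)
  have e2 := FT.card_mul_relIndex (A := M ⊔ C(E) ⊓ H) (sup_le hM inf_le_right)
  have e3 := relIndex_mul_relIndex _ _ _ (le_sup_right : C(E) ⊓ H ≤ M ⊔ C(E) ⊓ H) (sup_le hM inf_le_right)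
  rw [inf_relIndex_right] at e3
  have e4 := FT.card_mul_relIndex (A := M ⊓ (C(E) ⊓ H)) inf_le_right
  have i8 := (rel_mono (H := C(E)) hH).trans h.i8
  have j4 : (M ⊔ C(E) ⊓ H).relIndex H ≤ 4 := by
    by_cases k : M ⊔ C(E) ⊓ H ≤ C(E) ⊓ H
    · have := h.i4 hH fun x hx => (k (mem_sup_left (hs x hx))).1
      have := relIndex_pos (C(E) ⊓ H) (M ⊔ C(E) ⊓ H)
      nlinarith
    · have := one_lt_relIndex k
      nlinarith
  have hK : #(C(E) ⊓ H) ≤ 16 := (card_le (fun x hx => ⟨hH hx.2, hx.1⟩ : C(E) ⊓ H ≤ P ⊓ C(E))).trans hC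
  have hc : ∀ c ∈ C(E) ⊓ H, ∀ x ∈ H, ⁅c, x⁆ ∈ M ⊓ (C(E) ⊓ H) := fun c hc x hx => ⟨comm_sq hs hc.2 hx, by
    rw [commutatorElement_def, mul_assoc c, mul_assoc c]
    exact mul_mem hc.1 (conj_mem (norms_cent h.nE (hH hx)) (inv_mem hc.1)), cmem hc.2 hx⟩
  have pM := FT.card_pos M
  have pV := FT.card_pos (M ⊓ (C(E) ⊓ H))
  have key : 16 < (M ⊔ C(E) ⊓ H).relIndex H * (M ⊓ (C(E) ⊓ H)).relIndex (C(E) ⊓ H) := by
    rw [← e4, mul_left_comm, mul_comm] at e1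
    rw [← e2, Nat.eq_of_mul_eq_mul_left pV e1, mul_assoc, mul_comm] at hlt
    rw [mul_comm]
    exact lt_of_mul_lt_mul_left hlt (Nat.zero_le _)
  have r8 : 8 ≤ (M ⊓ (C(E) ⊓ H)).relIndex (C(E) ⊓ H) := by
    rcases pw_cases (pH.mono (inf_le_right : C(E) ⊓ H ≤ H)) (M ⊓ (C(E) ⊓ H)) with e | e | e | e <;> nlinarith
  refine ⟨H, hH, by_contra fun k => ?_, fun x hx => ?_⟩
  · have j2 : (M ⊔ C(E) ⊓ H).relIndex H ≤ 2 := by
      have := rel_anti (L := H) (le_sup_right : C(E) ⊓ H ≤ M ⊔ C(E) ⊓ H)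
      rw [inf_relIndex_right] at this
      rcases pw_cases pH (M ⊔ C(E) ⊓ H) with e | e | e | e <;> omega
    have v1 : #(M ⊓ (C(E) ⊓ H)) = 1 := by nlinarith
    obtain ⟨i, hi⟩ := (pH.mono (inf_le_right : C(E) ⊓ H ≤ H)).card
    have k16 : 16 ≤ #(C(E) ⊓ H) := by
      have : 8 < #(C(E) ⊓ H) := by nlinarith
      rw [hi] at this ⊢
      exact Nat.pow_le_pow_right (n := 2) (i := 4) two_pos ((Nat.pow_lt_pow_iff_right (n := 3) one_lt_two).1 this)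
    have e5 := eq_of_card_le (fun x hx => ⟨hH hx.2, hx.1⟩ : C(E) ⊓ H ≤ P ⊓ C(E)) (hC.trans k16)
    have : H ≤ C(E) := fun x hx => Fa.memC fun e he => mem_bot.1 (eq_bot_of_card_eq _ v1 ▸ hc e (e5 ▸ h.EC he) x hx)
    rw [relIndex_eq_one.2 this] at e3
    rw [Nat.eq_one_of_mul_eq_one_left e3] at key
    nlinarith
  · have h1 := H3.relIndex_centralizer_le_card _ _ fun c k => hc c k x hx
    have h2 := card_inf_mul_relIndex C[x] (C(E) ⊓ H)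
    have h3 : #(C[x] ⊓ (C(E) ⊓ H)) ≤ #(P ⊓ C(E) ⊓ C[x]) := card_le fun y hy => ⟨⟨hH hy.2.2, hy.2.1⟩, hy.1⟩
    refine le_trans (Nat.le_of_mul_le_mul_right ?_ pV) h3
    nlinarith

theorem le4 (hx : x ∉ C(E)) (hle : Y ⊓ C[x] ≤ E) : #(Y ⊓ C[x]) ≤ 4 := by
  have := two_card hle fun k => hx (mem_cen.2 fun e he => mem_cen1.1 (k he).2)
  rw [h.cE] at this; omega

theorem small (hC : P ⊓ C(E) ≤ E) : SR 4 P := by
  by_contra hn
  obtain ⟨H, h1, h2, h3⟩ := h.sm ((card_le hC).trans (by rw [h.cE]; omega)) hn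
  obtain ⟨x, hx, k⟩ := SetLike.not_le_iff_exists.1 fun k : H ≤ C(E) => by rw [relIndex_eq_one.2 k] at h2; omega
  have := h.le4 k (inf_le_left.trans hC)
  have := h3 x hx
  omega

theorem ge4 (hx : x ∈ P) (hV : #V ≤ 2) (hc : ∀ e ∈ E, ⁅e, x⁆ ∈ V) : 4 ≤ #(C[x] ⊓ E) := by
  have h1 := H3.relIndex_centralizer_le_card _ _ hc
  have h2 := card_inf_mul_relIndex C[x] E
  rw [h.cE] at h2
  nlinarith

theorem coreI (hF : F ≤ P) (hs : ∀ x ∈ F, x * x ∈ ⟪z⟫) (h1 : P ⊓ C(E) ⊓ C(F) ≤ ⟪z⟫) (h2 : C(E) ⊓ F ≤ E) : SR 4 P := by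
  have sC : ∀ x ∈ F, x * x ∈ C(E) := fun x hx => (h.EC (h.zle (hs x hx))).2
  have nL : ¬ F ≤ C(L) := fun k => by
    have := card_le ((le_inf (h.LE.trans h.EC) (centsC k)).trans h1)
    rw [h.cL, h.cz] at this; omega
  have ez : ∀ e ∈ E, ∀ x ∈ F, ⁅e, x⁆ ∈ ⟪z⟫ := fun e he x hx => h.one hF sC nL he hx
  have i4 := h.i4 hF sC
  have g4 : ∀ c ∈ P ⊓ C(E), ∀ b ∈ F, ∀ x ∈ F, b ∉ C(E) → x ∉ C(E) → x * b ∉ C(E) → ⁅c, b⁆ = 1 → ⁅c, x⁆ = 1 → c ∈ ⟪z⟫ :=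
    fun c hc b hb x hx n1 n2 n3 e1 e2 => h1 ⟨hc, by
      have := gen4 (Y := C[c]) i4 (fun y hy => mem_cen1.2 (mem_cen.1 hc.2 y (h2 hy))) hb hx (cen1_comm.1 (c_iff.1 e1))
        (cen1_comm.1 (c_iff.1 e2)) n1 n2 n3
      exact mem_cen.2 fun y hy => mem_cen1.1 (this hy)⟩
  obtain ⟨b, hb, nb⟩ := SetLike.not_le_iff_exists.1 fun k : F ≤ C(E) => nL (centsS h.LE k)
  have ex : ∀ b ∈ F, b ∉ C(E) → ∃ x ∈ F, x ∉ C(E) ∧ x * b ∉ C(E) := fun b hb nb => by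
    by_contra hn
    push Not at hn
    have := card_le (A := C[b] ⊓ E) (B := ⟪z⟫) fun e he => h1 ⟨h.EC he.2, Fa.memC fun x hx => by
      rw [← commutatorElement_inv, inv_eq_one]
      by_cases k : x ∈ C(E)
      · exact Fa.c1 he.2 k
      · have := h.cmul he.2 (hn x hx k) (inv_mem (hF hb))
        rw [mul_inv_cancel_right] at this
        rw [this, c_iff, cen1_comm]; exact inv_mem (cen1_comm.1 he.1)⟩
    have := h.ge4 (hF hb) h.cz.le fun e he => ez e he b hb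
    rw [h.cz] at *; omega
  obtain ⟨x, hx, nx, nxb⟩ := ex b hb nb
  -- (i)
  have p1 : ∀ c ∈ P ⊓ C(E), (∀ y ∈ F, ⁅c, y⁆ ∈ ⟪z⟫) → c ∈ E := fun c hc k => by_contra fun hn => by
    have nc : c ∈ N(E) := h.nE hc.1
    have c2 : c * c ∈ E := h.zle (h1 ⟨mul_mem hc hc, Fa.memC fun y hy => by
      rw [← commutatorElement_inv, inv_eq_one, mul_c, h.zfix (k y hy) hc.1, h.e2 (h.zle (k y hy))]⟩)
    have k2 : ∀ y ∈ F, ∀ u ∈ E ⊔ ⟪c⟫, ⁅u, y⁆ ∈ ⟪z⟫ := fun y hy u hu => by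
      rcases mem_sup2 nc c2 hu with hu | ⟨e, he, rfl⟩
      · exact ez u hu y hy
      · rw [h.mulc he (h.zle (k y hy))]; exact mul_mem (k y hy) (ez e he y hy)
    have a1 := H3.relIndex_centralizer_le_card _ _ (k2 b hb)
    have a2 := H3.relIndex_centralizer_le_card _ _ (k2 x hx)
    have a3 := relIndex_inf_le (H := C[b]) (K := C[x]) (L := E ⊔ ⟪c⟫)
    have a4 := card_inf_mul_relIndex (C[b] ⊓ C[x]) (E ⊔ ⟪c⟫)
    have a5 := card_le (A := C[b] ⊓ C[x] ⊓ (E ⊔ ⟪c⟫)) (B := ⟪z⟫) fun u hu =>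
      g4 u (sup_le h.EC (zpowers_le.2 hc) hu.2) b hb x hx nb nx nxb (c_iff.2 hu.1.1) (c_iff.2 hu.1.2)
    rw [H3.card_sup_zpowers Nat.prime_two nc hn (by rwa [sq]), h.cE] at a4
    rw [h.cz] at a1 a2 a5
    nlinarith [Nat.mul_le_mul a1 a2]
  have cc : ∀ u ∈ P ⊓ C(E), ∀ y ∈ F, ⁅u, y⁆ ∈ E → ⁅⁅u, y⁆, y⁆ = 1 := fun u hu y hy k => by
    have := c_iff.2 (cen1_comm.1 (mem_cen1.2 (mem_cen.1 (zpowers_le.2 h.zc (hs y hy)) u hu.1).symm))
    rw [c_mul] at this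
    rw [← commutatorElement_inv, inv_eq_one, commutatorElement_def, eq_inv_of_mul_eq_one_right this, h.ei k, h.e2 k]
  -- (ii)
  have p2 : ∀ u ∈ P ⊓ C(E), (∀ y ∈ F, ⁅u, y⁆ ∈ E) → ∀ d ∈ F, d ∉ C(E) → ⁅u, d⁆ ∈ ⟪z⟫ → u ∈ E := fun u hu k d hd nd e => by
    refine p1 u hu fun y hy => ?_
    have q0 : ∀ y ∈ F, y ∈ C(E) → ⁅u, y⁆ = 1 := fun y hy k => c_iff.2 (mem_cen1.2 (mem_cen.1 hu.2 y (h2 ⟨k, hy⟩)).symm)
    by_cases n1 : y ∈ C(E)
    · rw [q0 y hy n1]; exact one_mem _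
    have q1 : ⁅u, y * d⁆ = ⁅u, y⁆ * ⁅u, d⁆ := by rw [c_mul, h.zfix e (hF hy)]
    by_cases n2 : y * d ∈ C(E)
    · rw [q0 _ (mul_mem hy hd) n2] at q1
      rw [eq_inv_of_mul_eq_one_left q1.symm]; exact inv_mem e
    have q2 := cc u hu _ (mul_mem hy hd) (k _ (mul_mem hy hd))
    have q3 := cc u hu y hy (k y hy)
    refine g4 _ (h.EC (k y hy)) d hd y hy nd n1 n2 ?_ q3
    rw [q1, h.mulc (k y hy) (h.cE' (h.zle e) (hF (mul_mem hy hd))),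
      c_iff.2 (mem_cen1.2 (mem_cen.1 (zpowers_le.2 h.zc e) _ (hF (mul_mem hy hd))).symm), one_mul, c_mul, q3, one_mul,
      conj_eq_one_iff] at q2
    exact q2
  have p3 : ∀ u ∈ P ⊓ C(E), (∀ y ∈ F, ⁅u, y⁆ ∈ E) → ∀ v ∈ P ⊓ C(E), (∀ y ∈ F, ⁅v, y⁆ ∈ E) → u ∉ E → v ∉ E → u * v ∈ E :=
    fun u hu ku v hv kv nu nv => by
    have q : ∀ y ∈ F, ⁅u * v, y⁆ = ⁅v, y⁆ * ⁅u, y⁆ := fun y hy => by rw [mul_c, fix_of hu.2 (kv y hy)]
    refine p2 _ (mul_mem hu hv) (fun y hy => q y hy ▸ mul_mem (kv y hy) (ku y hy)) b hb nb ?_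
    have hz : ⟪z⟫ ≤ E ⊓ C[b] := zpowers_le.2 ⟨h.zE, mem_cen1.2 (mem_cen.1 h.zc b (hF hb)).symm⟩
    have a1 := h.le4 nb (inf_le_left : E ⊓ C[b] ≤ E)
    have a2 := h.ge4 (hF hb) h.cz.le fun e he => ez e he b hb
    rw [inf_comm] at a2
    rw [q b hb]
    exact H3.mul_mem_of_relIndex_two (H3.relIndex_of_card_mul hz (by rw [h.cz]; omega))
      ⟨kv b hb, c_iff.1 (cc v hv b hb (kv b hb))⟩ ⟨ku b hb, c_iff.1 (cc u hu b hb (ku b hb))⟩
      (fun e => nv (p2 v hv kv b hb nb e)) fun e => nu (p2 u hu ku b hb nb e)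
  -- (iii)
  have p4 : ∀ v ∈ P ⊓ C(E), ∀ y ∈ F, ⁅v, y⁆ ∈ E := by
    let U : Subgroup G :=
      { carrier := {c | c ∈ C(E) ∧ ∀ y ∈ F, ⁅c, y⁆ ∈ E}
        one_mem' := ⟨one_mem _, by simp⟩
        mul_mem' := fun {a b} ha hb => ⟨mul_mem ha.1 hb.1, fun y hy => by
          rw [mul_c, fix_of ha.1 (hb.2 y hy)]; exact mul_mem (hb.2 y hy) (ha.2 y hy)⟩
        inv_mem' := fun {a} ha => ⟨inv_mem ha.1, fun y hy => by
          have : ⁅a⁻¹, y⁆ = a⁻¹ * ⁅a, y⁆⁻¹ * a⁻¹⁻¹ := by simp only [commutatorElement_def]; group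
          rw [this, fix_of (inv_mem ha.1) (inv_mem (ha.2 y hy))]; exact inv_mem (ha.2 y hy)⟩ }
    by_contra hn
    obtain ⟨v, hv, n1, -, n3⟩ := exists_mod (Y := U) h.pP inf_le_left h.nC fun k => hn fun v hv => (k hv).2
    have m : ∀ y ∈ F, ⁅v, y⁆ ∈ P ⊓ C(E) := fun y hy => ⟨cmem hv.1 (hF hy), (n3 y (hF hy)).1⟩
    have ⟨d, hd, nd, e0⟩ : ∃ d ∈ F, d ∉ C(E) ∧ ⁅v, d⁆ ∈ E := by
      by_contra k
      push Not at k
      refine k _ (mul_mem hx hb) nxb ?_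
      rw [c_mul, conj_c, ← mul_assoc, mem_cen.1 (m x hx).2 _ ?_ |>.symm, mul_assoc]
      · exact mul_mem (by rw [← commutatorElement_inv]; exact inv_mem ((n3 b (hF hb)).2 x hx))
          (p3 _ (m x hx) (n3 x (hF hx)).2 _ (m b hb) (n3 b (hF hb)).2 (k x hx nx) (k b hb nb))
      · rw [← commutatorElement_inv]; exact inv_mem ((n3 b (hF hb)).2 x hx)
    refine n1 ⟨hv.2, fun y hy => p2 _ (m y hy) (n3 y (hF hy)).2 d hd nd ?_⟩
    have q1 := comm_sq hs hd hy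
    have q2 : ⁅v, d * y⁆ = ⁅v, y * d⁆ := by
      rw [show d * y = ⁅d, y⁆ * (y * d) by rw [commutatorElement_def]; group, c_mul,
        c_iff.2 (mem_cen1.2 (mem_cen.1 (zpowers_le.2 h.zc q1) v hv.1)), one_mul,
        ← mem_cen.1 (zpowers_le.2 h.zc q1) _ (cmem hv.1 (hF (mul_mem hy hd))), mul_inv_cancel_right]
    rw [c_mul, c_mul] at q2
    have q3 := fix_of (m y hy).2 (inv_mem (conj_mem (h.nE (hF hy)) e0))
    have q4 := inv_mem (ez _ (inv_mem e0) y hy)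
    generalize ⁅v, y⁆ = u at q2 q3 ⊢
    generalize ⁅v, d⁆ = e at q2 q3 q4 ⊢
    have : ⁅u, d⁆ = ⁅e⁻¹, y⁆⁻¹ := by
      calc ⁅u, d⁆ = u * (e * (d * u * d⁻¹))⁻¹ * e := by rw [commutatorElement_def]; group
        _ = u * (y * e * y⁻¹)⁻¹ * u⁻¹ * e := by rw [q2]; group
        _ = _ := by rw [q3, commutatorElement_def]; group
    rwa [this]
  have p5 : ∀ u ∈ P ⊓ C(E), ∀ v ∈ P ⊓ C(E), u ∉ E → v ∉ E → u * v ∈ E := fun u hu v hv => p3 u hu (p4 u hu) v hv (p4 v hv)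
  by_cases hC : P ⊓ C(E) ≤ E
  · exact h.small hC
  obtain ⟨u, hu, nu⟩ := SetLike.not_le_iff_exists.1 hC
  by_contra hn
  obtain ⟨H, k1, k2, k3⟩ := h.sm (by
    have a1 := H3.card_sup_zpowers_le Nat.prime_two (h.nE hu.1) (by rw [sq]; exact p5 u hu u hu nu nu)
    rw [h.cE] at a1
    refine le_trans (card_le fun v hv => ?_) a1
    by_cases k : v ∈ E
    · exact mem_sup_left k
    · simpa using mul_mem (mem_sup_left (p5 v hv u hu k nu)) (mem_sup_right (T := ⟪u⟫) (inv_mem (mem_zpowers u)))) hn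
  have hX : P ⊓ C(E) ⊔ F ≤ P := sup_le inf_le_left hF
  have a1 := relIndex_mul_relIndex _ _ _ (le_sup_left : P ⊓ C(E) ≤ P ⊓ C(E) ⊔ F) hX
  have a2 : 3 ≤ (P ⊓ C(E)).relIndex (P ⊓ C(E) ⊔ F) := by
    refine le_trans ?_ ((rel_anti inf_le_right).trans' (rel_mono (H := C(E)) le_sup_right))
    have := one_lt_relIndex (A := C(E)) (B := F) fun k => nb (k hb)
    by_contra k
    exact nxb (H3.mul_mem_of_relIndex_two (by omega) hx hb nx nb)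
  have a3 := h.i8
  rw [inf_relIndex_left] at a1
  have a4 := rel_le_mul C(E) (P ⊓ C(E) ⊔ F) H
  have a5 := rel_mono (H := P ⊓ C(E) ⊔ F) k1
  obtain ⟨y, hy, ny⟩ := SetLike.not_le_iff_exists.1 fun k : (P ⊓ C(E) ⊔ F) ⊓ H ≤ C(E) => by
    rw [relIndex_eq_one.2 k] at a4; nlinarith
  obtain ⟨c, hc, f, hf, rfl⟩ := (mem_sup_norm (hF.trans h.nC)).1 hy.1
  have := h.le4 (Y := P ⊓ C(E)) ny fun v hv => by_contra fun nv => nv (p2 v hv.1 (p4 v hv.1) f hf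
    (fun k => ny (mul_mem hc.2 k)) (by
    have e1 : ⁅v, c⁆ = 1 := by
      by_cases k : c ∈ E
      · exact c_iff.2 (mem_cen1.2 (mem_cen.1 hv.1.2 c k).symm)
      · have := mem_cen.1 hv.1.2 _ (p5 c hc v hv.1 k nv)
        rw [← mul_assoc, mul_left_inj] at this
        exact c_iff.2 (mem_cen1.2 this.symm)
    have e2 := c_iff.2 hv.2
    rw [c_mul, e1, one_mul, conj_eq_one_iff] at e2
    rw [e2]; exact one_mem _))
  have := k3 _ hy.2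
  omega

end He

end Fg

end Cfsg.Agent.GO
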