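import Cfsg.Agent.GO.Mw3

/-! Harada's theorem on self-centralizing `E₈`. -/

set_option autoImplicit false
set_option linter.unusedSectionVars false
set_option linter.unusedVariables false

namespace Cfsg.Agent.GO

open Cfsg Subgroup Cfsg.Agent.FT Cfsg.Agent.GW
open scoped commutatorElement

universe u

variable {G : Type u} [Group G] [Finite G] {D : Set G} {p : ℕ}
  {A B E H J K L M P Q R S T U V W X Y Z : Subgroup G} {a b d e g r s t v w x y z : G}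

variable {c f l u : G} {N F : Subgroup G} {k : ℕ}

namespace Fg

theorem inv_c (a2 : a * a = 1) (c : G) : a * ⁅c, a⁆ * a⁻¹ = ⁅c, a⁆⁻¹ := by
  calc _ = a * c * (a * a) * a⁻¹ * c⁻¹ * (a * a)⁻¹ := by rw [commutatorElement_def]; group
    _ = _ := by rw [a2, commutatorElement_def]; group

theorem mc_or (pS : PGrp 2 S) (ha : a ∈ S) (h4 : #(S ⊓ C[a]) ≤ 4) (hf : f ∈ Z(S)) (f1 : f ≠ 1) :
    SR 2 S ∧ ∀ H ≤ S, a ∉ H → 2 < #H → f ∈ H := by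
  obtain ⟨n, hn⟩ := pS.card
  by_cases h : n ≤ 2
  · have h1 : #S ≤ 2 ^ 2 := hn ▸ Nat.pow_le_pow_right two_pos h
    refine ⟨sr_card h1, fun H hH k h2 => ?_⟩
    have := two_card hH fun e => k (e ha)
    omega
  obtain ⟨m, rfl⟩ : ∃ m, n = m + 1 := ⟨n - 1, by omega⟩
  obtain ⟨x, y, hm⟩ := (H3.maxCl_of_cen1' Nat.prime_two hn (by omega) ha h4).mc (by omega)
  refine ⟨sr_mc hm, fun H hH _ h2 => ?_⟩
  rw [hm.center, hm.mem_z_iff] at hf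
  rw [hf.resolve_left f1]
  refine (hm.z_mem_of_ne (inf_le_left : ⟪x⟫ ⊓ H ≤ ⟪x⟫) fun e => ?_).2
  have h3 := card_inf_mul_relIndex ⟪x⟫ H
  have := (rel_mono (H := ⟪x⟫) hH).trans hm.relIndex.le
  rw [e, card_bot] at h3
  omega

/-- an involution `a` inducing a transvection on `E` with `⟨a⟩ C_E(a)` self-centralizing -/
structure Hf (P E L : Subgroup G) (z a e : G) : Prop extends He P E L z where
  ha : a ∈ P
  a2 : a * a = 1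
  he : e ∈ E
  ea : e ∉ C[a]
  sc : ∀ s ∈ P, s ∈ C[a] → s ∈ C(E ⊓ C[a]) → s ∈ E ∨ s * a ∈ E

namespace Hf
variable (h : Hf P E L z a e)
include h

theorem na : a ∉ C(E) := fun k => h.ea (mem_cen1.2 (mem_cen.1 k e h.he))
theorem cW (hc : ⁅c, a⁆ ∈ E) : ⁅c, a⁆ ∈ E ⊓ C[a] :=
  ⟨hc, cen1_comm.1 (mem_cen1.2 (mul_inv_eq_iff_eq_mul.1 (by rw [inv_c h.a2, h.ei hc])))⟩
theorem w4 : #(E ⊓ C[a]) = 4 := by
  have h1 := h.le4 h.na (inf_le_left : E ⊓ C[a] ≤ E)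
  have h2 := H3.relIndex_centralizer_le_card _ _ fun e he => h.cW (h.cE' he h.ha)
  have h3 := card_inf_mul_relIndex C[a] E
  rw [inf_comm, h.cE] at h3
  rcases pw_cases (h.pP.mono h.le) C[a] with k | k | k | k <;> nlinarith
theorem y1 : ⁅e, a⁆ ≠ 1 := fun k => h.ea (c_iff.1 k)
theorem yW : ⁅e, a⁆ ∈ E ⊓ C[a] := h.cW (h.cE' h.he h.ha)
theorem my : x ∈ ⟪⁅e, a⁆⟫ ↔ x = 1 ∨ x = ⁅e, a⁆ := H3.mem_zpowers_two (h.aE.pow h.yW.1)
theorem iy : (⟪⁅e, a⁆⟫).relIndex (E ⊓ C[a]) = 2 := H3.relIndex_of_card_mul (zpowers_le.2 h.yW) (by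
  rw [h.w4, card_zpowers', orderOf_eq_prime (h.aE.pow h.yW.1) h.y1])
theorem eqy (hd : d ∈ E) (k : ⁅d, a⁆ ≠ 1) : ⁅d, a⁆ = ⁅e, a⁆ := by
  have i2 : C[a].relIndex E = 2 := by
    have h3 := card_inf_mul_relIndex C[a] E
    rw [inf_comm, h.cE, h.w4] at h3; omega
  have := c_iff.2 (H3.mul_mem_of_relIndex_two i2 h.he hd h.ea fun e => k (c_iff.2 e))
  rw [h.mulc h.he (h.cE' hd h.ha)] at this
  rw [eq_inv_of_mul_eq_one_left this, h.ei h.yW.1]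
theorem CW (hc : c ∈ P ⊓ C(E)) (k : c ∈ C[a]) : c ∈ E :=
  (h.sc c hc.1 k (cen_anti inf_le_left hc.2)).resolve_right fun e =>
    h.na ((Subgroup.mul_mem_cancel_left _ hc.2).1 (h.EC e).2)
theorem q1 (hu : u ∈ P ⊓ C(E)) (k : ⁅u, a⁆ ∈ ⟪⁅e, a⁆⟫) : u ∈ E := by
  rcases h.my.1 k with k | k
  · exact h.CW hu (c_iff.1 k)
  · exact (Subgroup.mul_mem_cancel_left _ h.he).1 (h.CW (mul_mem (h.EC h.he) hu) (c_iff.1 (by
      rw [h.mulc h.he (k ▸ h.yW.1), k, h.e2 h.yW.1])))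
theorem q2 (hu : u ∈ P ⊓ C(E)) (hv : v ∈ P ⊓ C(E)) (k1 : ⁅u, a⁆ ∈ E) (k2 : ⁅v, a⁆ ∈ E) (n1 : u ∉ E) (n2 : v ∉ E) :
    u * v ∈ E := h.q1 (mul_mem hu hv) (by
  rw [mul_c, fix_of hu.2 k2]
  exact H3.mul_mem_of_relIndex_two h.iy (h.cW k2) (h.cW k1) (fun k => n2 (h.q1 hv k)) fun k => n1 (h.q1 hu k))
theorem cenW (hw : w ∈ E ⊓ C[a]) (n : w ∉ ⟪⁅e, a⁆⟫) (k1 : s * ⁅e, a⁆ * s⁻¹ = ⁅e, a⁆) (k2 : s * w * s⁻¹ = w) :
    s ∈ C(E ⊓ C[a]) := by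
  rw [← H3.sup_zpowers_eq_of_prime (h.iy ▸ Nat.prime_two) (zpowers_le.2 h.yW) hw n]
  exact centsY (X := ⟪s⟫) (zpowers_le.2 (by rw [cen_zpowers, mem_cen1]; exact mul_inv_eq_iff_eq_mul.1 k1))
    (zpowers_le.2 (by rw [cen_zpowers, mem_cen1]; exact mul_inv_eq_iff_eq_mul.1 k2)) (mem_zpowers s)
theorem fixy (hs : s ∈ P) (hc : c ∈ C(E)) (k : s * a * s⁻¹ = c * a) : s * ⁅e, a⁆ * s⁻¹ = ⁅e, a⁆ := by
  have h1 := conj_mem (h.nE hs) h.he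
  have h2 : s * ⁅e, a⁆ * s⁻¹ = ⁅s * e * s⁻¹, a⁆ := by rw [c_conj, k, h.cmul h1 hc h.ha]
  rw [h2]; exact h.eqy h1 (by rw [← h2, Ne, conj_eq_one_iff]; exact h.y1)

theorem caseA (hf : f ∈ P ⊓ C(E)) (nf : f ∉ E) (f2 : f * f ∈ E) (fc : ∀ g ∈ P, ⁅f, g⁆ ∈ E) (n : f * f ∉ ⟪⁅e, a⁆⟫) :
    SR 4 P := by
  have k1 : ∀ g ∈ P, g * (f * f) * g⁻¹ = f * f := fun g hg => by
    have h1 : ⁅g, f⁆ ∈ E := by rw [← commutatorElement_inv]; exact inv_mem (fc g hg)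
    rw [← conj_mul (b := g), conj_c, mul_assoc, ← mul_assoc f, ← mem_cen.1 hf.2 _ h1, mul_assoc, ← mul_assoc, h.e2 h1, one_mul]
  have fW : f * f ∈ E ⊓ C[a] := ⟨f2, cen1_comm.1 (mem_cen1.2 (mul_inv_eq_iff_eq_mul.1 (k1 a h.ha)))⟩
  have k2 : #(P ⊓ C[a]) ≤ 8 := by
    have := H3.card_sup_zpowers_le (K := E ⊓ C[a]) Nat.prime_two (normsI (zpowers_le.2 (h.nE h.ha))
      (norms_cen1 (zpowers_le.2 (self_mem_cen1 a))) (mem_zpowers a)) (by rw [sq, h.a2]; exact one_mem _)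
    rw [h.w4] at this
    refine le_trans (card_le fun s hs => ?_) this
    rcases h.sc s hs.1 hs.2 (h.cenW fW n (h.fixy hs.1 (one_mem _) (by rw [mem_cen1.1 hs.2]; group)) (k1 s hs.1)) with k | k
    · exact mem_sup_left ⟨k, hs.2⟩
    · simpa using mul_mem (mem_sup_left (S := E ⊓ C[a]) ⟨k, mul_mem hs.2 (self_mem_cen1 a)⟩)
        (mem_sup_right (T := ⟪a⟫) (inv_mem (mem_zpowers a)))
  have na := h.nE h.ha
  have k3 : #((P /ₛ E) ⊓ C[coset(E, a)]) ≤ 4 := by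
    have a1 := card_qpre ((P /ₛ E) ⊓ C[coset(E, a)])
    have a2 : qpre(E, (P /ₛ E) ⊓ C[coset(E, a)]) ≤ P := qpre_le_of_le_quo h.le inf_le_left
    have a3 := H3.relIndex_centralizer_le_card qpre(E, (P /ₛ E) ⊓ C[coset(E, a)]) _ fun y hy =>
      h.cW ((coset_commute_iff (h.nE (a2 hy)) na).1 (mem_cen1.1 (mem_qpre.1 hy).2.2))
    have a4 := card_inf_mul_relIndex C[a] qpre(E, (P /ₛ E) ⊓ C[coset(E, a)])
    have a5 : #(C[a] ⊓ qpre(E, (P /ₛ E) ⊓ C[coset(E, a)])) ≤ 8 :=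
      (card_le (le_inf (inf_le_right.trans a2) inf_le_left)).trans k2
    rw [h.w4] at a3
    rw [h.cE] at a1
    nlinarith
  have nf' := h.nE hf.1
  obtain ⟨s2, s3⟩ := mc_or (h.pP.quo E) (mem_quo_of_mem na h.ha) k3 (f := coset(E, f)) ⟨mem_quo_of_mem nf' hf.1,
    mem_cen.2 fun u hu => by
      obtain ⟨x, hx, nx, rfl⟩ := mem_quo.1 hu
      exact ((coset_commute_iff nf' nx).2 (fc x hx)).symm⟩ fun k => nf ((coset_eq_one_iff nf').1 k)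
  intro H M hH hM hs
  have nH := hH.trans h.nE
  have a1 := s2 (H /ₛ E) (M /ₛ E) (quo_mono E hH) (quo_mono E hM) fun u hu => by
    obtain ⟨x, hx, nx, rfl⟩ := mem_quo.1 hu
    rw [← coset_mul nx nx]; exact mem_quo_of_mem (mul_mem nx nx) (hs x hx)
  have a2 := card_inf_mul_relIndex E H
  have a3 := card_inf_mul_relIndex E M
  have a4 : #(E ⊓ H) ≤ 8 := h.cE ▸ card_le inf_le_left
  have s4 := s3 _ (quo_mono E hH)
  rw [card_quo nH] at a1 s4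
  rw [card_quo (hM.trans nH)] at a1
  by_cases b1 : E ⊓ M = ⊥
  · by_cases b2 : E ≤ H
    · have b3 : H ≤ C(E) := fun x hx => Fa.memC fun e he => mem_bot.1 (b1 ▸ ⟨h.cE' he (hH hx), comm_sq hs (b2 he) hx⟩)
      by_cases b4 : 2 < E.relIndex H
      · have := mem_of_coset_mem nf' b2 (s4 (fun k => h.na (b3 (mem_of_coset_mem na b2 k))) b4)
        exact absurd (mem_bot.1 (b1.le ⟨f2, hs f this⟩) ▸ one_mem _) n
      · have := FT.card_pos M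
        nlinarith
    · have := two_card (inf_le_left : E ⊓ H ≤ E) fun k => b2 (k.trans inf_le_right)
      rw [h.cE] at this
      rw [b1, card_bot] at a3
      nlinarith
  · have := two_card (bot_le : ⊥ ≤ E ⊓ M) fun k => b1 (le_bot_iff.1 k)
    rw [card_bot] at this
    nlinarith

theorem caseB (hf : f ∈ P ⊓ C(E)) (nf : f ∉ E) (fc : ∀ g ∈ P, ⁅f, g⁆ ∈ E) (n : f * f ∈ ⟪⁅e, a⁆⟫) : SR 4 P := by
  have f2 : f * f ∈ E := zpowers_le.2 h.yW.1 n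
  have nf' := h.nE hf.1
  have k1 : ∀ r ∈ E ⊔ ⟪f⟫, a * r * a⁻¹ = r⁻¹ → r ∈ E := fun r hr k => by
    rcases mem_sup2 nf' f2 hr with hr | ⟨c, hc, rfl⟩
    · exact hr
    refine h.q1 (mul_mem (h.EC hc) hf) ?_
    have : ⁅c * f, a⁆ = c * f * (a * (c * f) * a⁻¹)⁻¹ := by rw [commutatorElement_def]; group
    rwa [this, k, inv_inv, mul_assoc, ← mul_assoc f, ← mem_cen.1 hf.2 c hc, mul_assoc, ← mul_assoc, h.e2 hc, one_mul]
  have k2 : P ⊓ C(E) ≤ E ⊔ ⟪f⟫ := by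
    by_contra hn
    obtain ⟨v, hv, n1, -, n3⟩ := exists_mod h.pP inf_le_left h.nC hn
    have := h.q2 hv hf (k1 _ (n3 a h.ha) (inv_c h.a2 v)) (fc a h.ha) (fun k => n1 (mem_sup_left k)) nf
    exact n1 (by simpa using mul_mem (mem_sup_left this) (mem_sup_right (T := ⟪f⟫) (inv_mem (mem_zpowers f))))
  have aC : Ab (P ⊓ C(E)) := (h.aE.ab.sup (ab_zpowers f) (zpowers_le.2 hf.2)).mono k2
  have k3 : ∀ u ∈ P ⊓ C(E), ⁅u, a⁆ ∈ E := fun u hu => k1 _ (k2 (by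
    rw [commutatorElement_def, mul_assoc u, mul_assoc u]; exact mul_mem hu (conj_mem (h.nC h.ha) (inv_mem hu)))) (inv_c h.a2 u)
  have k4 : ∀ u ∈ P ⊓ C(E), ∀ c ∈ P ⊓ C(E), ⁅u, c * a⁆ = ⁅u, a⁆ := fun u hu c hc => by
    rw [c_mul, c_iff.2 (mem_cen1.2 (aC.comm hu hc)), one_mul, fix_of hc.2 (k3 u hu)]
  by_contra hn
  obtain ⟨H, hH, i4, k8⟩ := h.sm ((card_le k2).trans ((H3.card_sup_zpowers_le Nat.prime_two nf' (by rwa [sq])).trans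
    (by rw [h.cE]))) hn
  have na : ∀ x ∈ H, x * a ∉ C(E) := fun x hx k => by
    have := card_le (A := P ⊓ C(E) ⊓ C[x]) (B := E ⊓ C[a]) fun u hu => by
      have h1 := k4 u hu.1 _ ⟨mul_mem (hH hx) h.ha, k⟩
      rw [mul_assoc, h.a2, mul_one, c_iff.2 hu.2] at h1
      exact ⟨h.CW hu.1 (c_iff.1 h1.symm), c_iff.1 h1.symm⟩
    have := k8 x hx
    rw [h.w4] at *; omega
  have hX : P ⊓ C(E) ⊔ H ≤ P := sup_le inf_le_left hH
  have a1 := relIndex_mul_relIndex _ _ _ (le_sup_left : P ⊓ C(E) ≤ P ⊓ C(E) ⊔ H) hX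
  have a2 : 4 ≤ (P ⊓ C(E)).relIndex (P ⊓ C(E) ⊔ H) :=
    i4.trans ((rel_anti inf_le_right).trans' (rel_mono (H := C(E)) le_sup_right))
  have a3 := h.i8
  rw [inf_relIndex_left] at a1
  have a4 := one_lt_relIndex (A := P ⊓ C(E) ⊔ H) fun k => by
    obtain ⟨c, hc, x, hx, e⟩ := (mem_sup_norm (hH.trans h.nC)).1 (k h.ha)
    exact na x hx (by rw [eq_inv_mul_iff_mul_eq.2 e.symm, mul_assoc, h.a2, mul_one]; exact inv_mem hc.2)
  obtain ⟨v, hv, n1, -, n3⟩ := exists_mod (Y := C(E)) h.pP hX (nml_of_index_two hX (by nlinarith)).nrm fun k => by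
    rw [relIndex_eq_one.2 (le_sup_right.trans k)] at i4; omega
  obtain ⟨c, hc, t, ht, rfl⟩ := (mem_sup_norm (hH.trans h.nC)).1 hv
  have nt : t ∉ C(E) := fun k => n1 (mul_mem hc.2 k)
  have b1 : ⁅t, a⁆ ∈ P ⊓ C(E) := ⟨cmem (hH ht) h.ha, by
    have := n3 a h.ha
    rw [mul_c, Subgroup.mul_mem_cancel_right _ (h.EC (k3 c hc)).2, Subgroup.mul_mem_cancel_right _ (inv_mem hc.2),
      Subgroup.mul_mem_cancel_left _ hc.2] at this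
    exact this⟩
  have b2 := h.cW (k1 _ (k2 b1) (inv_c h.a2 t))
  obtain ⟨u, hu, nu⟩ := SetLike.not_le_iff_exists.1 fun k : P ⊓ C(E) ⊓ C[t] ≤ E => by
    have := h.le4 nt k
    have := k8 t ht
    omega
  have b3 := h.cW (k3 u hu.1)
  have b4 : ⁅u, a⁆ ∉ ⟪⁅e, a⁆⟫ := fun k => nu (h.q1 hu.1 k)
  have b5 := h.cenW b3 b4 (h.fixy (hH ht) b1.2 (conj_c a t)) (by
    rw [c_conj, conj_c a, ← mem_cen1.1 hu.2, mul_inv_cancel_right, k4 u hu.1 _ b1])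
  have ⟨d, hd, ed⟩ : ∃ d ∈ P ⊓ C(E), ⁅d, a⁆ = ⁅t, a⁆ := by
    rcases four_mem (h.aE.mono inf_le_left) h.w4.le b3 h.yW (fun k => b4 (k ▸ one_mem _)) h.y1
      (fun k => b4 (k ▸ mem_zpowers _)) b2 with k | k | k | k
    exacts [⟨1, one_mem _, by rw [k]; simp⟩, ⟨u, hu.1, k.symm⟩, ⟨e, h.EC h.he, k.symm⟩,
      ⟨e * u, mul_mem (h.EC h.he) hu.1, by rw [k, h.mulc h.he b3.1]⟩]
  rcases h.sc (d⁻¹ * t) (mul_mem (inv_mem hd.1) (hH ht)) (mem_cen1.2 (by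
    calc d⁻¹ * t * a = d⁻¹ * (t * a * t⁻¹) * t := by group
      _ = _ := by rw [conj_c, ← ed, ← conj_c]; group)) (mul_mem (inv_mem (cen_anti inf_le_left hd.2)) b5) with k | k
  · exact nt ((Subgroup.mul_mem_cancel_left _ (inv_mem hd.2)).1 (h.EC k).2)
  · rw [mul_assoc] at k
    exact na t ht ((Subgroup.mul_mem_cancel_left _ (inv_mem hd.2)).1 (h.EC k).2)

theorem coreII : SR 4 P := by
  by_cases hC : P ⊓ C(E) ≤ E
  · exact h.small hC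
  obtain ⟨f, hf, n1, n2, n3⟩ := exists_mod h.pP inf_le_left h.nC hC
  by_cases k : f * f ∈ ⟪⁅e, a⁆⟫
  exacts [h.caseB hf n1 n3 k, h.caseA hf n1 n2 n3 k]

end Hf

theorem ex8 (pP : PGrp 2 P) (h1 : E ≤ P) (h2 : P ≤ N(E)) (h3 : Abelem 2 E) (h4 : ¬ #E ≤ 4) :
    ∃ E' ≤ E, ∃ L z, He P E' L z := by
  obtain ⟨x, hx, n1, -, n3⟩ := exists_mod (Y := ⊥) pP h1 h2 fun k => h4 ((card_le k).trans (by rw [card_bot]; omega))
  have x2 := h3.pow hx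
  have cx : #⟪x⟫ = 2 := by rw [card_zpowers', orderOf_eq_prime x2 fun k => n1 (mem_bot.2 k)]
  have nx : P ≤ N(⟪x⟫) := by simpa using nrm_sup (norms_bot P) (h1 hx) n3
  obtain ⟨y, hy, m1, m2, m3⟩ := exists_mod (Y := ⟪x⟫) pP h1 h2 fun k => h4 ((card_le k).trans (by omega))
  have cy := H3.card_sup_zpowers Nat.prime_two (nx (h1 hy)) m1 (by rwa [sq])
  have ny := nrm_sup nx (h1 hy) m3
  obtain ⟨w, hw, k1, k2, k3⟩ := exists_mod (Y := ⟪x⟫ ⊔ ⟪y⟫) pP h1 h2 fun k => h4 ((card_le k).trans (by omega))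
  have cw := H3.card_sup_zpowers Nat.prime_two (ny (h1 hw)) k1 (by rwa [sq])
  have hle : ⟪x⟫ ⊔ ⟪y⟫ ⊔ ⟪w⟫ ≤ E := sup_le (sup_le (zpowers_le.2 hx) (zpowers_le.2 hy)) (zpowers_le.2 hw)
  exact ⟨_, hle, exists_he pP (hle.trans h1) (nrm_sup ny (h1 hw) k3) (h3.mono hle) (by omega)⟩

theorem red (pP : PGrp 2 P) (h : ∀ E L z, He P E L z → SR 4 P) : SR 4 P := by
  by_contra hn
  refine hn (macw pP fun E h1 h2 h3 => by_contra fun h4 => ?_)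
  obtain ⟨E', -, L, z, he⟩ := ex8 pP h1 h2 h3 h4
  exact hn (h _ L z he)

theorem harada (pP : PGrp 2 P) (hA : A ≤ P) (aA : Abelem 2 A) (cA : #A = 8) (hC : P ⊓ C(A) ≤ A) : SR 4 P := by
  refine red pP fun E L z h => ?_
  have a2 : ∀ a ∈ A, a * a = 1 := fun a ha => by rw [← sq, aA.pow ha]
  have zA : z ∈ C(E) ⊓ A := ⟨(h.EC h.zE).2, hC ⟨h.le h.zE, cen_anti hA h.zc⟩⟩
  have i4 := h.i4 hA fun x hx => a2 x hx ▸ one_mem _
  have e := card_inf_mul_relIndex C(E) A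
  rw [cA] at e
  rcases pw_cases (pP.mono hA) C(E) with k | k | k | k
  · have h1 : E = A := eq_of_card_le ((le_inf h.le (centsC (relIndex_eq_one.1 k))).trans hC) (by rw [cA, h.cE])
    exact h.small (h1 ▸ hC)
  · obtain ⟨a, ha, na⟩ := SetLike.not_le_iff_exists.1 fun k1 : A ≤ C(E) => by rw [relIndex_eq_one.2 k1] at k; omega
    obtain ⟨e, he, ne⟩ := SetLike.not_le_iff_exists.1 fun k1 : E ≤ C[a] => na (mem_cen.2 fun e he => mem_cen1.1 (k1 he))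
    have g : ∀ s ∈ P, s ∈ C[a] → s ∈ C(C(E) ⊓ A) → s ∈ A := fun s h1 h2 h3 => hC ⟨h1, mem_cen.2 fun x hx => by
      by_cases k1 : x ∈ C(E)
      · exact mem_cen.1 h3 x ⟨k1, hx⟩
      · have := mem_cen.1 h3 _ ⟨H3.mul_mem_of_relIndex_two k hx ha k1 na, mul_mem hx ha⟩
        rwa [mul_assoc, ← mem_cen1.1 h2, ← mul_assoc, ← mul_assoc, mul_left_inj] at this⟩
    have h1 : E ⊓ C[a] ≤ C(E) ⊓ A := fun s hs => ⟨(h.EC hs.1).2, g s (h.le hs.1) hs.2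
      (mem_cen.2 fun x hx => (mem_cen.1 hx.1 s hs.1).symm)⟩
    have h2 : E ⊓ C[a] = C(E) ⊓ A := eq_of_card_le h1 (by
      have a1 := H3.relIndex_centralizer_le_card E (E ⊓ C[a]) fun e he => ⟨h.cE' he (hA ha), cen1_comm.1 (mem_cen1.2
        (mul_inv_eq_iff_eq_mul.1 (by rw [inv_c (a2 a ha), h.ei (h.cE' he (hA ha))])))⟩
      have h3 := card_inf_mul_relIndex C[a] E
      rw [inf_comm, h.cE] at h3
      rcases pw_cases (h.pP.mono h.le) C[a] with k | k | k | k <;> nlinarith)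
    refine Hf.coreII (a := a) ⟨h, hA ha, a2 a ha, he, ne, fun s k1 k2 k3 => ?_⟩
    have := g s k1 k2 (h2 ▸ k3)
    by_cases k4 : s ∈ C(E)
    · exact Or.inl (h2.ge ⟨k4, this⟩).1
    · exact Or.inr (h2.ge ⟨H3.mul_mem_of_relIndex_two k this ha k4 na, mul_mem this ha⟩).1
  · have h1 : ⟪z⟫ = C(E) ⊓ A := eq_of_card_le (zpowers_le.2 zA) (by rw [h.cz]; rw [k] at e; omega)
    exact h.coreI hA (fun x hx => a2 x hx ▸ one_mem _) (fun x hx => h1 ▸ ⟨hx.1.2, hC ⟨hx.1.1, hx.2⟩⟩) (h1 ▸ h.zle)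
  · omega

theorem extra (pP : PGrp 2 P) (hQ : Q ≤ P) {Q₁ Q₂ : Subgroup G} {a' b' : G} (h1 : H3.MCQ Q₁ a b 2) (h2 : H3.MCQ Q₂ a' b' 2)
    (hc : Q₂ ≤ C(Q₁)) (e : Q₁ ⊔ Q₂ = Q) (c32 : #Q = 32) (hC : P ⊓ C(Q) ≤ Q) : SR 4 P := by
  refine red pP fun E L z h => ?_
  have l1 : Q₁ ≤ Q := e ▸ le_sup_left
  have l2 : Q₂ ≤ Q := e ▸ le_sup_right
  have c2 : #(Q₁ ⊓ Q₂) = 2 := by
    have := card_sup_mul_card_inf (cents_norm hc)
    rw [e, c32, h1.card, h2.card] at this; omega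
  have z1 : Q₁ ⊓ Q₂ = Z(Q₁) := eq_of_card_le (inf_le_inf_left _ hc) (by rw [c2, h1.card_center])
  have z2 : Q₁ ⊓ Q₂ = Z(Q₂) := eq_of_card_le (le_inf inf_le_right (inf_le_left.trans (centsC hc))) (by rw [c2, h2.card_center])
  have zq : P ⊓ C(Q) ≤ Q₁ ⊓ Q₂ := fun x hx => by
    obtain ⟨u, hu, v, hv, rfl⟩ := (mem_sup_norm (cents_norm hc)).1 (e ▸ hC hx)
    have a1 : u ∈ Z(Q₁) := ⟨hu, (Subgroup.mul_mem_cancel_right _ (hc hv)).1 (cen_anti l1 hx.2)⟩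
    have a2 : v ∈ Z(Q₂) := ⟨hv, (Subgroup.mul_mem_cancel_left _ (centsC hc hu)).1 (cen_anti l2 hx.2)⟩
    exact mul_mem (z1 ▸ a1) (z2 ▸ a2)
  have ez : ⟪z⟫ = Q₁ ⊓ Q₂ := eq_of_card_le (zpowers_le.2 (zq ⟨h.le h.zE, cen_anti hQ h.zc⟩)) (by rw [c2, h.cz])
  have hs : ∀ x ∈ Q, x * x ∈ ⟪z⟫ := fun x hx => by
    obtain ⟨u, hu, v, hv, rfl⟩ := (mem_sup_norm (cents_norm hc)).1 (e ▸ hx)
    rw [mul_assoc, ← mul_assoc v, ← mem_cen.1 (hc hv) u hu, mul_assoc, ← mul_assoc, ez]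
    exact mul_mem (by rw [z1, h1.center, ← sq]; exact h1.sq_mem_sq hu) (by rw [z2, h2.center, ← sq]; exact h2.sq_mem_sq hv)
  have sC : ∀ x ∈ Q, x * x ∈ C(E) := fun x hx => (h.EC (h.zle (hs x hx))).2
  have cq : E ⊓ C(Q) ≤ ⟪z⟫ := ez ▸ (inf_le_inf_right _ h.le).trans zq
  have nL : ¬ Q ≤ C(L) := fun k => by
    have := card_le ((le_inf h.LE (centsC k)).trans cq)
    rw [h.cL, h.cz] at this; omega
  have cz : ∀ e ∈ E, ∀ x ∈ Q, ⁅e, x⁆ ∈ ⟪z⟫ := fun e he x hx => h.one hQ sC nL he hx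
  have EQ : E ≤ Q := by
    have k : ∀ x ∈ Q, C[x].relIndex (E ⊔ Q) ≤ 2 := fun x hx => h.cz ▸ H3.relIndex_centralizer_le_card _ _ fun y hy => by
      obtain ⟨u, hu, v, hv, rfl⟩ := (mem_sup_norm (hQ.trans h.nE)).1 hy
      rw [h.mulc hu (h.zle (comm_sq hs hv hx))]
      exact mul_mem (comm_sq hs hv hx) (cz u hu x hx)
    have a1 := relIndex_inf_le (H := C[a]) (K := C[b]) (L := E ⊔ Q)
    have a2 := relIndex_inf_le (H := C[a']) (K := C[b']) (L := E ⊔ Q)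
    have a3 := relIndex_inf_le (H := C[a] ⊓ C[b]) (K := C[a'] ⊓ C[b']) (L := E ⊔ Q)
    have a4 := card_inf_mul_relIndex (C[a] ⊓ C[b] ⊓ (C[a'] ⊓ C[b'])) (E ⊔ Q)
    have a5 := card_le (A := C[a] ⊓ C[b] ⊓ (C[a'] ⊓ C[b']) ⊓ (E ⊔ Q)) (B := Q₁ ⊓ Q₂) fun y hy => zq ⟨sup_le h.le hQ hy.2, by
      rw [← e, ← h1.sup, ← h2.sup, cen_sup, cen_sup, cen_sup, cen_zpowers, cen_zpowers, cen_zpowers, cen_zpowers]
      exact hy.1⟩
    have a6 := Nat.mul_le_mul (a1.trans (Nat.mul_le_mul (k a (l1 h1.a_mem)) (k b (l1 h1.b_mem))))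
      (a2.trans (Nat.mul_le_mul (k a' (l2 h2.a_mem)) (k b' (l2 h2.b_mem))))
    exact le_sup_left.trans (eq_of_card_le (le_sup_right : Q ≤ E ⊔ Q) (by nlinarith)).ge
  refine h.coreI hQ hs (ez ▸ (inf_le_inf_right _ inf_le_left).trans zq) (by_contra fun hn => ?_)
  have a1 := two_card (le_inf (h.EC.trans inf_le_right) EQ) hn
  have a2 := card_inf_mul_relIndex C(E) Q
  obtain ⟨x, hx, nx⟩ := SetLike.not_le_iff_exists.1 fun k : Q ≤ C(E) => nL (centsS h.LE k)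
  have a3 := one_lt_relIndex (A := C(E)) fun k => nx (k hx)
  have i2 : C(E).relIndex Q = 2 := by rw [h.cE] at a1; nlinarith
  have a4 := h.ge4 (hQ hx) h.cz.le fun e he => cz e he x hx
  have := card_le (A := C[x] ⊓ E) (B := ⟪z⟫) fun u hu => cq ⟨hu.2, by
    rw [← H3.sup_zpowers_eq_of_prime (K := C(E) ⊓ Q) (by rw [inf_relIndex_right, i2]; exact Nat.prime_two) inf_le_right hx
      fun k => nx k.1, cen_sup, cen_zpowers]
    exact ⟨mem_cen.2 fun y hy => (mem_cen.1 hy.1 u hu.2).symm, hu.1⟩⟩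
  rw [h.cz] at this; omega

end Fg

end Cfsg.Agent.GO
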