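import Cfsg.Agent.GO.Mw4

/-! Sylow `2`-subgroups of the form `D × B` of involution centralizers. -/

set_option autoImplicit false
set_option linter.unusedSectionVars false
set_option linter.unusedVariables false

namespace Cfsg.Agent.GO

open Cfsg Subgroup Cfsg.Agent.FT Cfsg.Agent.GW
open scoped commutatorElement

universe u

variable {G : Type u} [Group G] [Finite G] {D : Set G} {p : ℕ}
  {A B E H J K L M P Q R S T U V W X Y Z : Subgroup G} {a b d e g r s t v w x y z : G}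

variable {c f l u : G} {N F : Subgroup G} {k : ℕ}

namespace Fg

theorem wreath (pP : PGrp 2 P) (hQ : Q ≤ P) (hE : E ≤ Q) (aE : Abelem 2 E) (c16 : #E = 16) (c32 : #Q = 32) (hs : s ∈ Q)
    (ns : s ∉ E) (s2 : s ^ 2 = 1) (c4 : #(E ⊓ C[s]) = 4) (hC : P ⊓ C(Z(Q)) ≤ Q) : SR 4 P := by
  have i2 : E.relIndex Q = 2 := H3.relIndex_of_card_mul hE (by rw [c16, c32])
  have cs : s ∈ C(E ⊓ C[s]) := mem_cen.2 fun x hx => mem_cen1.1 hx.2
  have k : Q ⊓ C[s] ≤ E ⊓ C[s] ⊔ ⟪s⟫ := fun x hx => by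
    by_cases e : x ∈ E
    · exact mem_sup_left ⟨e, hx.2⟩
    · simpa using mul_mem (mem_sup_left (S := E ⊓ C[s]) ⟨H3.mul_mem_of_relIndex_two i2 hx.1 hs e ns,
        mul_mem hx.2 (self_mem_cen1 s)⟩) (mem_sup_right (T := ⟪s⟫) (inv_mem (mem_zpowers s)))
  refine harada (A := E ⊓ C[s] ⊔ ⟪s⟫) pP ((sup_le (inf_le_left.trans hE) (zpowers_le.2 hs)).trans hQ)
    ((aE.mono inf_le_left).sup_zpowers cs s2) (by
      rw [H3.card_sup_zpowers Nat.prime_two (cen_le_nrm _ cs) (fun k => ns k.1) (s2 ▸ one_mem _), c4]) fun x hx => ?_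
  exact k ⟨hC ⟨hx.1, cen_anti (show Z(Q) ≤ _ from fun y hy => k ⟨hy.1, mem_cen1.2 (mem_cen.1 hy.2 s hs).symm⟩) hx.2⟩,
    mem_cen1.2 (mem_cen.1 hx.2 s (mem_sup_right (mem_zpowers s))).symm⟩

theorem SR.idxn {j : ℕ} (h : SR k X) (hi : X.relIndex S ≤ 2 ^ j) : SR (k + j) S := fun K M hK hM hs => by
  have h1 := h (X ⊓ K) (M ⊓ (X ⊓ K)) inf_le_left inf_le_right fun x hx => ⟨hs x hx.2, mul_mem hx hx⟩
  have h2 : #(M ⊓ (X ⊓ K)) ≤ #M := card_le inf_le_left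
  have h3 := (rel_mono (H := X) hK).trans hi
  rw [← card_inf_mul_relIndex X K, pow_add]
  calc _ ≤ 2 ^ k * #M * 2 ^ j := Nat.mul_le_mul (h1.trans (Nat.mul_le_mul_left _ h2)) h3
    _ = _ := by ring

theorem cmn (hs : s ∈ N(V)) (hv : v ∈ V) : ⁅v, s⁆ ∈ V := by
  rw [commutatorElement_def, mul_assoc v, mul_assoc v]; exact mul_mem hv (conj_mem hs (inv_mem hv))

theorem free (aV : Abelem 2 V) (hs : s ∈ N(V)) (s2 : s * s ∈ C(V)) (hB : B ≤ V) (h : B ⊓ C[s] = ⊥) :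
    #B ≤ C[s].relIndex V ∧ C[s].relIndex V ≤ #(C[s] ⊓ V) := by
  constructor
  · have := card_inf_mul_relIndex C[s] B
    rw [inf_comm, h, card_bot, one_mul] at this
    exact this ▸ rel_mono hB
  · refine H3.relIndex_centralizer_le_card _ _ fun v hv => ⟨cen1_comm.1 (mem_cen1.2 (mul_inv_eq_iff_eq_mul.1 ?_)), cmn hs hv⟩
    have := Fa.c1 hv s2
    rw [c_mul] at this
    rw [eq_inv_of_mul_eq_one_right this, inv_eq_of_mul_eq_one_right (by rw [← sq, aV.pow (cmn hs hv)])]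

theorem nrm_mod (hT : T ≤ S) (h : ∀ g ∈ S, ⁅s, g⁆ ∈ T) : s ∈ N(T) := mem_nrm.2 fun x hx => by
  rw [conj_c]; exact mul_mem (h x (hT hx)) hx

theorem bot_of (hC : ∀ b ∈ B, b ≠ 1 → S ⊓ C[b] ≤ T) (hs : s ∈ S) (ns : s ∉ T) : B ⊓ C[s] = ⊥ :=
  eq_bot_iff.2 fun b hb => mem_bot.2 (by_contra fun k => ns (hC b hb.1 k ⟨hs, cen1_comm.1 hb.2⟩))

theorem prod_mc {m : ℕ} (pS : PGrp 2 S) (hT : T ≤ S) (hm : H3.MC K a b m) (aB : Abelem 2 B) (cB : #B = 4) (hc : B ≤ C(K))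
    (e : K ⊔ B = T) (hC : ∀ b ∈ B, b ≠ 1 → S ⊓ C[b] ≤ T) : SR 4 S := by
  have k : S ≤ T := by
    by_contra hn
    obtain ⟨s, hs, n1, n2, n3⟩ := exists_mod pS le_rfl (le_nrm S) hn
    have hle : Z(T) ≤ Z(K) ⊔ B := fun x hx => by
      obtain ⟨u, hu, v, hv, rfl⟩ := (mem_sup_norm (cents_norm hc)).1 (e ▸ hx.1)
      exact mul_mem (mem_sup_left ⟨hu, (Subgroup.mul_mem_cancel_right _ (hc hv)).1 (cen_anti (e ▸ le_sup_left) hx.2)⟩)
        (mem_sup_right hv)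
    have c1 := centsS (inf_le_left : Z(K) ≤ K) hc
    obtain ⟨h1, h2⟩ := free (V := Z(T)) (((abelem_of_card_prime Nat.prime_two hm.card_center).sup aB c1).mono hle)
      (norms_center (zpowers_le.2 (nrm_mod hT n3)) (mem_zpowers s)) (centsC inf_le_right n2)
      (le_inf (e ▸ le_sup_right) (e ▸ centsY hc aB.ab.le_cen)) (bot_of hC hs n1)
    have h3 := card_inf_mul_relIndex C[s] Z(T)
    have h4 := (card_le hle).trans (card_sup_le' (cents_norm c1))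
    rw [hm.card_center, cB] at *
    nlinarith
  refine (SR.idxn (j := 2) (sr_mc hm) ?_).mono (k.trans e.ge)
  rw [relIndex_sup_norm (cents_norm hc)]
  exact (Nat.le_of_dvd (FT.card_pos B) (FT.relIndex_dvd K B)).trans cB.le

/-- an `E₁₆` containing a four-group all of whose involutions have centralizer `T` -/
structure Hg (S T B : Subgroup G) : Prop where
  pS : PGrp 2 S
  le : T ≤ S
  aT : Abelem 2 T
  cT : #T = 16
  hB : B ≤ T
  cB : #B = 4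
  hC : ∀ b ∈ B, b ≠ 1 → S ⊓ C[b] ≤ T

namespace Hg
variable (h : Hg S T B)
include h

theorem TP : T ≤ S ⊓ N(T) := le_inf h.le (le_nrm T)
theorem t2 (ht : t ∈ T) : t * t = 1 := by rw [← sq, h.aT.pow ht]

theorem c4 (hs : s ∈ S ⊓ N(T)) (ns : s ∉ T) (s2 : s * s ∈ T) : #(C[s] ⊓ T) = 4 := by
  obtain ⟨h1, h2⟩ := free h.aT hs.2 (h.aT.ab.le_cen s2) h.hB (bot_of h.hC hs.1 ns)
  have h3 := card_inf_mul_relIndex C[s] T
  rw [h.cT] at h3
  rw [h.cB] at h1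
  nlinarith

theorem i4 : T.relIndex (S ⊓ N(T)) ≤ 4 := by
  obtain ⟨E, h1, L, z, he⟩ := ex8 (h.pS.mono inf_le_left) h.TP inf_le_right h.aT (by rw [h.cT]; omega)
  obtain ⟨b, hb, b1⟩ := SetLike.not_le_iff_exists.1 fun k : E ⊓ B ≤ ⊥ => by
    have a1 := card_inf_mul_relIndex E B
    have a2 := rel_mono (H := E) h.hB
    rw [le_bot_iff.1 k, card_bot, h.cB] at a1
    rw [H3.relIndex_of_card_mul h1 (n := 2) (by rw [h.cT, he.cE])] at a2
    omega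
  refine le_trans ?_ (he.cL ▸ idx1 (he.ce b hb.1))
  rw [← inf_relIndex_right C[b]]
  exact rel_anti fun x hx => h.hC b hb.2 (fun k => b1 (mem_bot.2 k)) ⟨hx.2.1, hx.1⟩

theorem kv (hM : ∀ x ∈ H, x * x ∈ M) (hs : s ∈ S ⊓ N(T)) (hs' : s ∈ H) (ns : s ∉ T) (s2 : s * s ∈ T) :
    #(T ⊓ H) ≤ 4 * #(T ⊓ H ⊓ M) := by
  have a1 := H3.relIndex_centralizer_le_card (T ⊓ H) (T ⊓ H ⊓ M) fun t ht =>
    ⟨⟨cmn hs.2 ht.1, cmem ht.2 hs'⟩, comm_sq hM ht.2 hs'⟩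
  have a2 : #(C[s] ⊓ (T ⊓ H)) ≤ 4 := h.c4 hs ns s2 ▸ card_le (inf_le_inf_left _ inf_le_left)
  rw [← card_inf_mul_relIndex C[s] (T ⊓ H)]
  exact Nat.mul_le_mul a2 a1

theorem srP : SR 4 (S ⊓ N(T)) := fun H M hH hM hs => by
  have pM := FT.card_pos M
  by_cases k : H ≤ T
  · have := card_le k
    rw [h.cT] at this; omega
  obtain ⟨x, hx, nx⟩ := SetLike.not_le_iff_exists.1 k
  obtain ⟨s, s1, s2, s3⟩ := exists_pow_sq (h.pS.piElt (hH hx).1) nx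
  have s4 := zpowers_le.2 hx s1
  have a1 := h.kv hs (hH s4) s4 s2 s3
  have a2 : #(T ⊓ H ⊓ M) ≤ #M := card_le inf_le_right
  have a3 := (rel_mono (H := T) hH).trans h.i4
  have a4 := card_inf_mul_relIndex T H
  nlinarith

section
variable (hg : g ∈ S ⊓ N(S ⊓ N(T))) (ng : g ∉ N(T))
include hg ng

theorem le' : cj g T ≤ S ⊓ N(T) := cj_le_of_nrm hg.2 h.TP
theorem s2 (hs : s ∈ cj g T) : s * s = 1 := by
  obtain ⟨t, ht, rfl⟩ := mem_cj'.1 hs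
  rw [conj_mul (b := g), h.t2 ht]; group
theorem ab' : Ab (cj g T) := ab_iff.2 (by rw [← cj_cen]; exact cj_mono g h.aT.ab.le_cen)
theorem zz : #(T ⊓ cj g T) = 4 ∧ S ⊓ N(T) ≤ T ⊔ cj g T ∧ ∀ s ∈ cj g T, s ∉ T → C[s] ⊓ T ≤ cj g T := by
  have a1 := card_inf_mul_relIndex T (cj g T)
  have a2 := rel_mono (H := T) (h.le' hg ng)
  have a3 := h.i4
  rw [card_cj, h.cT] at a1
  have k : ∀ s ∈ cj g T, s ∉ T → T ⊓ cj g T = C[s] ⊓ T := fun s hs ns => eq_of_card_le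
    (fun x hx => ⟨mem_cen1.2 ((h.ab' hg ng).comm hx.2 hs), hx.1⟩) (by
      rw [h.c4 (h.le' hg ng hs) ns (h.s2 hg ng hs ▸ one_mem _)]; nlinarith)
  obtain ⟨s, hs, ns⟩ := SetLike.not_le_iff_exists.1 fun k : cj g T ≤ T => ng (mem_nrm_of_cj_le k)
  have a4 : #(T ⊓ cj g T) = 4 := by rw [k s hs ns, h.c4 (h.le' hg ng hs) ns (h.s2 hg ng hs ▸ one_mem _)]
  refine ⟨a4, (eq_of_card_le (sup_le h.TP (h.le' hg ng)) ?_).ge, fun s hs ns => (k s hs ns).ge.trans inf_le_right⟩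
  have a5 := card_sup_mul_card_inf ((h.le' hg ng).trans inf_le_right)
  have a6 := FT.card_mul_relIndex h.TP
  rw [a4, card_cj, h.cT] at a5
  rw [h.cT] at a6
  omega

theorem inv (hy : y ∈ S ⊓ N(T)) (y2 : y * y = 1) : y ∈ T ∨ y ∈ cj g T := by
  obtain ⟨-, h1, h2⟩ := h.zz hg ng
  obtain ⟨t, ht, s, hs, rfl⟩ := (mem_sup_norm ((h.le' hg ng).trans inf_le_right)).1 (h1 hy)
  by_cases k : s ∈ T
  · exact Or.inl (mul_mem ht k)
  refine Or.inr (mul_mem (h2 s hs k ⟨c_iff.1 ?_, ht⟩) hs)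
  rw [commutatorElement_def, inv_eq_of_mul_eq_one_right (h.t2 ht), inv_eq_of_mul_eq_one_right (h.s2 hg ng hs), mul_assoc, y2]

theorem elem (hY : Y ≤ S ⊓ N(T)) (aY : Ab Y) (y2 : ∀ y ∈ Y, y * y = 1) : Y ≤ T ∨ Y ≤ cj g T := by
  by_cases k : Y ≤ T
  · exact Or.inl k
  obtain ⟨s, hs, ns⟩ := SetLike.not_le_iff_exists.1 k
  have s1 := (h.inv hg ng (hY hs) (y2 s hs)).resolve_left ns
  exact Or.inr fun y hy => (h.inv hg ng (hY hy) (y2 y hy)).elim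
    (fun e => (h.zz hg ng).2.2 s s1 ns ⟨mem_cen1.2 (aY.comm hy hs), e⟩) id

theorem swap (hy : y ∈ S ⊓ N(S ⊓ N(T))) (ny : y ∉ N(T)) : cj y T = cj g T := eq_of_card_le
  ((h.elem hg ng (h.le' hy ny) (h.ab' hy ny) fun _ => h.s2 hy ny).resolve_left fun k => ny (mem_nrm_of_cj_le k))
  (by rw [card_cj, card_cj])

theorem mulN (hy : y ∈ S ⊓ N(S ⊓ N(T))) (ny : y ∉ N(T)) : g * y ∈ N(T) := by
  rw [← cj_eq_self, ← cj_cj, h.swap (inv_mem hg) (fun k => ng (inv_mem_iff.1 k)) hy ny, cj_cj_inv]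

theorem i2 : (S ⊓ N(T)).relIndex (S ⊓ N(S ⊓ N(T))) = 2 := by
  rw [← H3.relIndex_sup_zpowers Nat.prime_two hg.2 (fun k => ng k.2) (by
    rw [sq]; exact ⟨mul_mem hg.1 hg.1, h.mulN hg ng hg ng⟩)]
  congr 1
  refine le_antisymm (fun y hy => ?_) (sup_le (le_inf inf_le_left (le_nrm _)) (zpowers_le.2 hg))
  by_cases k : y ∈ N(T)
  · exact mem_sup_left ⟨hy.1, k⟩
  · simpa using mul_mem (mem_sup_right (T := ⟪g⟫) (inv_mem (mem_zpowers g)))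
      (mem_sup_left (S := S ⊓ N(T)) ⟨mul_mem hg.1 hy.1, h.mulN hg ng hy k⟩)

theorem inZ (hY : Y ≤ S ⊓ N(T)) (aY : Ab Y) (y2 : ∀ y ∈ Y, y * y = 1) (nY : g ∈ N(Y)) : #Y ≤ 4 := by
  rw [← (h.zz hg ng).1]
  rcases h.elem hg ng hY aY y2 with k | k
  · exact card_le (le_inf k (cj_of_mem_nrm nY ▸ cj_mono g k))
  · refine card_le (le_inf ?_ k)
    rw [← cj_of_mem_nrm nY, ← cj_of_mem_nrm (h.mulN hg ng hg ng), ← cj_cj]
    exact cj_mono g k

end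

theorem main : SR 4 S := by
  by_cases h1 : S ≤ S ⊓ N(T)
  · exact h.srP.mono h1
  obtain ⟨g, g1, g2, -, g3⟩ := exists_mod h.pS le_rfl (le_nrm S) h1
  have hg : g ∈ S ⊓ N(S ⊓ N(T)) := ⟨g1, nrm_mod inf_le_left g3⟩
  have ng : g ∉ N(T) := fun k => g2 ⟨g1, k⟩
  have i2 := h.i2 hg ng
  have PP : S ⊓ N(T) ≤ S ⊓ N(S ⊓ N(T)) := le_inf inf_le_left (le_nrm _)
  have k : S ≤ S ⊓ N(S ⊓ N(T)) := by
    by_contra hn
    obtain ⟨u, u1, u2, -, u3⟩ := exists_mod h.pS le_rfl (le_nrm S) hn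
    have a1 : cj u T ≤ S ⊓ N(S ⊓ N(T)) := cj_le_of_nrm (nrm_mod inf_le_left u3) (h.TP.trans PP)
    have a2 : Ab (cj u T) := ab_iff.2 (by rw [← cj_cen]; exact cj_mono u h.aT.ab.le_cen)
    have a3 : ∀ s ∈ cj u T, s * s = 1 := fun s hs => by
      obtain ⟨t, ht, rfl⟩ := mem_cj'.1 hs
      rw [conj_mul (b := u), h.t2 ht]; group
    by_cases e : cj u T ≤ S ⊓ N(T)
    · rcases h.elem hg ng e a2 a3 with k | k
      · exact u2 (PP ⟨u1, mem_nrm_of_cj_le k⟩)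
      · rw [le_cj_iff, cj_cj] at k
        exact u2 ((Subgroup.mul_mem_cancel_left _ (inv_mem hg)).1 (PP ⟨S.mul_mem (inv_mem g1) u1, mem_nrm_of_cj_le k⟩))
    obtain ⟨y, hy, ny⟩ := SetLike.not_le_iff_exists.1 e
    have a4 := h.inZ (a1 hy) (fun k => ny ⟨(a1 hy).1, k⟩) (Y := S ⊓ N(T) ⊓ cj u T) inf_le_left (a2.mono inf_le_right)
      (fun s hs => a3 s hs.2) (cen_le_nrm _ (cen_anti inf_le_right (a2.le_cen hy)))
    have a5 := card_inf_mul_relIndex (S ⊓ N(T)) (cj u T)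
    have a6 := rel_mono (H := S ⊓ N(T)) a1
    rw [card_cj, h.cT] at a5
    nlinarith
  intro H M hH hM hs
  by_cases e : H ≤ S ⊓ N(T)
  · exact h.srP H M e hM hs
  obtain ⟨y, hy, ny⟩ := SetLike.not_le_iff_exists.1 e
  have y1 := k (hH hy)
  have y2 : y ∉ N(T) := fun k => ny ⟨hH hy, k⟩
  have a1 := (rel_mono (H := S ⊓ N(T)) (hH.trans k)).trans i2.le
  have a2 := (rel_mono (H := T) (inf_le_left : S ⊓ N(T) ⊓ H ≤ _)).trans h.i4
  have a3 := (rel_le_mul T (S ⊓ N(T)) H).trans (Nat.mul_le_mul a2 a1)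
  have a4 := card_inf_mul_relIndex T H
  have pM := FT.card_pos M
  by_cases e1 : T ⊓ H ≤ cj y T
  · have a5 : #(T ⊓ H) ≤ 4 := (h.zz y1 y2).1 ▸ card_le (le_inf inf_le_left e1)
    by_cases e2 : M ≤ ⊥
    · have b1 : ∀ x ∈ H, x * x = 1 := fun x hx => mem_bot.1 (e2 (hs x hx))
      have b2 : Ab H := ab_iff_forall.2 fun x hx z hz =>
        commutatorElement_eq_one_iff_mul_comm.1 (mem_bot.1 (e2 (comm_sq hs hx hz)))
      have b3 := h.inZ y1 y2 (Y := S ⊓ N(T) ⊓ H) inf_le_left (b2.mono inf_le_right) (fun s hs => b1 s hs.2)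
        (cen_le_nrm _ (cen_anti inf_le_right (b2.le_cen hy)))
      have b4 := card_inf_mul_relIndex (S ⊓ N(T)) H
      nlinarith
    · have := two_card bot_le e2
      rw [card_bot] at this
      nlinarith
  obtain ⟨t, ht, nt⟩ := SetLike.not_le_iff_exists.1 e1
  have b1 : y * t * y⁻¹ ∈ cj y T := conj_mem_cj.2 ht.1
  have b2 : y * t * y⁻¹ ∉ T := fun k => nt (by
    rw [← h.swap y1 y2 (inv_mem y1) fun k => y2 (inv_mem_iff.1 k), mem_cj, inv_inv]; exact k)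
  have b3 := h.kv hs (h.le' y1 y2 b1) (mul_mem (mul_mem hy ht.2) (inv_mem hy)) b2 (h.s2 y1 y2 b1 ▸ one_mem _)
  have b4 := two_card (inf_le_right : T ⊓ H ⊓ M ≤ M) fun k => b2 (by
    have := (k (comm_sq hs hy ht.2)).1.1
    rw [commutatorElement_def] at this
    exact (Subgroup.mul_mem_cancel_right _ (inv_mem ht.1)).1 this)
  nlinarith

end Hg

theorem s1235 (hT : IsPGroup 2 T) (hprod : IsInternalDirectProduct K B T)
    (hD : (∃ m : ℕ, 2 ≤ m ∧ Nonempty (K ≃* DihedralGroup m)) ∨ IsQuasiDihedral K) (hB : IsKleinFour B)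
    (hTb : ∀ b ∈ B, orderOf b = 2 → T ≤ C[b] ∧ Odd (T.relIndex C[b])) : SectionalPRankLE 2 4 G := by
  have pT := (pGrp_iff Nat.prime_two).2 hT
  obtain ⟨S, hS, hle⟩ := pT.exists_syl le_top
  obtain ⟨h1, h2, h3, h4, h5⟩ := hprod
  have cB : #B = 4 := hB.card_four
  have b2 : ∀ b ∈ B, b ^ 2 = 1 := fun b hb =>
    congrArg Subtype.val (hB.exponent_two ▸ Monoid.pow_exponent_eq_one (⟨b, hb⟩ : B))
  have aB : Abelem 2 B := ⟨ab_iff_forall.2 fun x hx y hy => commutatorElement_eq_one_iff_mul_comm.1 (mem_bot.1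
    (comm_sq (Y := ⊥) (fun s hs => mem_bot.2 (sq s ▸ b2 s hs)) hx hy)), b2⟩
  have hc : B ≤ C(K) := fun b hb => mem_cen.2 fun a ha => h3 a ha b hb
  have hC : ∀ b ∈ B, b ≠ 1 → S ⊓ C[b] ≤ T := fun b hb b1 => by
    obtain ⟨k1, k2⟩ := hTb b hb (orderOf_eq_prime (b2 b hb) b1)
    rw [← relIndex_mul_relIndex _ _ _ (le_inf hle k1) inf_le_right] at k2
    obtain ⟨_ | i, e⟩ := pw (hS.pi.mono (inf_le_left : S ⊓ C[b] ≤ S)) T
    · exact relIndex_eq_one.1 e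
    · exact absurd (Nat.odd_mul.1 k2).1 (by rw [e, pow_succ, Nat.odd_mul]; simp)
  refine of_top (sr_syl hS ?_)
  rcases hD with ⟨m, hm, ⟨e⟩⟩ | hD
  · rcases hm.eq_or_lt with rfl | hm
    · have k2 : ∀ x ∈ K, x ^ 2 = 1 := fun x hx => by
        have : ∀ y : DihedralGroup 2, y ^ 2 = 1 := by decide
        exact congrArg Subtype.val (e.injective (by rw [map_pow, this, map_one]) : (⟨x, hx⟩ : K) ^ 2 = 1)
      have aK : Abelem 2 K := ⟨ab_iff_forall.2 fun x hx y hy => commutatorElement_eq_one_iff_mul_comm.1 (mem_bot.1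
        (comm_sq (Y := ⊥) (fun s hs => mem_bot.2 (sq s ▸ k2 s hs)) hx hy)), k2⟩
      refine Hg.main (B := B) ⟨hS.pi, hle, h5 ▸ aK.sup aB hc, ?_, h2, cB, hC⟩
      rw [← h5, card_sup_of_inf (cents_norm hc) h4, cB, Nat.card_congr e.toEquiv, DihedralGroup.nat_card]
    · obtain ⟨a, b, n, -, h⟩ := H3.exists_mcd_of_iso' (pT.mono h1) hm e
      exact prod_mc hS.pi hle h.toMC aB cB hc h5 hC
  · obtain ⟨a, b, n, h⟩ := H3.exists_mcs hD
    exact prod_mc hS.pi hle h.toMC aB cB hc h5 hC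

theorem ptop (h : IsPGroup 2 G) : PGrp 2 (⊤ : Subgroup G) := (pGrp_iff Nat.prime_two).2 (h.to_subgroup ⊤)

end Fg

end Cfsg.Agent.GO
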