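import Cfsg.Agent.GO.A5x
import Cfsg.Agent.H18.Tri
import Cfsg.Agent.H3.Extra2

/-! Thompson's lemma on `2`-groups with no normal `E₈` and `[X, A] = X`. -/

set_option autoImplicit false
set_option linter.unusedSectionVars false
set_option linter.unusedVariables false
set_option linter.style.haveILetI false

namespace Cfsg.Agent.GO

open Cfsg Subgroup Cfsg.Agent.FT Cfsg.Agent.GW
open scoped commutatorElement

universe u

variable {G : Type u} [Group G] [Finite G] {D : Set G} {p : ℕ}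
  {A B E H J K L M P Q R S T U V W X Y Z : Subgroup G} {a b d e g r s t v w x y z : G}

/-- `P` is a normal `2`-subgroup without normal `E₈`, `A` has odd order, `[P, A] = P` -/
structure Sc (P A : Subgroup G) : Prop where
  pP : PGrp 2 P
  nP : ⊤ ≤ N(P)
  oA : Odd #A
  cm : ⁅P, A⁆ = P
  ne : ∀ E ≤ P, P ≤ N(E) → Abelem 2 E → #E ≤ 4

theorem comm_le_two (hi : K.relIndex L ≤ 2) (hK : A ≤ N(K)) (hL : A ≤ N(L)) : ⁅L, A⁆ ≤ K := by
  refine commutator_le.2 fun x hx a ha => ?_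
  have h1 : a * x⁻¹ * a⁻¹ ∈ L := conj_mem (hL ha) (inv_mem hx)
  have e : ⁅x, a⁆ = x * (a * x⁻¹ * a⁻¹) := by rw [commutatorElement_def]; group
  rw [e]
  by_cases h : L ≤ K
  · exact h (mul_mem hx h1)
  · have := one_lt_relIndex h
    rw [H3.mul_mem_iff_of_relIndex_two (by omega) hx h1]
    exact ⟨fun h2 => conj_mem (hK ha) (inv_mem h2), fun h2 => by
      simpa [mul_assoc] using inv_mem (conj_mem' (hK ha) h2)⟩

theorem exists_D (nP : ⊤ ≤ N(P)) (nY : ⊤ ≤ N(Y)) (nQ : ⊤ ≤ N(Q)) (hQ : Q ≤ P) :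
    ∃ T : Subgroup G, ⊤ ≤ N(T) ∧ ∀ x, x ∈ T ↔ x ∈ Q ∧ x * x ∈ Y ∧ ∀ g ∈ P, ⁅x, g⁆ ∈ Y := by
  have cj : ∀ g : G, ∀ y ∈ Y, g * y * g⁻¹ ∈ Y := fun g y hy => conj_mem (nY trivial) hy
  let T : Subgroup G :=
    { carrier := {x | x ∈ Q ∧ x * x ∈ Y ∧ ∀ g ∈ P, ⁅x, g⁆ ∈ Y}
      one_mem' := ⟨one_mem _, by simp, by simp⟩
      mul_mem' := by
        rintro x y ⟨h1, h2, h3⟩ ⟨k1, k2, k3⟩
        refine ⟨mul_mem h1 k1, ?_, fun g hg => ?_⟩
        · have : x * y * (x * y) = x * ⁅y, x⁆ * x⁻¹ * (x * x) * (y * y) := by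
            rw [commutatorElement_def]; group
          rw [this]
          exact mul_mem (mul_mem (cj _ _ (k3 x (hQ h1))) h2) k2
        · have : ⁅x * y, g⁆ = x * ⁅y, g⁆ * x⁻¹ * ⁅x, g⁆ := by simp only [commutatorElement_def]; group
          rw [this]
          exact mul_mem (cj _ _ (k3 g hg)) (h3 g hg)
      inv_mem' := by
        rintro x ⟨h1, h2, h3⟩
        refine ⟨inv_mem h1, by rw [← mul_inv_rev]; exact inv_mem h2, fun g hg => ?_⟩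
        have : ⁅x⁻¹, g⁆ = x⁻¹ * ⁅x, g⁆⁻¹ * x⁻¹⁻¹ := by simp only [commutatorElement_def]; group
        rw [this]
        exact cj _ _ (inv_mem (h3 g hg)) }
  refine ⟨T, le_nrm_iff.2 fun a _ x hx => ⟨conj_mem (nQ trivial) hx.1, ?_, fun g hg => ?_⟩, fun _ => Iff.rfl⟩
  · rw [conj_mul (b := a)]; exact cj _ _ hx.2.1
  · have : ⁅a * x * a⁻¹, g⁆ = a * ⁅x, a⁻¹ * g * a⁆ * a⁻¹ := by simp only [commutatorElement_def]; group
    rw [this]
    exact cj _ _ (hx.2.2 _ (conj_mem' (nP trivial) hg))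

theorem exists_mod (hP : PGrp 2 P) (hQ : Q ≤ P) (nQ : P ≤ N(Q)) (h : ¬ Q ≤ Y) :
    ∃ x ∈ Q, x ∉ Y ∧ x * x ∈ Y ∧ ∀ g ∈ P, ⁅x, g⁆ ∈ Y := by
  haveI : Fact (Nat.Prime 2) := ⟨Nat.prime_two⟩
  simpa only [sq] using H3.exists_central_mod_of_le (N := Y) hP.isPGroup hQ nQ h

namespace Sc
variable (h : Sc P A)
include h

theorem cop (hK : K ≤ P) : Cop K A := cop_of_odd (h.pP.mono hK) h.oA
theorem nA : A ≤ N(P) := le_top.trans h.nP

theorem cen_of (nK : P ≤ N(K)) (hA : A ≤ C(K)) : K ≤ C(P) := by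
  have h1 : ⁅⁅P, K⁆, A⁆ = ⊥ := comm_eq_bot.2 ((comm_le_right nK).trans (centsC hA))
  have h2 : ⁅⁅K, A⁆, P⁆ = ⊥ := by rw [comm_eq_bot'.2 hA, commutator_bot_left]
  have := three_subgroup h1 h2
  rwa [commutator_comm A, h.cm, comm_eq_bot'] at this

theorem le_of_two (hi : K.relIndex P ≤ 2) (hK : A ≤ N(K)) : P ≤ K := h.cm ▸ comm_le_two hi hK h.nA

theorem invol (hW : W ≤ P) (aW : Abelem 2 W) (cW : #W = 4) (nW : P ≤ N(W)) (hs : s ∈ P) (s2 : s * s = 1)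
    (cs : s ∈ C(W)) (hc : ∀ g ∈ P, ⁅s, g⁆ ∈ W) : s ∈ W := by
  by_contra hn
  have e2 : s ^ 2 = 1 := by rwa [sq]
  have := h.ne (W ⊔ ⟪s⟫) (sup_le hW (zpowers_le.2 hs)) (norms_of_comm_le ((comm_sup_le (X := W)
    (sup_le (le_nrm W) (zpowers_le.2 (nW hs))) (comm_le_left nW) (by
      rw [commutator_comm]
      exact comm_zpowers_le (nW hs) nW hc)).trans le_sup_left)) (aW.sup_zpowers cs e2)
  rw [H3.card_sup_zpowers Nat.prime_two (nW hs) hn (e2 ▸ one_mem _), cW] at this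
  omega

theorem fix_mod (nK : ⊤ ≤ N(K)) (hd : ⁅P, P⁆ ≤ K) (hx : x ∈ P) (hc : ∀ a ∈ A, ⁅x, a⁆ ∈ K) : x ∈ K := by
  have n : ∀ B : Subgroup G, B ≤ N(K) := fun B => le_top.trans nK
  have h1 := coprime_cent_comm_le_der (quo_norms K h.nA) ((h.cop le_rfl).quo K)
  rw [← quo_comm (n _) (n _), ← quo_comm (n _) (n _), h.cm, quo_eq_bot_of_le hd] at h1
  refine (coset_eq_one_iff (nK trivial)).1 (mem_bot.1 (h1 ⟨mem_quo_of_mem (nK trivial) hx, FT.mem_cen.2 ?_⟩))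
  intro u hu
  obtain ⟨a, ha, ha', rfl⟩ := mem_quo.1 hu
  exact ((coset_commute_iff (nK trivial) ha').2 (hc a ha)).symm

theorem special (h1 : ∀ B ≤ P, ⊤ ≤ N(B) → Ab B → A ≤ C(B)) : Special P ∧ Abelem 2 Z(P) := by
  haveI : Fact (Nat.Prime 2) := ⟨Nat.prime_two⟩
  obtain ⟨K, hK, nK, k1, k2, k3⟩ := H3.exists_critical h.pP.isPGroup
  have nK' : ⊤ ≤ N(K) := h.nP.trans nK
  have zK : Z(K) ≤ C(P) := h.cen_of (le_top.trans (norms_center nK'))
    (h1 _ (inf_le_left.trans hK) (norms_center nK') (ab_center K))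
  have zP : P ⊓ C(K) ≤ Z(P) := le_inf inf_le_left ((le_inf k3 inf_le_right).trans zK)
  have d : ⁅P, P⁆ ≤ Z(P) := by
    refine le_trans (le_inf (der_le P) (comm_eq_bot.1 (three_subgroup (A := P) (B := K) (C := P) ?_ ?_))) zP
    · rw [commutator_comm P K]; exact comm_eq_bot.2 (k2.trans zK)
    · exact comm_eq_bot.2 (k2.trans zK)
  have c : ∀ x ∈ P, ∀ y ∈ P, ∀ g ∈ P, Commute g ⁅x, y⁆ := fun x hx y hy g hg =>
    FT.mem_cen.1 (d (commutator_mem_commutator hx hy)).2 g hg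
  have s : ∀ x ∈ P, x ^ 2 ∈ Z(P) := fun x hx => zP ⟨pow_mem hx 2, FT.mem_cen.2 fun k hk => by
    rw [← commutatorElement_eq_one_iff_mul_comm, H3.comm_pow_right (c k (hK hk) x hx x hx),
      ← H3.comm_pow_left (c k (hK hk) x hx k (hK hk)), commutatorElement_eq_one_iff_mul_comm]
    exact (FT.mem_cen.1 (zK ⟨pow_mem hk 2, k1 k hk⟩) x hx).symm⟩
  have z : Z(P) ≤ ⁅P, P⁆ := le_trans (le_inf (h.cm.symm ▸ inf_le_left)
    (centsC (h1 _ inf_le_left (norms_center h.nP) (ab_center P)))) (coprime_cent_comm_le_der h.nA (h.cop le_rfl))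
  have e := le_antisymm d z
  refine ⟨⟨le_antisymm ((h.pP.Phi_le_iff Nat.prime_two).2 ⟨d, s⟩) (e ▸ h.pP.der_le_Phi), e⟩, ?_⟩
  refine (abelem_Ohm_center 2 P).mono (z.trans (commutator_le.2 fun x hx y hy =>
    mem_Ohm (d (commutator_mem_commutator hx hy)) ?_))
  rw [← H3.comm_pow_left (c x hx y hy x hx), commutatorElement_eq_one_iff_mul_comm]
  exact (FT.mem_cen.1 (s x hx).2 y hy).symm

theorem xs (h1 : ∀ B ≤ P, ⊤ ≤ N(B) → Ab B → A ≤ C(B)) (hx : H3.XS 2 P z) (hn : ¬ Ab P) :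
    Nonempty (P ≃* QuaternionGroup 2) ∨ #P = 32 ∧ H3.nsq P = 12 := by
  obtain ⟨n, n1, hc⟩ := hx.card' hn
  obtain ⟨E, hE, aE, cE⟩ := hx.exists_abelem hc
  have l : E ⊔ ⟪z⟫ ≤ P := sup_le hE hx.zle
  have c4 := (card_le le_sup_left).trans (h.ne _ l (hx.nrm l (mem_sup_right (mem_zpowers z)))
    (aE.sup_zpowers (cen_anti hE hx.cen) hx.z_pow))
  rw [cE] at c4
  have c5 := (Nat.pow_le_pow_iff_right one_lt_two (m := 2)).1 c4
  rcases hx.nsq_eq hc with ⟨d, e⟩ | ⟨d, e⟩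
  · exfalso
    rw [if_pos d] at c5
    obtain rfl : n = 1 := by omega
    have e2 := H3.ncard_compl P (· ^ 2 = 1)
    have e3 : {w | w ∈ P ∧ ¬ w ^ 2 = 1}.ncard = 2 := by
      rw [hc] at e2; change H3.nsq P + _ = _ at e2; omega
    obtain ⟨x, hxP, x2⟩ : {w | w ∈ P ∧ ¬ w ^ 2 = 1}.Nonempty := Set.nonempty_of_ncard_ne_zero (by omega)
    have xi : x ≠ x⁻¹ := fun e => x2 (by rw [sq]; nth_rewrite 2 [e]; exact mul_inv_cancel x)
    have e4 : {x, x⁻¹} = {w | w ∈ P ∧ ¬ w ^ 2 = 1} := Set.eq_of_subset_of_ncard_le (by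
      rintro _ (rfl | rfl)
      · exact ⟨hxP, x2⟩
      · exact ⟨inv_mem hxP, by rwa [inv_pow, inv_eq_one]⟩) (by rw [e3, Set.ncard_pair xi]) (Set.toFinite _)
    have nx : ⊤ ≤ N(⟪x⟫) := fun g _ => H3.mem_nrm_zpowers (by
      have : g * x * g⁻¹ ∈ ({x, x⁻¹} : Set G) := e4 ▸ ⟨conj_mem (h.nP trivial) hxP, by
        rwa [conj_pow, conj_eq_one_iff]⟩
      rcases this with e | e <;> rw [e]
      exacts [mem_zpowers x, inv_mem (mem_zpowers x)])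
    exact x2 (hx.pow_of_mem (hx.mem_z hxP (h.cen_of (le_top.trans nx)
      (h1 _ (zpowers_le.2 hxP) nx (ab_zpowers x)) (mem_zpowers x))))
  · rw [if_neg (not_lt.2 d.le)] at c5
    obtain rfl | rfl : n = 1 ∨ n = 2 := by omega
    · have hno : ¬ ∃ u ∈ P, u ^ 2 = 1 ∧ u ∉ C(P) := fun e' => by
        rw [hx.dl_eight e' hc] at d; omega
      obtain ⟨a, b, m⟩ := H3.mc_of_card_eight hc hn
      have mq : H3.MCQ _ a b 2 := ⟨m, m.conj.resolve_right fun e => by omega, m.sq_eq.resolve_left fun e =>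
        hno ⟨b, m.b_mem, e, fun e' => m.not_comm (FT.mem_cen.1 e' a m.a_mem)⟩⟩
      exact .inl mq.iso
    · exact .inr ⟨hc, by omega⟩

theorem four (hA : A ≤ C(Z(P))) (hs : Special P) (ha : Abelem 2 Z(P)) (c4 : #Z(P) = 4) :
    (∀ s ∈ P, s * s = 1 → s ∈ Z(P)) ∧ #P = 64 := by
  have nZ := norms_center h.nP
  have hn : ¬ Ab P := fun e => by
    rw [← hs.der, ab_iff_der.1 e, card_bot] at c4; omega
  have d : ∀ x ∈ P, ∀ y ∈ P, ⁅x, y⁆ ∈ Z(P) := fun x hx y hy => hs.der ▸ commutator_mem_commutator hx hy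
  have i : ∀ s ∈ P, s * s = 1 → s ∈ Z(P) := fun s hs s2 => h.invol inf_le_left ha c4 (le_top.trans nZ) hs s2
    (centsC inf_le_right hs) (d s hs)
  have q : ∀ x ∈ P, x * x ∈ Z(P) := fun x hx => by
    rw [← sq, ← hs.phi]; exact h.pP.pow_mem_Phi hx
  refine ⟨i, ?_⟩
  have r := H18.relIndex_le_sq (V := Z(P)) (W := P) inf_le_left inf_le_right (fun v hv => by rw [← sq, ha.pow hv]) q i
  have m := FT.card_mul_relIndex (inf_le_left : Z(P) ≤ P)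
  obtain ⟨k, hk⟩ := h.pP.card
  rw [c4] at r m
  have k6 : k ≤ 6 := (Nat.pow_le_pow_iff_right one_lt_two).1 (by rw [← hk]; omega)
  have l2 : ¬ Z(P).relIndex P ≤ 2 := fun e => hn ((ab_center P).mono (h.le_of_two e (le_top.trans nZ)))
  have k4 : k ≠ 4 := by
    rintro rfl
    obtain ⟨x, hx, hx'⟩ := SetLike.not_le_iff_exists.1 fun e : P ≤ Z(P) => hn ((ab_center P).mono e)
    have l : Z(P) ⊔ ⟪x⟫ ≤ P := sup_le inf_le_left (zpowers_le.2 hx)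
    have c8 := H3.card_sup_zpowers Nat.prime_two (nZ trivial) hx' (sq x ▸ q x hx)
    have := H3.card_ab_max Nat.prime_two h.pP l ((ab_center P).sup (ab_zpowers x)
      (zpowers_le.2 (centsC inf_le_right hx))) (H3.relIndex_of_card_mul l (by rw [hk, c8, c4]; rfl)) hn
    rw [c8, hs.der, c4] at this; omega
  have k5 : k ≠ 5 := by
    rintro rfl
    obtain ⟨w, hw, w1, w2⟩ := H3.exists_invol_of_pGrp (ha.pGrp Nat.prime_two) fun e => by
      rw [e, card_bot] at c4; omega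
    have c2 : #⟪w⟫ = 2 := by rw [card_zpowers', orderOf_eq_prime (by rwa [sq]) w1]
    have nw : P ≤ N(⟪w⟫) := norms_zpowers_of_cen1 (le_cen1.2 hw.2)
    have aw : A ≤ N(⟪w⟫) := norms_zpowers_of_cen1 (hA.trans (cen_le_cen1 hw))
    have wZ : ⟪w⟫ ⊴ Z(P) := ⟨zpowers_le.2 hw, inf_le_left.trans nw⟩
    have c16 := card_quo_mul (⟨zpowers_le.2 hw.1, nw⟩ : ⟪w⟫ ⊴ P)
    have cZ := card_quo_mul wZ
    rw [c2] at c16 cZ
    obtain ⟨u, xc, -⟩ := H3.xc_of_der Nat.prime_two (h.pP.quo ⟪w⟫) (by rw [← quo_comm nw nw, hs.der]; omega)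
    obtain ⟨r, hr⟩ := xc.card
    have z2 : 2 ≤ #Z(P /ₛ ⟪w⟫) := xc.card_z ▸ card_le xc.zle_center
    have z16 : #Z(P /ₛ ⟪w⟫) ≠ 16 := fun e => by
      have : Ab (P /ₛ ⟪w⟫) := eq_of_card_eq (inf_le_left : Z(P /ₛ ⟪w⟫) ≤ _) (by omega) ▸ ab_center _
      rw [ab_iff_der, ← quo_comm nw nw, hs.der] at this
      rw [this, card_bot] at cZ; omega
    have z4 : #Z(P /ₛ ⟪w⟫) = 4 := by
      rcases r with _ | _ | r
      · omega
      · omega
      · rw [show 2 * (r + 1 + 1) = 2 * r + 4 by ring, pow_add] at hr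
        have := Nat.mul_le_mul (Nat.one_le_two_pow (n := 2 * r)) z2
        nlinarith
    have c8 := card_qpre Z(P /ₛ ⟪w⟫)
    have l1 : Z(P) ≤ qpre(⟪w⟫, Z(P /ₛ ⟪w⟫)) := (quo_le_iff wZ.nrm).1 (quo_center_le _ _)
    have l2 : qpre(⟪w⟫, Z(P /ₛ ⟪w⟫)) ≤ P := qpre_le_of_le_quo (zpowers_le.2 hw.1) inf_le_left
    have n1 : A ≤ N(qpre(⟪w⟫, Z(P /ₛ ⟪w⟫))) := norms_qpre aw (norms_center (quo_norms _ h.nA))
    have l3 := comm_le_two (H3.relIndex_of_card_mul l1 (n := 2) (by rw [c8, c2, z4, c4])).le (le_top.trans nZ) n1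
    have l4 : qpre(⟪w⟫, Z(P /ₛ ⟪w⟫)) ≤ Z(P) := fun x hx => h.fix_mod nZ hs.der.le (l2 hx) fun a ha =>
      l3 (commutator_mem_commutator hx ha)
    have := card_le l4
    rw [c8, c2, z4, c4] at this; omega
  rw [hk] at m ⊢
  interval_cases k <;> omega

end Sc

end Cfsg.Agent.GO
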