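import Cfsg.Agent.GO.N27

/-! Thompson's lemma, the case of a four-group moved by the operators. -/

set_option autoImplicit false
set_option linter.unusedSectionVars false
set_option linter.unusedVariables false
set_option linter.style.haveILetI false

namespace Cfsg.Agent.GO

open Cfsg Subgroup Cfsg.Agent.FT Cfsg.Agent.GW
open scoped commutatorElement

universe u

variable {G : Type u} [Group G] [Finite G] {D : Set G} {p : ℕ}
  {A B E H J K L M P Q R S T U V W X Y Z : Subgroup G} {a b d e g r s t v w x y z : G}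

/-- a normal four-subgroup `W` moved by the `3`-element `r` of `A` -/
structure Sd (P A W : Subgroup G) (r : G) : Prop extends Sc P A where
  le : W ≤ P
  nW : ⊤ ≤ N(W)
  aW : Abelem 2 W
  cW : #W = 4
  rA : r ∈ A
  three : PiElt {3} r
  nc : r ∉ C(W)

namespace Sd
variable (h : Sd P A W r)
include h

theorem cen : W ≤ C(P) := centsC (h.le_of_two (Nat.le_of_dvd two_pos
  (H3.relIndex_cen_dvd h.pP (p := 2) h.cW (le_top.trans h.nW))) (le_top.trans (norms_cent h.nW)))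

theorem sq (hw : w ∈ W) : w * w = 1 := by rw [← pow_two, h.aW.pow hw]
theorem comm (hw : w ∈ W) (hx : x ∈ P) : x * w = w * x := FT.mem_cen.1 (h.cen hw) x hx

theorem inv (hs : s ∈ P) (s2 : s * s = 1) (hc : ∀ g ∈ P, ⁅s, g⁆ ∈ W) : s ∈ W :=
  h.invol h.le h.aW h.cW (le_top.trans h.nW) hs s2 (centsC h.cen hs) hc

theorem ohm (h1 : W ≤ Y) (hi : ∀ y ∈ Y, y * y = 1 → y ∈ W) : Ω[2](Y) = W :=
  le_antisymm (Ohm_le_iff.2 fun y hy e => hi y hy (by rwa [← pow_two])) fun w hw => mem_Ohm (h1 hw) (h.aW.pow hw)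

theorem tri (h1 : W ≤ Y) (h2 : Y ≤ P) (nY : r ∈ N(Y)) (hi : ∀ y ∈ Y, y * y = 1 → y ∈ W) : H18.Tri Y r := by
  have e := h.ohm h1 hi
  exact ⟨h.pP.mono h2, e.symm ▸ h.cW, e.symm ▸ h.cen.trans (cen_anti h2), nY, h.three, e.symm ▸ h.nc⟩

theorem triW : H18.Tri W r := h.tri le_rfl h.le (h.nW trivial) fun _ hy _ => hy
theorem ohmW : Ω[2](W) = W := h.ohm le_rfl fun _ hy _ => hy
theorem fpf (hw : w ∈ W) (e : r * w * r⁻¹ = w) : w = 1 := h.triW.fpf (h.ohmW.symm ▸ hw) e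
theorem W_le (h1 : V ≤ W) (hn : r ∈ N(V)) (h2 : V ≠ ⊥) : W ≤ V := h.ohmW ▸ h.triW.O_le h1 hn h2

theorem center (h1 : W ≤ Y) (h2 : Y ≤ P) (nY : r ∈ N(Y)) (hi : ∀ y ∈ Y, y * y = 1 → y ∈ W) (hn : ¬ Ab Y) :
    Z(Y) = W := by
  rw [center_eq_map, (h.tri h1 h2 nY hi).map_center hn, h.ohm h1 hi]

/-- the elements of `A` act on `W` as powers of `r` -/
theorem split (ha : a ∈ A) : ∃ i : ℕ, (r ^ i)⁻¹ * a ∈ C(W) := by
  obtain ⟨w, hw, w1, w2⟩ := H3.exists_invol_of_pGrp (h.pP.mono h.le) fun e => by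
    have := h.cW; rw [e, card_bot] at this; omega
  obtain ⟨i, hi⟩ := h.triW.trans (h.ohmW.symm ▸ hw) w1 (h.ohmW.symm ▸ conj_mem (h.nW trivial) hw)
    (y := a * w * a⁻¹) (by rwa [Ne, conj_eq_one_iff])
  refine ⟨i, ?_⟩
  have m : (r ^ i)⁻¹ * a ∈ A := mul_mem (inv_mem (pow_mem h.rA i)) ha
  have c : (r ^ i)⁻¹ * a ∈ C[w] := mem_cen1.2 (by
    calc _ = (r ^ i)⁻¹ * (a * w * a⁻¹) * a := by group
      _ = _ := by rw [← hi]; group)
  have c2 : #⟪w⟫ = 2 := by rw [card_zpowers', orderOf_eq_prime (by rwa [pow_two]) w1]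
  refine zpowers_le.1 (stable_factor_cent (N := ⟪w⟫) (le_top.trans h.nW)
    (cop_of_odd (h.pP.mono h.le) (odd_of_le (zpowers_le.2 m) h.oA)) (comm_le_two
      (H3.relIndex_of_card_mul (zpowers_le.2 hw) (n := 2) (by rw [h.cW, c2])).le
      (norms_zpowers_of_cen1 (zpowers_le.2 c)) (le_top.trans h.nW)) (cen_zpowers w ▸ zpowers_le.2 c))

theorem goal_nab (nT : ⊤ ≤ N(T)) (hT : ∀ x, x ∈ T ↔ x ∈ P ∧ x * x ∈ W ∧ ∀ g ∈ P, ⁅x, g⁆ ∈ W) (hn : ¬ Ab T) :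
    P ≤ T := by
  have l : T ≤ P := fun x hx => ((hT x).1 hx).1
  have cw : ∀ x ∈ T, ∀ g ∈ P, ⁅g, x⁆ ∈ W := fun x hx g hg => by
    rw [← commutatorElement_inv]; exact inv_mem (((hT x).1 hx).2.2 g hg)
  have l1 : W ≤ T := fun w hw => (hT w).2 ⟨h.le hw, mul_mem hw hw, fun g hg => by
    rw [commutatorElement_eq_one_iff_mul_comm.2 (h.comm hw hg).symm]; exact one_mem _⟩
  have z := h.center l1 l (nT trivial) (fun y hy e => h.inv (l hy) e ((hT y).1 hy).2.2) hn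
  have k : P ⊓ C(T) ≤ W := by
    by_contra hc
    obtain ⟨x, hx, h1, h2⟩ := exists_mod h.pP inf_le_left (le_top.trans (norms_subcent h.nP nT)) hc
    exact h1 (z ▸ ⟨(hT x).2 ⟨hx.1, h2⟩, hx.2⟩)
  have q : ∀ x ∈ P, x * x ∈ W := fun x hx => k ⟨mul_mem hx hx, FT.mem_cen.2 fun d hd => by
    rw [eq_comm, ← commutatorElement_eq_one_iff_mul_comm, ← pow_two,
      H3.comm_pow_left (h.comm (cw d hd x hx) hx), h.aW.pow (cw d hd x hx)]⟩
  exact fun x hx => (hT x).2 ⟨hx, q x hx, fun g hg => H3.comm_mem_of_sq q hx hg⟩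

end Sd

/-- `B / W = Ω₁(Z(P / W))` is abelian and larger than `W` -/
structure Se (P A W B : Subgroup G) (r : G) : Prop extends Sd P A W r where
  nB : ⊤ ≤ N(B)
  mem : ∀ x, x ∈ B ↔ x ∈ P ∧ x * x ∈ W ∧ ∀ g ∈ P, ⁅x, g⁆ ∈ W
  ab : Ab B
  nle : ¬ B ≤ W

namespace Se
variable (h : Se P A W B r)
include h

theorem BP : B ≤ P := fun x hx => ((h.mem x).1 hx).1
theorem WB : W ≤ B := fun w hw => (h.mem w).2 ⟨h.le hw, mul_mem hw hw, fun g hg => by
  rw [commutatorElement_eq_one_iff_mul_comm.2 (h.comm hw hg).symm]; exact one_mem _⟩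
theorem cw (hb : b ∈ B) (hg : g ∈ P) : ⁅b, g⁆ ∈ W := ((h.mem b).1 hb).2.2 g hg
theorem sw (hb : b ∈ B) : b * b ∈ W := ((h.mem b).1 hb).2.1
theorem iB (hb : b ∈ B) (e : b * b = 1) : b ∈ W := h.inv (h.BP hb) e fun _ => h.cw hb

theorem root (hS : S ≤ B) (nS : r ∈ N(S)) (hn : ¬ S ≤ W) (hw : w ∈ W) : ∃ b ∈ S, b * b = w := by
  have aS := h.ab.mono hS
  obtain ⟨b, hb, e⟩ := aS.mem_Mho_iff.1 (h.W_le (V := ℧[2](S)) (fun x hx => by
    obtain ⟨y, hy, rfl⟩ := aS.mem_Mho_iff.1 hx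
    exact pow_two y ▸ h.sw (hS hy)) (zpowers_le.1 (norms_Mho 2 (zpowers_le.2 nS))) (fun e => hn fun y hy =>
      h.iB (hS hy) (by rw [← pow_two, ← mem_bot, ← e]; exact aS.mem_Mho_iff.2 ⟨y, hy, rfl⟩)) hw)
  exact ⟨b, hb, by rw [e, pow_two]⟩

theorem inS (hS : S ≤ B) (nS : r ∈ N(S)) (hn : ¬ S ≤ W) (h1 : W ≤ S) (hY : B ≤ Y)
    (hi : ∀ y ∈ Y, y * y = 1 → y ∈ W) (hy : y ∈ Y) (hc : y ∈ C(B)) (e : y * y ∈ W) : y ∈ S := by
  obtain ⟨b, hb, e1⟩ := h.root hS nS hn e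
  have c := FT.mem_cen.1 hc b (hS hb)
  have : y * b⁻¹ ∈ W := hi _ (mul_mem hy (inv_mem (hY (hS hb)))) (by
    calc _ = y * (b⁻¹ * (y * b) * b⁻¹) * b⁻¹ := by group
      _ = y * y * (b * b)⁻¹ := by rw [← c]; group
      _ = 1 := by rw [e1, mul_inv_cancel])
  simpa using mul_mem (h1 this) hb

theorem invC : ∀ y ∈ P ⊓ C(B), y * y = 1 → y ∈ W := by
  have nC := norms_subcent h.nP h.nB
  obtain ⟨Y, l1, ⟨l2, nY, hi⟩, hm⟩ := exists_max (fun Y => Y ≤ P ⊓ C(B) ∧ ⊤ ≤ N(Y) ∧ ∀ y ∈ Y, y * y = 1 → y ∈ W)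
    (A := B) ⟨le_inf h.BP h.ab.le_cen, h.nB, fun _ => h.iB⟩
  by_cases e : P ⊓ C(B) ≤ Y
  · exact fun y hy => hi y (e hy)
  exfalso
  obtain ⟨T, nT, hT⟩ := exists_D h.nP nY nC inf_le_left
  obtain ⟨x, hx, x1, x2⟩ := exists_mod h.pP inf_le_left (le_top.trans nC) e
  have l3 : Y ≤ T := fun y hy => (hT y).2 ⟨l2 hy, mul_mem hy hy, fun g _ =>
    comm_le_left (B := ⊤) nY (commutator_mem_commutator hy trivial)⟩
  have : ¬ ∀ y ∈ T, y * y = 1 → y ∈ W := fun hi' =>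
    x1 (hm T ⟨fun y hy => ((hT y).1 hy).1, nT, hi'⟩ l3 ▸ (hT x).2 ⟨hx, x2⟩)
  push Not at this
  obtain ⟨s, hs, s2, sW⟩ := this
  obtain ⟨sC, -, s3⟩ := (hT s).1 hs
  have key : ∀ n : ℕ, ∀ y ∈ Y, s * y * s⁻¹ = y⁻¹ → y ^ 2 ^ n = 1 → y * y = 1 := by
    intro n
    induction n with
    | zero => intro y _ _ e; simp [show y = 1 by simpa using e]
    | succ n ih =>
      intro y hy e1 e2
      have e3 := ih (y * y) (mul_mem hy hy) (by rw [← conj_mul, e1, mul_inv_rev])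
        (by rw [← pow_two, ← pow_mul, ← pow_succ', e2])
      have yB := h.inS le_rfl (h.nB trivial) h.nle h.WB l1 hi hy (l2 hy).2 (hi _ (mul_mem hy hy) e3)
      rw [← FT.mem_cen.1 sC.2 y yB, mul_inv_cancel_right] at e1
      nth_rewrite 2 [e1]; exact mul_inv_cancel y
  refine sW (h.inv sC.1 s2 fun g hg => hi _ (s3 g hg) ?_)
  obtain ⟨n, hn⟩ := (h.pP.isPGroup (p := 2)) ⟨_, (l2 (s3 g hg)).1⟩
  refine key n _ (s3 g hg) ?_ (congrArg Subtype.val hn)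
  have si : s⁻¹ = s := inv_eq_of_mul_eq_one_right s2
  rw [commutatorElement_inv, commutatorElement_def, commutatorElement_def, si]
  calc _ = s * s * (g * s * g⁻¹ * s) := by group
    _ = _ := by rw [s2, one_mul]

theorem cl (hb : b ∈ B) (hd : d ∈ B) (hx : x ∈ P) : ⁅b * d, x⁆ = ⁅b, x⁆ * ⁅d, x⁆ := by
  rw [H3.comm_mul_left_of_commute (h.comm (h.cw hd hx) (h.BP hb)), h.comm (h.cw hb hx) (h.le (h.cw hd hx))]

theorem cr (hb : b ∈ B) (hx : x ∈ P) (hy : y ∈ P) : ⁅b, x * y⁆ = ⁅b, x⁆ * ⁅b, y⁆ :=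
  H3.comm_mul_right_of_commute (h.comm (h.cw hb hy) hx)

theorem memC (hx : x ∈ P) : x ∈ P ⊓ C(B) ↔ ∀ b ∈ B, ⁅b, x⁆ = 1 :=
  ⟨fun e b hb => commutatorElement_eq_one_iff_mul_comm.2 (FT.mem_cen.1 e.2 b hb), fun e =>
    ⟨hx, FT.mem_cen.2 fun b hb => commutatorElement_eq_one_iff_mul_comm.1 (e b hb)⟩⟩

theorem sqC (hx : x ∈ P) : x * x ∈ P ⊓ C(B) := (h.memC (mul_mem hx hx)).2 fun b hb => by
  rw [h.cr hb hx hx, h.sq (h.cw hb hx)]

theorem triB : H18.Tri B r := h.tri h.WB h.BP (h.nB trivial) fun _ => h.iB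

theorem commC (ha : a ∈ A) (hc : a ∈ C(W)) (hx : x ∈ P) : ⁅x, a⁆ ∈ P ⊓ C(B) := by
  have l := zpowers_le.2 ha
  have c1 : ⟪a⟫ ≤ C(B) := coprime_abelian_faithful_Ohm1 (le_top.trans h.nB)
    (cop_of_odd (h.pP.mono h.BP) (odd_of_le l h.oA)) h.ab (h.pP.mono h.BP)
    (by rw [h.ohm h.WB fun _ => h.iB]; exact zpowers_le.2 hc)
  have h1 : ⁅⁅⟪a⟫, B⁆, P⁆ = ⊥ := by rw [comm_eq_bot.2 c1, commutator_bot_left]
  have h2 : ⁅⁅B, P⁆, ⟪a⟫⁆ = ⊥ := comm_eq_bot'.2 ((zpowers_le.2 hc).trans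
    (cen_anti (commutator_le.2 fun b hb g hg => h.cw hb hg)))
  exact ⟨comm_le_left h.nA (commutator_mem_commutator hx ha), comm_eq_bot.1 (three_subgroup h1 h2)
    (commutator_mem_commutator hx (mem_zpowers a))⟩

theorem fixC (hx : x ∈ P) (e : ⁅x, r⁆ ∈ P ⊓ C(B)) : x ∈ P ⊓ C(B) := by
  have nC := norms_subcent h.nP h.nB
  refine h.fix_mod nC (H3.der_le_of_sq fun _ => h.sqC) hx fun a ha => ?_
  obtain ⟨i, hi⟩ := h.split ha
  have h1 := (coset_commute_iff (nC trivial) (nC trivial)).2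
    (h.commC (mul_mem (inv_mem (pow_mem h.rA i)) ha) hi hx)
  have h2 := (coset_commute_iff (nC trivial) (nC trivial)).2 e
  rw [← coset_commute_iff (nC trivial) (nC trivial), ← mul_inv_cancel_left (r ^ i) a,
    coset_mul (nC trivial) (nC trivial), coset_pow (nC trivial)]
  exact ((Commute.pow_right h2 i).mul_right h1).eq

theorem nu (ht : t ∈ P) : t * (r⁻¹ * t * r) * (r⁻¹ * (r⁻¹ * t * r) * r) ∈ P ⊓ C(B) := by
  have nC := norms_subcent h.nP h.nB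
  have c : ∀ x ∈ P, r⁻¹ * x * r ∈ P := fun x hx => conj_mem' (h.nP trivial) hx
  refine h.fixC (mul_mem (mul_mem ht (c t ht)) (c _ (c t ht))) ?_
  have n : ∀ g : G, g ∈ N(P ⊓ C(B)) := fun g => nC trivial
  have k := (coset_commute_iff (n _) (n _)).2 (h.commC (pow_mem h.rA 3) (h.ohmW ▸ h.triW.cube_O) ht)
  have k2 := (coset_commute_iff (n _) (n _)).2 (H3.comm_mem_of_sq (fun _ => h.sqC) ht
    (mul_mem (c t ht) (c _ (c t ht))))
  rw [← coset_commute_iff (n _) (n _)]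
  simp only [coset_mul (n _) (n _), coset_inv (n _), coset_pow (n _)] at k k2 ⊢
  generalize coset(P ⊓ C(B), t) = T at *
  generalize coset(P ⊓ C(B), r) = R at *
  calc _ = R * (R⁻¹ * T * R * (R⁻¹ * (R⁻¹ * T * R) * R) * ((R ^ 3)⁻¹ * (T * R ^ 3))) := by
        simp [pow_succ, mul_assoc]
    _ = _ := by rw [k, inv_mul_cancel_left, ← k2, ← mul_assoc T]

theorem step (ht : t ∈ P) (hb : b ∈ B) (e : ⁅b, t⁆ = 1) : ⁅r * b * r⁻¹, t⁆ = 1 := by
  have c : ∀ x ∈ P, r⁻¹ * x * r ∈ P := fun x hx => conj_mem' (h.nP trivial) hx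
  have d : ∀ x ∈ B, r * x * r⁻¹ ∈ B := fun x hx => conj_mem (h.nB trivial) hx
  have dW : ∀ x ∈ W, r * x * r⁻¹ ∈ W := fun x hx => conj_mem (h.nW trivial) hx
  have e1 := (h.memC (mul_mem (mul_mem ht (c t ht)) (c _ (c t ht)))).1 (h.nu ht) b hb
  rw [h.cr hb (mul_mem ht (c t ht)) (c _ (c t ht)), h.cr hb ht (c t ht), e, one_mul] at e1
  have e2 : ⁅b, r⁻¹ * t * r⁆ = r⁻¹ * ⁅r * b * r⁻¹, t⁆ * r := by simp only [commutatorElement_def]; group
  have e3 : ⁅b, r⁻¹ * (r⁻¹ * t * r) * r⁆ = r⁻¹ * (r⁻¹ * ⁅r * (r * b * r⁻¹) * r⁻¹, t⁆ * r) * r := by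
    simp [commutatorElement_def, mul_assoc]
  have b3 : r * (r * (r * b * r⁻¹) * r⁻¹) * r⁻¹ = b := by
    have := FT.mem_cen.1 h.triB.cube b hb
    calc _ = r ^ 3 * b * (r ^ 3)⁻¹ := by simp [pow_succ, mul_assoc]
      _ = b := by rw [← this, mul_inv_cancel_right]
  have m : b * (r * b * r⁻¹) * (r * (r * b * r⁻¹) * r⁻¹) ∈ B := mul_mem (mul_mem hb (d b hb)) (d _ (d b hb))
  have f : r * (b * (r * b * r⁻¹) * (r * (r * b * r⁻¹) * r⁻¹)) * r⁻¹ =
      b * (r * b * r⁻¹) * (r * (r * b * r⁻¹) * r⁻¹) := by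
    rw [← conj_mul (b := r), ← conj_mul (b := r), b3, ← h.ab.comm hb (mul_mem (d b hb) (d _ (d b hb))), mul_assoc b]
  have e4 := h.iB m (h.fpf (h.sw m) (by rw [← conj_mul (b := r), f]))
  have e5 := commutatorElement_eq_one_iff_mul_comm.2 (h.comm e4 ht).symm
  rw [h.cl (mul_mem hb (d b hb)) (d _ (d b hb)) ht, h.cl hb (d b hb) ht, e, one_mul] at e5
  have u := h.cw (d b hb) ht
  have e6 := (eq_inv_of_mul_eq_one_right e5).trans (inv_eq_of_mul_eq_one_right (h.sq u))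
  rw [e2, e3, e6] at e1
  generalize ⁅r * b * r⁻¹, t⁆ = w at *
  refine h.fpf u ((eq_inv_of_mul_eq_one_left ?_).trans (inv_eq_of_mul_eq_one_right (h.sq u)))
  calc _ = r * (r * (r⁻¹ * w * r * (r⁻¹ * (r⁻¹ * w * r) * r)) * r⁻¹) * r⁻¹ := by group
    _ = 1 := by rw [e1]; group

theorem cenB (ht : t ∈ P) (hn : t ∉ P ⊓ C(B)) : B ⊓ C[t] ≤ W := by
  by_contra hc
  have nS : r ∈ N(B ⊓ C[t]) := mem_nrm.2 fun b hb => ⟨conj_mem (h.nB trivial) hb.1, mem_cen1.2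
    (commutatorElement_eq_one_iff_mul_comm.1 (h.step ht hb.1
      (commutatorElement_eq_one_iff_mul_comm.2 (mem_cen1.1 hb.2))))⟩
  exact hn ⟨ht, le_cen1.1 fun b hb => (h.inS inf_le_left nS hc (le_inf h.WB (h.cen.trans (cen_le_cen1 ht)))
    le_rfl (fun _ => h.iB) hb (h.ab.le_cen hb) (h.sw hb)).2⟩

theorem sq_out (ht : t ∈ P) (hn : t ∉ P ⊓ C(B)) : t * t ∈ W := by
  have key : ∀ n : ℕ, ∀ c ∈ P ⊓ C(B), c ∈ C[t] → c ^ 2 ^ n = 1 → c ∈ W := by
    intro n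
    induction n with
    | zero => intro c _ _ e; simp [show c = 1 by simpa using e]
    | succ n ih =>
      intro c hc e1 e2
      exact h.cenB ht hn ⟨h.inS le_rfl (h.nB trivial) h.nle h.WB (le_inf h.BP h.ab.le_cen) h.invC hc hc.2
        (ih _ (mul_mem hc hc) (mul_mem e1 e1) (by rw [← pow_two, ← pow_mul, ← pow_succ', e2])), e1⟩
  obtain ⟨n, e⟩ := (h.pP.isPGroup (p := 2)) ⟨_, mul_mem ht ht⟩
  exact key n _ (h.sqC ht) (mul_mem (self_mem_cen1 t) (self_mem_cen1 t)) (congrArg Subtype.val e)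

theorem goal : ∀ y ∈ P, y * y = 1 → y ∈ W := by
  by_cases e : P ≤ P ⊓ C(B)
  · exact fun y hy => h.invC y (e hy)
  have nC := norms_subcent h.nP h.nB
  obtain ⟨t, ht, hn⟩ := SetLike.not_le_iff_exists.1 e
  obtain ⟨s, hs, s1, s2⟩ : ∃ s ∈ P, s ∉ P ⊓ C(B) ∧ t * s ∉ P ⊓ C(B) := by
    by_contra! hc
    refine e (h.le_of_two (le_of_eq ?_) (le_top.trans nC))
    refine index_eq_two_iff'.2 ⟨⟨t, ht⟩, fun x => ?_⟩
    by_cases hx : (x : G) ∈ P ⊓ C(B)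
    · exact .inr ⟨hx, fun h1 => hn (by simpa using mul_mem (show t * x ∈ P ⊓ C(B) from h1) (inv_mem hx))⟩
    · exact .inl ⟨hc x x.2 hx, hx⟩
  have q : ∀ x ∈ P, x * x ∈ W := fun x hx => by
    by_cases hc : x ∈ P ⊓ C(B)
    swap
    · exact h.sq_out hx hc
    have n : ∀ g : G, g ∈ N(W) := fun g => h.nW trivial
    have k : ∀ u ∈ P, u ∉ P ⊓ C(B) → coset(W, u) * coset(W, x) * (coset(W, u))⁻¹ = (coset(W, x))⁻¹ := by
      intro u hu h1
      have a1 := coset_of_mem (h.sq_out hu h1)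
      have a2 := coset_of_mem (h.sq_out (mul_mem hu hx) fun h2 => h1 (by simpa using mul_mem h2 (inv_mem hc)))
      simp only [coset_mul (n _) (n _)] at a1 a2
      rw [inv_eq_of_mul_eq_one_right a1, eq_inv_iff_mul_eq_one, mul_assoc, a2]
    have k1 := k t ht hn
    have k2 := k s hs s1
    have k3 := k _ (mul_mem ht hs) s2
    rw [← coset_eq_one_iff (n _), coset_mul (n _) (n _)]
    rw [coset_mul (n _) (n _)] at k3
    generalize coset(W, x) = X at *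
    generalize coset(W, t) = T at *
    generalize coset(W, s) = S at *
    have : X = X⁻¹ := by
      calc X = (T * X * T⁻¹)⁻¹ := by rw [k1, inv_inv]
        _ = T * X⁻¹ * T⁻¹ := by group
        _ = T * S * X * (T * S)⁻¹ := by rw [← k2]; group
        _ = _ := k3
    nth_rewrite 2 [this]; exact mul_inv_cancel X
  exact fun y hy e => h.inv hy e fun g hg => H3.comm_mem_of_sq q hy hg

end Se

theorem Sd.goal (h : Sd P A W r) : ∀ y ∈ P, y * y = 1 → y ∈ W := by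
  obtain ⟨T, nT, hT⟩ := exists_D h.nP h.nW h.nP le_rfl
  have k : P ≤ T → ∀ y ∈ P, y * y = 1 → y ∈ W := fun e y hy e2 => h.inv hy e2 ((hT y).1 (e hy)).2.2
  by_cases ha : Ab T
  · by_cases hl : T ≤ W
    · refine fun y hy _ => by_contra fun hn => ?_
      obtain ⟨x, hx, x1, x2⟩ := exists_mod h.pP le_rfl (le_nrm P) fun e : P ≤ W => hn (e hy)
      exact x1 (hl ((hT x).2 ⟨hx, x2⟩))
    · exact Se.goal ⟨h, nT, hT, ha, hl⟩
  · exact k (h.goal_nab nT hT ha)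

theorem Sd.res (h : Sd P A W r) (hn : ¬ Ab P) : Special P ∧ #P = 64 ∧ Z(P) = W := by
  have t := h.tri h.le le_rfl (h.nP trivial) h.goal
  have z := h.center h.le le_rfl (h.nP trivial) h.goal hn
  have q : ∀ x ∈ P, x * x ∈ W := fun x hx => h.ohm h.le h.goal ▸ t.sq_mem hn hx
  have d : ⁅P, P⁆ = W := le_antisymm (H3.der_le_of_sq q) (h.W_le (H3.der_le_of_sq q)
    (norms_der h.nP trivial) (mt ab_iff_der.2 hn))
  refine ⟨⟨le_antisymm ((h.pP.Phi_le_iff Nat.prime_two).2 ⟨(d.trans z.symm).le, fun x hx => ?_⟩)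
    (z.trans d.symm ▸ h.pP.der_le_Phi), d.trans z.symm⟩, t.card_eq hn, z⟩
  rw [z, pow_two]; exact q x hx

theorem Sc.main (h : Sc P A) (hn : ¬ Ab P) : Nonempty (P ≃* QuaternionGroup 2) ∨
    (Special P ∧ #P = 64 ∧ Abelem 2 Z(P) ∧ #Z(P) = 4 ∧ ∀ s ∈ P, s * s = 1 → s ∈ Z(P)) ∨
    (∃ z, H3.XS 2 P z) ∧ #P = 32 ∧ H3.nsq P = 12 := by
  by_cases h1 : ∀ B ≤ P, ⊤ ≤ N(B) → Ab B → A ≤ C(B)
  · obtain ⟨s, a⟩ := h.special h1
    have c := h.ne _ inf_le_left (le_top.trans (norms_center h.nP)) a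
    obtain ⟨k, hk⟩ := a.card Nat.prime_two
    have k2 : k ≤ 2 := (Nat.pow_le_pow_iff_right one_lt_two).1 (hk ▸ c)
    obtain rfl | rfl | rfl : k = 0 ∨ k = 1 ∨ k = 2 := by omega
    · exact absurd (ab_iff_der.2 (s.der.trans (card_eq_one.1 hk))) hn
    · obtain ⟨z, hz, -⟩ := H3.exists_xs h.pP ⟨s, hk ▸ Nat.prime_two⟩
      exact (h.xs h1 hz hn).imp id fun e => .inr ⟨⟨z, hz⟩, e⟩
    · have := h.four (h1 _ inf_le_left (norms_center h.nP) (ab_center P)) s a hk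
      exact .inr (.inl ⟨s, this.2, a, hk, this.1⟩)
  · push Not at h1
    obtain ⟨B, hB, nB, aB, hc⟩ := h1
    have l := (Ohm_le 2 B).trans hB
    have nW := norms_Ohm 2 nB
    have a := aB.abelem_Ohm 2
    have hc' : ¬ A ≤ C(Ω[2](B)) := mt (coprime_abelian_faithful_Ohm1 (le_top.trans nB) (h.cop hB) aB (h.pP.mono hB)) hc
    obtain ⟨z, hz, z1⟩ := SetLike.not_le_iff_exists.1 (mt centsC hc')
    have c := h.ne _ l (le_top.trans nW) a
    have c4 : #Ω[2](B) = 4 := by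
      obtain ⟨k, hk⟩ := a.card Nat.prime_two
      have k2 : k ≤ 2 := (Nat.pow_le_pow_iff_right one_lt_two).1 (hk ▸ c)
      by_contra e
      refine hc' (stable_factor_cent (N := ⊥) (le_top.trans nW) (h.cop l) (comm_le_two ?_ (norms_bot _)
        (le_top.trans nW)) (centsC bot_le))
      rw [relIndex_bot_left, hk]
      rw [hk] at e
      interval_cases k <;> simp_all
    obtain ⟨T, hT⟩ := exists_syl 2 A
    have T1 : T = ⊥ := inf_eq_left.2 hT.le ▸ Cop.inf (cop_of_odd hT.pi h.oA)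
    obtain ⟨r, r1, r2, r3⟩ := H18.exists_three hT (T1 ▸ bot_le) (le_top.trans nW) c4 hz (mt le_cen1.1 z1)
    have d : Sd P A _ r := ⟨h, l, nW, a, c4, r1, r2, r3⟩
    obtain ⟨s, c, e⟩ := d.res hn
    exact .inr (.inl ⟨s, c, e ▸ a, e ▸ c4, e ▸ d.goal⟩)

theorem isSpecial_of_equiv {X Y : Type*} [Group X] [Group Y] {p : ℕ} (h : IsSpecial p X) (e : X ≃* Y) :
    IsSpecial p Y := by
  have c : ∀ x, e x ∈ center Y ↔ x ∈ center X := fun x => MulEquivClass.apply_mem_center_iff e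
  refine ⟨h.1.of_equiv e, SetLike.ext fun y => ?_, SetLike.ext fun y => ?_⟩
  · obtain ⟨x, rfl⟩ := e.surjective y
    rw [c, ← h.2.1]
    exact ⟨fun k => by simpa using (frattini_le_comap_frattini_of_surjective (φ := e.symm.toMonoidHom)
      e.symm.surjective k), fun k => frattini_le_comap_frattini_of_surjective (φ := e.toMonoidHom) e.surjective k⟩
  · obtain ⟨x, rfl⟩ := e.surjective y
    have := map_commutator_eq X e.toMonoidHom
    rw [MonoidHom.range_eq_top.2 e.surjective] at this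
    rw [c, ← h.2.2, _root_.commutator_def, ← this]
    exact mem_map_iff_mem (f := e.toMonoidHom) e.injective

theorem card_invol (P : Subgroup G) : Nat.card {x : P // orderOf x = 2} + 1 = H3.nsq P := by
  have e : {w | w ∈ P ∧ w ^ 2 = 1} = insert 1 ((↑) '' {x : P | orderOf x = 2}) := by
    ext w
    constructor
    · rintro ⟨h1, h2⟩
      by_cases h3 : w = 1
      · exact .inl h3
      · exact .inr ⟨⟨w, h1⟩, by rw [Set.mem_ofPred_eq, ← orderOf_coe]; exact orderOf_eq_prime h2 h3, rfl⟩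
    · rintro (rfl | ⟨x, hx, rfl⟩)
      · exact ⟨one_mem _, one_pow 2⟩
      · exact ⟨x.2, by rw [← show orderOf (x : G) = 2 from (orderOf_coe x).trans hx, pow_orderOf_eq_one]⟩
  rw [H3.nsq, e, Set.ncard_insert_of_notMem, Set.ncard_image_of_injective _ Subtype.val_injective]
  · rfl
  · rintro ⟨x, hx, e⟩
    rw [Set.mem_ofPred_eq, ← orderOf_coe, e, orderOf_one] at hx; omega

theorem s1904 {X : Type*} [Group X] [Finite X] (hX : IsPGroup 2 X) (hna : ¬ IsMulCommutative X)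
    (hscn : ¬ ∃ A : Subgroup X, A.Normal ∧ centralizer (A : Set X) = A ∧
      ∃ E : Subgroup X, E ≤ A ∧ IsElementaryAbelian 2 E ∧ Nat.card E = 8)
    (A : Subgroup (MulAut X)) (hA : Odd (Nat.card A))
    (hXA : closure {g : X | ∃ φ ∈ A, ∃ x : X, g = x⁻¹ * φ x} = ⊤) :
    Nonempty (X ≃* QuaternionGroup 2) ∨
      (IsSpecial 2 X ∧ Nat.card X = 64 ∧ Nat.card {x : X // orderOf x = 2} = 3 ∧
        ∀ x : X, orderOf x = 2 → x ∈ center X) ∨
      (IsExtraspecial 2 X ∧ Nat.card X = 32 ∧ Nat.card {x : X // orderOf x = 2} = 11) := by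
  haveI : Fact (Nat.Prime 2) := ⟨Nat.prime_two⟩
  have inj := SemidirectProduct.inl_injective (φ := A.subtype)
  have e := (equivMapOfInjective (⊤ : Subgroup X) _ inj).symm.trans topEquiv
  have h : Sc (H3.holL A ⊤) (H3.holR ⊤) := by
    refine ⟨pGrp_of_isPGroup Nat.prime_two (H3.isPGroup_holL hX ⊤), H3.normalizer_holL_top.ge,
      by rwa [H3.card_holR, card_top], ?_, fun E hE nE aE => ?_⟩
    · rw [H3.commutator_holL_holR, ← hXA]
      congr 2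
      ext y
      exact ⟨fun ⟨x, _, γ, _, e⟩ => ⟨γ.1, γ.2, x, e⟩, fun ⟨φ, hφ, x, e⟩ => ⟨x, by rw [hXA]; trivial, ⟨φ, hφ⟩, trivial, e⟩⟩
    · obtain ⟨U, rfl⟩ := H3.exists_holL_eq hE
      rw [map_norms_inj inj] at nE
      have aU : Abelem 2 U := ⟨(H3.isMulCommutative_map_iff inj).1 aE.1, fun x hx => inj (by
        rw [map_pow, map_one]; exact aE.2 _ (mem_map_of_mem _ hx))⟩
      rw [H3.card_holL]
      by_contra hc
      obtain ⟨B, hB, l⟩ := exists_SCN_ge (H3.pGrp_top hX) ⟨le_top, nE⟩ aU.1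
      obtain ⟨k, hk⟩ := aU.card Nat.prime_two
      obtain ⟨V, hV, cV⟩ := exists_card_pow_le Nat.prime_two (n := 3) (H := U) (hk ▸ pow_dvd_pow 2 (by
        by_contra k2
        exact hc (hk ▸ Nat.pow_le_pow_right two_pos (Nat.le_of_lt_succ (not_le.1 k2)))))
      exact hscn ⟨B, normalizer_eq_top_iff.1 (top_le_iff.1 hB.nml.nrm), by simpa using hB.cen, V, hV.trans l,
        aU.mono hV, cV⟩
  have ci : Nat.card {x : X // orderOf x = 2} = Nat.card {x : H3.holL A ⊤ // orderOf x = 2} :=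
    Nat.card_congr (e.symm.toEquiv.subtypeEquiv fun x => by simp)
  have cX := Nat.card_congr e.toEquiv
  rcases h.main fun k => hna (by haveI := k; exact ⟨⟨fun x y => e.symm.injective (by
    rw [map_mul, map_mul, mul_comm'])⟩⟩) with ⟨⟨f⟩⟩ | ⟨s, c, a, c4, i⟩ | ⟨⟨z, hz⟩, c, n⟩
  · exact .inl ⟨e.symm.trans f⟩
  · refine .inr (.inl ⟨isSpecial_of_equiv (H3.isSpecial_iff.2 ⟨h.pP, s⟩) e, cX ▸ c, ?_, fun x hx => ?_⟩)
    · have := card_invol (H3.holL A ⊤)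
      have e2 : H3.nsq (H3.holL A ⊤) = H3.nsq Z(H3.holL A ⊤) := congrArg Set.ncard (Set.ext fun w =>
        ⟨fun k => ⟨i w k.1 (pow_two w ▸ k.2), k.2⟩, fun k => ⟨k.1.1, k.2⟩⟩)
      rw [e2, H3.nsq_of_sq a.2, c4] at this
      omega
    · refine mem_center_iff.2 fun g => inj ?_
      rw [map_mul, map_mul]
      exact FT.mem_cen.1 (i _ (H3.inl_mem_holL.2 trivial) (by
        rw [← map_mul, ← pow_two, ← hx, pow_orderOf_eq_one, map_one])).2 _ (H3.inl_mem_holL.2 trivial)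
  · refine .inr (.inr ⟨H3.isExtraspecial_of_equiv (hz.isExtraspecial (hz.not_ab_of_card (n := 2) one_le_two c)) e,
      cX ▸ c, ?_⟩)
    have := card_invol (H3.holL A ⊤)
    omega

end Cfsg.Agent.GO
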