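import Cfsg.Agent.GO.Sm4
import Cfsg.Agent.GO.Sr
import Cfsg.Agent.S0495
import Cfsg.Agent.S2475
import Cfsg.Agent.S0799
import Cfsg.Agent.S5892

/-! Simple groups of order 168. -/

set_option autoImplicit false
set_option linter.unusedSectionVars false
set_option linter.unusedVariables false

namespace Cfsg.Agent.GO

open Cfsg Subgroup Cfsg.Agent.FT Cfsg.Agent.GW
open scoped commutatorElement

universe u

variable {G : Type u} [Group G] [Finite G] {D : Set G} {p : ℕ}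
  {A B E H J K L M P Q R S T U V W X Y Z : Subgroup G} {a b d e g r s t v w x y z : G}

open scoped MatrixGroups

theorem card_isConj (x : G) : Nat.card {g : G // IsConj x g} * #C[x] = Nat.card G := by
  rw [Nat.card_congr (Equiv.subtypeEquivRight (q := fun y => y ∈ {y | ∃ k ∈ (⊤ : Subgroup G), y = k * x * k⁻¹}) fun y => by
    simp [isConj_iff, eq_comm]), mul_comm]
  exact (congrArg _ (H1.card_cls ⊤ x)).trans ((FT.card_mul_relIndex le_top).trans card_top')

instance f7 : Fact (Nat.Prime 7) := ⟨by norm_num⟩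

namespace O168
variable [IsSimpleGroup G] (h : Nat.card G = 168)
include h

theorem iso : Nonempty (G ≃* PSL(2, ZMod 7)) := S0495.result h (ZMod.card 7)

theorem ord_iff {m : ℕ} : (∃ g : G, orderOf g = m) ↔ m ∣ 7 ∨ m ∣ 3 ∨ m ∣ 4 := by
  obtain ⟨e⟩ := iso h
  have := Set.ext_iff.1 (S2475.result (F := ZMod 7) 7 (by rw [ZMod.card]; norm_num)) m
  rw [ZMod.card] at this
  refine Iff.trans ⟨fun ⟨g, hg⟩ => ⟨e g, by rw [e.orderOf_eq, hg]⟩, fun ⟨g, hg⟩ => ⟨e.symm g, by rw [e.symm.orderOf_eq, hg]⟩⟩ this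

theorem ord (g : G) : orderOf g = 1 ∨ orderOf g = 2 ∨ orderOf g = 3 ∨ orderOf g = 4 ∨ orderOf g = 7 := by
  rcases (ord_iff h).1 ⟨g, rfl⟩ with e | e | e <;> have := Nat.le_of_dvd (by norm_num) e <;>
    generalize orderOf g = n at * <;> interval_cases n <;> simp_all

theorem cen_p (hp : p.Prime) (hx : orderOf x = p) : PGrp p C[x] := fun q hq hd => by_contra fun hne => by
  obtain ⟨y, hy, e⟩ := exists_elt_of_prime_dvd hq hd
  have := ord h (y * x)
  rw [Commute.orderOf_mul_eq_mul_orderOf_of_coprime (mem_cen1.1 hy) (by rw [e, hx]; exact (Nat.coprime_primes hq hp).2 hne), e, hx] at this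
  have a := hp.two_le
  have b := hq.two_le
  have c : q ≠ p := hne
  rcases this with e | e | e | e | e <;> have := Nat.le_of_dvd (by norm_num) (Dvd.intro _ e) <;>
    have := Nat.le_of_dvd (by norm_num) (Dvd.intro_left _ e) <;> interval_cases p <;> interval_cases q <;> simp_all

theorem syl_p (hp : p = 3 ∨ p = 7) (hx : orderOf x = p) : Syl p ⟪x⟫ ⊤ := by
  have pp : p.Prime := by rcases hp with rfl | rfl <;> norm_num
  refine syl_of_not_dvd le_top (pGrp_of_card (n := 1) pp (by rw [card_zpowers', hx, pow_one])) fun e => ?_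
  have := FT.card_mul_relIndex (le_top (a := ⟪x⟫))
  rw [card_zpowers', hx, card_top', h] at this
  rcases hp with rfl | rfl <;> omega

theorem cen_eq (hp : p = 3 ∨ p = 7) (hx : orderOf x = p) : C[x] = ⟪x⟫ :=
  (syl_p h hp hx).max (cen_p h (by rcases hp with rfl | rfl <;> norm_num) hx) (zpowers_le_cen1 x) le_top

theorem nrm_p (hp : p = 3 ∨ p = 7) (hx : orderOf x = p) :
    Nat.card (Sylow p G) * #N(⟪x⟫) = 168 ∧ #N(⟪x⟫) = if p = 3 then 6 else 21 := by
  have pp : p.Prime := by rcases hp with rfl | rfl <;> norm_num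
  haveI := Fact.mk pp
  obtain ⟨P, e⟩ := (syl_top_iff pp).1 (syl_p h hp hx)
  have a1 : Nat.card (Sylow p G) * #N(⟪x⟫) = 168 := by
    rw [P.card_eq_index_normalizer, ← h, ← e]; exact index_mul_card _
  have a2 := card_sylow_modEq_one p G
  have a3 := relIndex_cen_dvd_pred pp ((card_zpowers' x).trans hx) le_rfl
  have a4 := FT.card_mul_relIndex (le_nrm ⟪x⟫)
  rw [cen_zpowers, cen_eq h hp hx] at a3
  rw [card_zpowers', hx] at a4
  refine ⟨a1, ?_⟩
  rw [← a4] at a1 ⊢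
  rw [Nat.ModEq] at a2
  generalize (⟪x⟫).relIndex N(⟪x⟫) = n at *
  rcases hp with rfl | rfl <;> have := Nat.le_of_dvd (by norm_num) a3 <;> interval_cases n <;> first | rfl | omega

theorem card2 (hT : Syl 2 T ⊤) : #T = 8 := by
  obtain ⟨P, rfl⟩ := (syl_top_iff Nat.prime_two).1 hT
  rw [P.card_eq_multiplicity, h]; decide +kernel

theorem mcd (hT : Syl 2 T ⊤) : ∃ a b, H3.MCD T a b 2 := by
  obtain ⟨e⟩ := iso h
  have c := card2 h hT
  have e' := e.subgroupMap T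
  have c' : Nat.card (T.map (e : G →* PSL(2, ZMod 7))) = 8 := (Nat.card_congr e'.toEquiv).symm.trans c
  rcases S0799.result (ZMod.card 7) 7 (T.map (e : G →* PSL(2, ZMod 7))) with ⟨k, h1, ⟨-, h2⟩ | ⟨⟨f⟩⟩⟩ | ⟨P, K, h1, ⟨f⟩⟩ |
    ⟨⟨f⟩⟩ | ⟨⟨f⟩⟩ | ⟨⟨f⟩⟩ | ⟨K, _, _, m, h1, h2⟩
  · rw [← h2, c'] at h1; norm_num at h1
  · have := Nat.card_congr f.toEquiv
    rw [c', DihedralGroup.nat_card] at this
    obtain rfl : k = 4 := by omega
    exact H3.exists_mcd_of_d8 (e'.trans f)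
  · have h2 := card_dvd h1
    rw [← Nat.card_congr f.toEquiv, c'] at h2
    have h3 := P.card_eq_index_normalizer
    haveI := e.symm.isSimpleGroup
    have h' := (Nat.card_congr e.toEquiv).symm.trans h
    obtain ⟨x, hx⟩ := (ord_iff h' (m := 7)).2 (by norm_num)
    have h4 := nrm_p h' (Or.inr rfl) hx
    have h5 := index_mul_card N((P : Subgroup PSL(2, ZMod 7)))
    rw [h'] at h5
    change _ = (N((P : Subgroup PSL(2, ZMod 7)))).index at h3
    rw [← h3] at h5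
    obtain ⟨h4, h6⟩ := h4
    rw [h6, if_neg (by norm_num)] at h4
    have h7 : Nat.card (Sylow 7 PSL(2, ZMod 7)) = 8 := by omega
    rw [h7] at h5
    omega
  · have := Nat.card_congr f.toEquiv
    rw [c', H10.card_A4] at this; omega
  · have := Nat.card_congr f.toEquiv
    rw [c', H10.card_S4] at this; omega
  · have := Nat.card_congr f.toEquiv
    rw [c', H10.card_A5] at this; omega
  · have h3 : Fintype.card K = 7 := ((Nat.Prime.pow_eq_iff f7.out).1 h1).1
    rcases h2 with ⟨⟨f⟩⟩ | ⟨⟨f⟩⟩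
    · have := H10.card_PSL2 (F := K)
      rw [← Nat.card_congr f.toEquiv, c', Nat.card_eq_fintype_card, h3] at this; norm_num at this
    · have := H10.card_PGL2 (F := K)
      rw [← Nat.card_congr f.toEquiv, c', Nat.card_eq_fintype_card, h3] at this; norm_num at this

theorem cen_z (hT : Syl 2 T ⊤) (m : H3.MCD T a b 2) : C[a ^ 2] = T :=
  hT.max (cen_p h Nat.prime_two m.ord_z) (le_cen1.2 m.z_cen) le_top

theorem nrm_T (hT : Syl 2 T ⊤) : N(T) = T := by
  obtain ⟨a, b, m⟩ := mcd h hT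
  refine le_antisymm ((cen_of_two m.card_center.dvd (norms_center le_rfl)).trans ?_) (le_nrm T)
  rw [m.center, cen_zpowers]; exact (cen_z h hT m).le

theorem conj2 (hx : orderOf x = 2) (hy : orderOf y = 2) : ∃ g, g * x * g⁻¹ = y := by
  obtain ⟨T, hT⟩ := exists_syl 2 (⊤ : Subgroup G)
  obtain ⟨a, b, m⟩ := mcd h hT
  obtain ⟨g, -, e⟩ := (dh_of_mcd m).oneCl hT (no2_of_simple (by omega)) x (mem_top x) y (mem_top y) hx hy
  exact ⟨g, e⟩

theorem syl_cen (hx : orderOf x = 2) : Syl 2 C[x] ⊤ := by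
  obtain ⟨T, hT⟩ := exists_syl 2 (⊤ : Subgroup G)
  obtain ⟨a, b, m⟩ := mcd h hT
  obtain ⟨g, rfl⟩ := conj2 h m.ord_z hx
  rw [← cj_cen1]; exact ((cen_z h hT m).symm ▸ hT).cj_mem (mem_top g)

theorem conj3 (hx : orderOf x = 3) (hy : orderOf y = 3) : IsConj x y := by
  classical
  obtain ⟨g, -, e⟩ := (syl_p h (Or.inl rfl) hx).syl_trans (syl_p h (Or.inl rfl) hy)
  have key : ∀ z ∈ ⟪x⟫, orderOf z = 3 → z = x ∨ z = x⁻¹ := fun z hz o => by
    obtain ⟨i, hi, rfl⟩ := (mem_zpowers_iff_mem_range_orderOf.1 hz |> Finset.mem_image.1)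
    rw [hx, Finset.mem_range] at hi
    interval_cases i
    · simp at o
    · exact Or.inl (pow_one x)
    · exact Or.inr (eq_inv_of_mul_eq_one_left (by rw [← pow_succ]; exact (show orderOf x = 2 + 1 from hx) ▸ pow_orderOf_eq_one x))
  have k2 : IsConj x x⁻¹ := by
    obtain ⟨n, hn, hn'⟩ := SetLike.exists_of_lt (lt_of_card_lt (le_nrm ⟪x⟫) (by
      rw [(nrm_p h (Or.inl rfl) hx).2, card_zpowers', hx]; norm_num))
    rcases key _ (conj_mem hn (mem_zpowers x)) ((orderOf_conj n x).trans hx) with e | e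
    · exact absurd (cen_eq h (Or.inl rfl) hx ▸ mem_cen1.2 (mul_inv_eq_iff_eq_mul.1 e)) hn'
    · exact isConj_iff.2 ⟨n, e⟩
  have : IsConj (g⁻¹ * y * g) y := isConj_iff.2 ⟨g, by group⟩
  rcases key _ (mem_cj.1 (e ▸ mem_zpowers y)) (by have := orderOf_conj g⁻¹ y; rwa [inv_inv, hy] at this) with e | e <;> rw [e] at this
  exacts [this, k2.trans this]

theorem four (hT : Syl 2 T ⊤) (m : H3.MCD T a b 2) (hx : orderOf x = 4) : IsConj a x := by
  classical
  obtain ⟨g, -, e⟩ := hT.syl_subJ (pGrp_of_card (n := 2) Nat.prime_two ((card_zpowers' x).trans hx)) le_top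
  have h1 := mem_cj.1 (e (mem_zpowers x))
  have h2 : orderOf (g⁻¹ * x * g) = 4 := by have := orderOf_conj g⁻¹ x; rwa [inv_inv, hx] at this
  have : IsConj (g⁻¹ * x * g) x := isConj_iff.2 ⟨g, by group⟩
  refine IsConj.trans ?_ this
  generalize g⁻¹ * x * g = y at h1 h2
  have h3 : y ^ 2 ≠ 1 := fun e => by have := orderOf_dvd_of_pow_eq_one e; rw [h2] at this; omega
  obtain ⟨i, hi, rfl⟩ := (mem_zpowers_iff_mem_range_orderOf.1 (by_contra fun e => h3 (m.out h1 e).sq) |> Finset.mem_image.1)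
  rw [m.ord, Finset.mem_range] at hi
  interval_cases i
  · simp at h3
  · rw [pow_one]
  · exact absurd m.z_sq h3
  · refine isConj_iff.2 ⟨b, m.inv.trans (inv_eq_of_mul_eq_one_left ?_)⟩
    rw [← pow_succ]; exact (show orderOf a = 3 + 1 from m.ord) ▸ pow_orderOf_eq_one a

omit h in
theorem count {n k : ℕ} (hx : orderOf x = n) (hc : ∀ y : G, orderOf y = n → IsConj x y) (e : Nat.card G = k * #C[x]) :
    Nat.card {g : G // orderOf g = n} = k := by
  rw [← card_isConj x] at e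
  rw [← Nat.eq_of_mul_eq_mul_right (FT.card_pos _) e]
  refine Nat.card_congr (Equiv.subtypeEquivRight fun y => ⟨hc y, fun e => ?_⟩)
  obtain ⟨g, rfl⟩ := isConj_iff.1 e
  rw [orderOf_conj, hx]

theorem n2 : Nat.card {g : G // orderOf g = 2} = 21 := by
  obtain ⟨x, hx⟩ := (ord_iff h (m := 2)).2 (by norm_num)
  exact count hx (fun y hy => isConj_iff.2 (conj2 h hx hy)) (by rw [card2 h (syl_cen h hx), h])

theorem n3 : Nat.card {g : G // orderOf g = 3} = 56 := by
  obtain ⟨x, hx⟩ := (ord_iff h (m := 3)).2 (by norm_num)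
  exact count hx (fun y => conj3 h hx) (by rw [cen_eq h (Or.inl rfl) hx, card_zpowers', hx, h])

theorem n4 : Nat.card {g : G // orderOf g = 4} = 42 := by
  obtain ⟨T, hT⟩ := exists_syl 2 (⊤ : Subgroup G)
  obtain ⟨a, b, m⟩ := mcd h hT
  refine count m.ord (fun y => four h hT m) ?_
  rw [← inf_eq_right.2 ((cen1_le_cen1_pow a 2).trans (cen_z h hT m).le), m.cen1_of_mem (mem_zpowers a) m.a_not_mem_sq, m.card_a, h]; rfl

theorem n7 : Nat.card {g : G // orderOf g = 7} = 48 := by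
  classical
  haveI := Fintype.ofFinite G
  have e := Finset.card_eq_sum_card_fiberwise (s := Finset.univ) (t := {1, 2, 3, 4, 7}) (f := (orderOf : G → ℕ))
    fun g _ => by simpa using ord h g
  have k : ∀ n, (Finset.univ.filter fun g : G => orderOf g = n).card = Nat.card {g : G // orderOf g = n} := fun n => by
    rw [Nat.card_eq_fintype_card, Fintype.card_subtype]
  have k1 : Nat.card {g : G // orderOf g = 1} = 1 := by simp
  simp only [k] at e
  rw [Finset.card_univ, ← Nat.card_eq_fintype_card, h, Finset.sum_insert (by decide), Finset.sum_insert (by decide),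
    Finset.sum_insert (by decide), Finset.sum_insert (by decide), Finset.sum_singleton, k1, n2 h, n3 h, n4 h] at e
  omega

theorem s1003 : Nat.card (Sylow 2 G) = 21 ∧ Nat.card (Sylow 3 G) = 28 ∧ Nat.card (Sylow 7 G) = 8 := by
  obtain ⟨x, hx⟩ := (ord_iff h (m := 3)).2 (by norm_num)
  obtain ⟨y, hy⟩ := (ord_iff h (m := 7)).2 (by norm_num)
  obtain ⟨a1, a2⟩ := nrm_p h (Or.inl rfl) hx
  obtain ⟨b1, b2⟩ := nrm_p h (Or.inr rfl) hy
  rw [a2] at a1
  rw [b2] at b1
  obtain ⟨T⟩ : Nonempty (Sylow 2 G) := inferInstance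
  have c1 := index_mul_card N((T : Subgroup G))
  have c2 : Nat.card (Sylow 2 G) = N((T : Subgroup G)).index := T.card_eq_index_normalizer
  rw [← c2, nrm_T h (syl_top Nat.prime_two T), card2 h (syl_top Nat.prime_two T), h] at c1
  simp at a1 b1
  omega

theorem s1004 (hT : Syl 2 T ⊤) : Nonempty (T ≃* DihedralGroup 4) ∧ N(T) = T ∧
    ∀ z : G, z ∈ T → z ≠ 1 → (∀ t ∈ T, t * z = z * t) → C[z] = T := by
  obtain ⟨a, b, m⟩ := mcd h hT
  refine ⟨m.iso, nrm_T h hT, fun z hz z1 hc => ?_⟩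
  rw [(m.mem_z_iff.1 (m.center ▸ (⟨hz, mem_cen.2 hc⟩ : z ∈ Z(T)))).resolve_left z1]
  exact cen_z h hT m

theorem c7 (hx : orderOf x = 7) : Nat.card {g : G // IsConj x g} = 24 ∧ ¬ IsConj x x⁻¹ := by
  have a := card_isConj x
  rw [cen_eq h (Or.inr rfl) hx, card_zpowers', hx, h] at a
  refine ⟨by omega, fun e => ?_⟩
  obtain ⟨g, e⟩ := isConj_iff.1 e
  have h1 : g ∈ N(⟪x⟫) := cj_eq_self.1 (by rw [cj_zpowers, e, zpowers_inv])
  have h2 : g ∈ C[x] := H5c.mem_of_sq ((odd_iff_p'.1 (by rw [(nrm_p h (Or.inr rfl) hx).2]; decide)).piElt h1) (sq g ▸ H5c.sq_cen e)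
  rw [mem_cen1.1 h2, mul_inv_cancel_right, eq_inv_iff_mul_eq_one, ← sq] at e
  have := orderOf_dvd_of_pow_eq_one e
  rw [hx] at this; omega

theorem kl (m : H3.MCD T a b 2) (hU : U ≤ T) (k : IsKleinFour U) : U = ⟪a ^ 2⟫ ⊔ ⟪b⟫ ∨ U = ⟪a ^ 2⟫ ⊔ ⟪a * b⟫ := by
  obtain ⟨c, hc, h1, -, e⟩ := m.toMC.four hU k
  have n := (nml_of_index_two hU (H3.relIndex_of_card_mul hU (by rw [m.card, k.card_four]; rfl))).nrm
  have z : a ^ 2 ∈ U := e ▸ mem_sup_left (mem_zpowers _)
  have c' : c ∈ U := e ▸ mem_sup_right (mem_zpowers _)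
  rcases m.conj_or hc h1 with ⟨g, hg, rfl⟩ | ⟨g, hg, rfl⟩
  · exact Or.inl (eq_of_card_eq (sup_le (zpowers_le.2 z) (zpowers_le.2 (by simpa [mul_assoc] using conj_mem' (n (m.le hg)) c')))
      (m.card_z_sup.trans k.card_four.symm)).symm
  · exact Or.inr (eq_of_card_eq (sup_le (zpowers_le.2 z) (zpowers_le.2 (by simpa [mul_assoc] using conj_mem' (n (m.le hg)) c')))
      ((m.out_mul (mem_zpowers a)).card_z_sup.trans k.card_four.symm)).symm

omit h in
theorem kl2 (m : H3.MCD T a b 2) : IsKleinFour (⟪a ^ 2⟫ ⊔ ⟪a * b⟫ : Subgroup G) :=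
  (m.out_mul (mem_zpowers a)).klein (m.out (m.mul_mem_S (mem_zpowers a)) (m.mul_not_mem (mem_zpowers a))).sq

omit h in
theorem kl_ne (m : H3.MCD T a b 2) : ⟪a ^ 2⟫ ⊔ ⟪b⟫ ≠ ⟪a ^ 2⟫ ⊔ ⟪a * b⟫ := fun e =>
  m.z_ne (H3.klein_sq (m.klein m.sq) (x := a) (by
    simpa using mul_mem (e.ge (mem_sup_right (mem_zpowers _))) (inv_mem (mem_sup_right (mem_zpowers b)))))

theorem not_cj (hT : Syl 2 T ⊤) (hU : U ≤ T) (hW : W ≤ T) (k : IsKleinFour U) (e : cj g U = W) : U = W := by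
  have n : ∀ {U : Subgroup G}, U ≤ T → #U = 4 → T ≤ N(U) := fun hU c =>
    (nml_of_index_two hU (H3.relIndex_of_card_mul hU (by rw [card2 h hT, c]))).nrm
  have n1 := n hU k.card_four
  have n2 := n hW (by rw [← e, card_cj, k.card_four])
  obtain ⟨x, hx, e2⟩ := (hT.subl n2 le_top).syl_trans ((hT.cj_mem (mem_top g)).subl (e ▸ cj_norms.2 n1) le_top)
  have := cj_of_mem_nrm (n1 ((nrm_T h hT).le (cj_eq_cj_iff.1 e2)))
  rw [← cj_cj, e, cj_of_mem_nrm (inv_mem hx)] at this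
  exact this.symm

theorem max (hM : IsCoatom M) : #M = 21 ∨ Nonempty (M ≃* Equiv.Perm (Fin 4)) := by
  obtain ⟨e⟩ := iso h
  have e' := e.subgroupMap M
  have := S5892.result 7 (by rw [ZMod.card]; decide) (by rw [ZMod.card]; decide) (M.map (e : G →* PSL(2, ZMod 7)))
    ((OrderIso.isCoatom_iff e.mapSubgroup M).2 hM)
  rw [ZMod.card, ← Nat.card_congr e'.toEquiv] at this
  rcases this with a | a | a | ⟨K, _, _, a, -⟩ | ⟨K, _, _, r, a, -, b, -⟩ | a | a | ⟨-, -, ⟨f⟩⟩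
  · exact Or.inl (by omega)
  · omega
  · omega
  · have := ((Nat.Prime.pow_eq_iff f7.out).1 a.symm).2; omega
  · exact absurd a (((Nat.Prime.pow_eq_iff f7.out).1 b.symm).2 ▸ Nat.not_prime_one)
  · omega
  · omega
  · exact Or.inr ⟨e'.trans f⟩

theorem nrm_kl (k : IsKleinFour U) : IsCoatom N(U) ∧ Nonempty (N(U) ≃* Equiv.Perm (Fin 4)) := by
  obtain ⟨T, hT, hU⟩ := (H3.klein_pGrp k).exists_syl le_top
  obtain ⟨a, b, m⟩ := mcd h hT
  have n : ∀ {T : Subgroup G}, Syl 2 T ⊤ → U ≤ T → T ≤ N(U) := fun hT hU =>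
    (nml_of_index_two hU (H3.relIndex_of_card_mul hU (by rw [card2 h hT, k.card_four]))).nrm
  obtain ⟨c, hc, h1, h2, e⟩ := m.toMC.four hU k
  have c' : c ∈ U := e ▸ mem_sup_right (mem_zpowers _)
  have o := (m.toMC.out hc h1).ord_b_two h2
  have h3 := n (syl_cen h o) ((H3.klein_ab k).le_cen1 c')
  have h4 : T < N(U) := lt_of_le_of_ne (n hT hU) fun e => h1 (H3.zpowers_pow_le _ _ (m.center.le ⟨hc, le_cen1.1
    ((syl_cen h o).max hT.pi (h3.trans e.ge) le_top).le⟩))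
  obtain ⟨M, hM, h5⟩ := exists_coatom (H := N(U)) fun e => by
    rcases (nml_top_iff.1 ⟨le_top, e.ge⟩).eq_bot_or_eq_top with e | e <;> have := k.card_four <;> rw [e] at this
    · simp at this
    · rw [card_top'] at this; omega
  have a1 := card_dvd h4.le
  have a2 := card_lt h4
  have a3 := card_dvd h5
  rw [card2 h hT] at a1 a2
  rcases max h hM with e | ⟨⟨f⟩⟩
  · rw [e] at a3; exact absurd (a1.trans a3) (by norm_num)
  · have := Nat.card_congr f.toEquiv
    rw [H10.card_S4] at this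
    rw [this] at a3
    have a4 := Nat.le_of_dvd (by norm_num) a3
    rw [eq_of_card_eq h5 (by rw [this]; generalize #N(U) = n at *; interval_cases n <;> omega)]
    exact ⟨hM, ⟨f⟩⟩

theorem s1007 (hT : Syl 2 T ⊤) : Nat.card {U : Subgroup G // U ≤ T ∧ IsKleinFour U} = 2 := by
  obtain ⟨a, b, m⟩ := mcd h hT
  refine Nat.card_eq_two_iff.2 ⟨⟨_, m.sub_le 2, m.klein m.sq⟩, ⟨_, (m.out_mul (mem_zpowers a)).sub_le 2, kl2 m⟩,
    fun e => kl_ne m (congrArg Subtype.val e), Set.eq_univ_of_forall fun ⟨U, h1, h2⟩ => ?_⟩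
  rcases kl h m h1 h2 with rfl | rfl
  exacts [Or.inl rfl, Or.inr rfl]

theorem m21 (hM : #M = 21) : ∃ x, orderOf x = 7 ∧ x ∈ M ∧ M = N(⟪x⟫) := by
  obtain ⟨x, hx, o⟩ := exists_elt_of_prime_dvd f7.out (by rw [hM]; norm_num)
  refine ⟨x, o, hx, eq_of_card_eq ?_ (by rw [hM, (nrm_p h (Or.inr rfl) o).2]; rfl)⟩
  refine ((nml_iff_normal (zpowers_le.2 hx)).2 (normal_of_index_eq_minFac_card ?_)).nrm
  rw [hM]
  exact (H3.relIndex_of_card_mul (n := 3) (zpowers_le.2 hx) (by rw [hM, card_zpowers', o])).trans (by decide +kernel)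

theorem kl_eq (k3 : IsKleinFour U) (k2 : IsKleinFour W) (e : N(W) = N(U)) : U = W := by
    by_contra hne
    have p := (H3.klein_pGrp k3).sup (H3.klein_pGrp k2) (e ▸ le_nrm W)
    obtain ⟨S, hS, h1⟩ := p.exists_syl le_top
    have h2 : U < U ⊔ W := lt_of_le_of_ne le_sup_left fun e => hne (eq_of_card_eq (le_sup_right.trans e.ge)
      (k2.card_four.trans k3.card_four.symm)).symm
    have a1 := card_dvd h1
    have a2 := card_lt h2
    rw [card2 h hS] at a1
    rw [k3.card_four] at a2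
    have a3 := Nat.le_of_dvd (by norm_num) a1
    have h3 := eq_of_card_eq h1 (by rw [card2 h hS]; generalize #(U ⊔ W) = n at *; interval_cases n <;> omega)
    have := card_le (normsY e.le le_rfl)
    rw [h3, nrm_T h hS, card2 h hS, (Nat.card_congr (nrm_kl h k2).2.some.toEquiv).trans H10.card_S4] at this; omega

theorem s1008 : (∀ M : Subgroup G, IsCoatom M → Nonempty (M ≃* Equiv.Perm (Fin 4)) ∨ (#M = 21 ∧ ¬ IsMulCommutative M)) ∧
    (∀ M M' : Subgroup G, IsCoatom M → IsCoatom M' → #M = 21 → #M' = 21 → ∃ g : G, M' = cj g M) ∧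
    ∃ M₁ M₂ : Subgroup G, IsCoatom M₁ ∧ IsCoatom M₂ ∧ Nonempty (M₁ ≃* Equiv.Perm (Fin 4)) ∧
      Nonempty (M₂ ≃* Equiv.Perm (Fin 4)) ∧ (∀ g : G, M₂ ≠ cj g M₁) ∧ ∀ M : Subgroup G, IsCoatom M →
        Nonempty (M ≃* Equiv.Perm (Fin 4)) → ∃ g : G, M = cj g M₁ ∨ M = cj g M₂ := by
  refine ⟨fun M hM => (max h hM).symm.imp_right fun e => ⟨e, fun c => ?_⟩, fun M M' _ _ e e' => ?_, ?_⟩
  · obtain ⟨x, o, hx, -⟩ := m21 h e
    have := card_le (Ab.le_cen1 c hx)
    rw [cen_eq h (Or.inr rfl) o, card_zpowers', o] at this; omega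
  · obtain ⟨x, o, -, rfl⟩ := m21 h e
    obtain ⟨y, o', -, rfl⟩ := m21 h e'
    obtain ⟨g, -, e⟩ := (syl_p h (Or.inr rfl) o).syl_trans (syl_p h (Or.inr rfl) o')
    exact ⟨g, by rw [e, cj_nrm]⟩
  obtain ⟨T, hT⟩ := exists_syl 2 (⊤ : Subgroup G)
  obtain ⟨a, b, m⟩ := mcd h hT
  have k1 := m.klein m.sq
  have k2 := kl2 m
  have c24 : ∀ {U : Subgroup G}, IsKleinFour U → #N(U) = 24 := fun k =>
    (Nat.card_congr (nrm_kl h k).2.some.toEquiv).trans H10.card_S4
  refine ⟨_, _, (nrm_kl h k1).1, (nrm_kl h k2).1, (nrm_kl h k1).2, (nrm_kl h k2).2, fun g e => kl_ne m ?_, fun M hM ⟨f⟩ => ?_⟩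
  · refine not_cj h hT (m.sub_le 2) ((m.out_mul (mem_zpowers a)).sub_le 2) k1 (g := g) (by_contra fun hne => ?_)
    rw [cj_nrm] at e
    have k3 := H3.klein_cj k1 g
    exact hne (kl_eq h k3 k2 e)
  · have hf : Function.Injective (M.subtype.comp f.symm.toMonoidHom) := M.subtype_injective.comp f.symm.injective
    have k : IsKleinFour (H18.s4V.map (M.subtype.comp f.symm.toMonoidHom)) := H3.klein_iff.2 ⟨by
      rw [card_map_inj hf, Nat.card_congr (Equiv.subtypeEquivRight fun _ => H18.mem_s4V), Nat.card_eq_fintype_card]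
      decide +kernel, by rintro _ ⟨x, hx, rfl⟩; rw [← map_pow, sq, hx.1, map_one]⟩
    have n := (nml_top_iff.2 H18.qdLike_s4.normal).map (M.subtype.comp f.symm.toMonoidHom)
    rw [H3.map_top_equiv] at n
    generalize H18.s4V.map (M.subtype.comp f.symm.toMonoidHom) = V at k n
    obtain ⟨g, -, hg⟩ := hT.syl_subJ (H3.klein_pGrp k) le_top
    refine ⟨g, ?_⟩
    rw [eq_of_card_eq n.nrm ((Nat.card_congr f.toEquiv).trans (H10.card_S4.trans (c24 k).symm)), cj_nrm, cj_nrm]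
    rcases kl h m (le_cj_iff.1 hg) (H3.klein_cj k g⁻¹) with e | e
    · exact Or.inl (congrArg (fun X : Subgroup G => N(X)) (by rw [← cj_cj_inv g V, e]; rfl))
    · exact Or.inr (congrArg (fun X : Subgroup G => N(X)) (by rw [← cj_cj_inv g V, e]))

end O168

end Cfsg.Agent.GO
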