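import Cfsg.Agent.GO.Fs
import Cfsg.Agent.H8.Rank1
import Cfsg.Agent.H6.BrSuz
import Cfsg.Agent.H3.Two

/-! Small lemmas on 2-groups with generalized quaternion central quotients. -/

set_option autoImplicit false
set_option linter.unusedSectionVars false
set_option linter.unusedVariables false

namespace Cfsg.Agent.GO

open Cfsg Subgroup Cfsg.Agent.FT Cfsg.Agent.GW
open scoped commutatorElement

universe u

variable {G : Type u} [Group G] [Finite G] {D : Set G} {p : ℕ}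
  {A B E H J K L M P Q R S T U V W X Y Z : Subgroup G} {a b d e g r s t v w x y z : G}

theorem lift_quat [E.Normal] (hS : IsPGroup 2 G) (h1 : ¬ IsMulCommutative (G ⧸ E))
    (h2 : ∃! x : G ⧸ E, orderOf x = 2) : ∃ (n : ℕ) (x y : G), (∀ s, ∃ k : ℤ, ∃ c ∈ E, s = x ^ k * c ∨ s = y * x ^ k * c) ∧
      (∀ k : ℤ, x ^ k ∈ E ↔ (2 * 2 ^ (n + 1) : ℤ) ∣ k) ∧ y * x * y⁻¹ * x ∈ E ∧ (x ^ 2 ^ (n + 1))⁻¹ * (y * y) ∈ E := by
  obtain ⟨n, ⟨e⟩⟩ := (H8.cyclic_or_quaternion (hS.to_quotient E) fun s t a b => h2.unique a b).resolve_left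
    fun c => h1 ⟨⟨c.commGroup.mul_comm⟩⟩
  obtain ⟨x, y, h⟩ := H6.exists_quatData (S := ⊤) (topEquiv.trans e)
  obtain ⟨x, rfl⟩ := QuotientGroup.mk_surjective x
  obtain ⟨y, rfl⟩ := QuotientGroup.mk_surjective y
  refine ⟨n, x, y, fun s => ?_, fun k => ?_, ?_, QuotientGroup.eq.1 h.sq.symm⟩
  · obtain ⟨k, c | c⟩ := h.exists_eq (mem_top (s : G ⧸ E))
    · exact ⟨k, _, QuotientGroup.eq.1 (show ((x ^ k : G) : G ⧸ E) = s from c.symm), .inl (by group)⟩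
    · exact ⟨k, _, QuotientGroup.eq.1 (show ((y * x ^ k : G) : G ⧸ E) = s from c.symm), .inr (by group)⟩
  · rw [← QuotientGroup.eq_one_iff, QuotientGroup.mk_zpow, ← orderOf_dvd_iff_zpow_eq_one, h.ord]; simp
  · rw [← QuotientGroup.eq_one_iff]
    exact mul_eq_one_iff_eq_inv.2 h.inv

theorem s3202 [E.Normal] (hS : IsPGroup 2 G) (hE : E ≤ center G) (h1 : ¬ IsMulCommutative (G ⧸ E))
    (h2 : ∃! x : G ⧸ E, orderOf x = 2) : ∃ C : Subgroup G, C ≠ ⊥ ∧ IsCyclic C ∧ C.Characteristic := by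
  obtain ⟨n, x, y, k1, -, k3, -⟩ := lift_quat hS h1 h2
  refine ⟨commutator G, fun e => h1 ?_, ?_, inferInstance⟩
  · exact Normal.quotient_commutative_iff_commutator_le.2 (e ▸ bot_le)
  obtain ⟨c, e, hc⟩ : ∃ c, y * x * y⁻¹ = c * x⁻¹ ∧ ∀ g, g * c = c * g :=
    ⟨_, (mul_inv_cancel_right _ x).symm, mem_center_iff.1 (hE k3)⟩
  have n1 : x ∈ N(⟪c * x⁻¹ * x⁻¹⟫) := H3.mem_nrm_zpowers (by
    rw [← mul_assoc, ← mul_assoc, hc x, mul_inv_cancel_right]; exact mem_zpowers _)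
  have n2 : y ∈ N(⟪c * x⁻¹ * x⁻¹⟫) := H3.mem_nrm_zpowers (by
    have : y * (c * x⁻¹ * x⁻¹) * y⁻¹ = (c * x⁻¹ * x⁻¹)⁻¹ := by
      calc _ = (y * c) * y⁻¹ * (y * x * y⁻¹)⁻¹ * (y * x * y⁻¹)⁻¹ := by group
        _ = c * (x * c⁻¹) * (x * c⁻¹) := by rw [hc, e]; group
        _ = _ := by rw [← mul_assoc, ← hc]; simp [mul_assoc]
    rw [this]; exact inv_mem (mem_zpowers _))
  have n3 : ∀ d ∈ E, d ∈ N(⟪c * x⁻¹ * x⁻¹⟫) := fun d hd => H3.mem_nrm_zpowers (by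
    rw [← mem_center_iff.1 (hE hd), mul_inv_cancel_right]; exact mem_zpowers _)
  haveI : (⟪c * x⁻¹ * x⁻¹⟫).Normal := normalizer_eq_top_iff.1 (eq_top_iff.2 fun s _ => by
    obtain ⟨k, d, hd, rfl | rfl⟩ := k1 s
    exacts [mul_mem (zpow_mem n1 k) (n3 d hd), mul_mem (mul_mem n2 (zpow_mem n1 k)) (n3 d hd)])
  refine (cyc_zpowers (c * x⁻¹ * x⁻¹)).mono (Normal.quotient_commutative_iff_commutator_le.1 ⟨⟨fun s t => ?_⟩⟩)
  let π := QuotientGroup.mk' ⟪c * x⁻¹ * x⁻¹⟫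
  have c1 : Commute (π y) (π x) := by
    rw [← commutatorElement_eq_one_iff_commute, ← map_commutatorElement, commutatorElement_def, e]
    exact (QuotientGroup.eq_one_iff _).2 (mem_zpowers _)
  have c2 : ∀ t, Commute (π x) t ∧ Commute (π y) t := fun t => by
    obtain ⟨t, rfl⟩ := QuotientGroup.mk'_surjective _ t
    obtain ⟨k, d, hd, rfl | rfl⟩ := k1 t <;> have := fun g => Commute.map (mem_center_iff.1 (hE hd) g) π <;>
      simp only [map_mul, map_zpow]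
    · exact ⟨((Commute.refl _).zpow_right k).mul_right (this x), (c1.zpow_right k).mul_right (this y)⟩
    · exact ⟨(c1.symm.mul_right ((Commute.refl _).zpow_right k)).mul_right (this x),
        ((Commute.refl _).mul_right (c1.zpow_right k)).mul_right (this y)⟩
  obtain ⟨s, rfl⟩ := QuotientGroup.mk'_surjective _ s
  obtain ⟨t, rfl⟩ := QuotientGroup.mk'_surjective _ t
  obtain ⟨k, d, hd, rfl | rfl⟩ := k1 s <;> have := (Commute.map (mem_center_iff.1 (hE hd) t) π).symm <;>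
    simp only [map_mul, map_zpow]
  · exact (((c2 _).1.zpow_left k).mul_left this).eq
  · exact (((c2 _).2.mul_left ((c2 _).1.zpow_left k)).mul_left this).eq

theorem s3201 {ι : Type*} (hS : IsPGroup 2 G) (C : ι → Subgroup G) (i0 : ι) (hC : ∀ i, C i ≤ center G)
    (hm : ∀ i, ∀ a ∈ center G, ∀ b ∈ center G, a ∉ C i → b ∉ C i → a * b ∈ C i) (hne : ∀ i, ¬ center G ≤ C i)
    (hi : ∀ a, (∀ i, a ∈ C i) → a = 1) (hq : ∀ i, ∃ _ : (C i).Normal, ¬ IsMulCommutative (G ⧸ C i) ∧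
      ∃! x : G ⧸ C i, orderOf x = 2) : ∃ E Q : Subgroup G, IsInternalDirectProduct E Q ⊤ ∧ IsElementaryAbelian 2 E ∧
      ¬ IsMulCommutative Q ∧ ∃! x : Q, orderOf x = 2 := by
  have z2 : ∀ a ∈ center G, a * a = 1 := fun a ha => hi _ fun i => by
    by_cases c : a ∈ C i
    exacts [mul_mem c c, hm i a ha a ha c c]
  have s1 : ∀ i, ∀ s ∉ center G, s * s ∉ C i := fun i s hs c => by
    obtain ⟨_, -, hu⟩ := hq i
    obtain ⟨z, hz, z1⟩ := SetLike.not_le_iff_exists.1 (hne i)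
    have o : ∀ s ∉ C i, s * s ∈ C i → orderOf (s : G ⧸ C i) = 2 := fun s h1 h2 =>
      orderOf_eq_prime (by rw [sq]; exact (QuotientGroup.eq_one_iff _).2 h2) fun e => h1 ((QuotientGroup.eq_one_iff _).1 e)
    exact hs ((mul_mem_cancel_left (inv_mem hz)).1 (hC i (QuotientGroup.eq.1
      (hu.unique (o z z1 (z2 z hz ▸ one_mem _)) (o s (fun e => hs (hC i e)) c)))))
  have s2 : ∀ s ∉ center G, ∀ t ∉ center G, s * s ∈ center G → t * t ∈ center G → s * s = t * t :=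
    fun s hs t ht h1 h2 => by
      rw [← mul_left_inj (t * t), z2 _ h2]
      exact hi _ fun i => hm i _ h1 _ h2 (s1 i s hs) (s1 i t ht)
  obtain ⟨_, h1, h2⟩ := hq i0
  obtain ⟨n, x, y, k1, k2, k3, k4⟩ := lift_quat hS h1 h2
  have nc : ¬ Commute x y := fun c => by
    rw [← c.eq, mul_inv_cancel_right, ← sq, ← zpow_ofNat, k2] at k3
    have := Int.le_of_dvd two_pos k3
    have : (0 : ℤ) < 2 ^ n := by positivity
    rw [pow_succ] at *; omega
  have y0 : ∀ k : ℤ, y * x ^ k ∉ center G := fun k c => nc (by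
    have : Commute x (y * x ^ k * x ^ (-k)) :=
      Commute.mul_right (mem_center_iff.1 c x) ((Commute.refl x).zpow_right _)
    simpa using this)
  have y1 : y ∉ center G := by simpa using y0 0
  have xz : x ^ 2 ^ (n + 1) ∈ center G := by_contra fun c => s1 i0 _ c (by
    rw [← pow_add, ← zpow_natCast, k2]; exact ⟨1, by push_cast; ring⟩)
  have yz : y * y ∈ center G := (mul_mem_cancel_left (inv_mem xz)).1 (hC _ k4)
  have e1 : y * x * y⁻¹ = x⁻¹ := by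
    have := s2 _ (y0 1) _ y1 (by
      rw [zpow_one, show y * x * (y * x) = y * x * y⁻¹ * (y * y * x) by group, ← mem_center_iff.1 yz x, ← mul_assoc]
      exact mul_mem (hC _ k3) yz) yz
    rw [zpow_one] at this
    calc _ = x⁻¹ * y⁻¹ * (y * x * (y * x)) * y⁻¹ := by group
      _ = _ := by rw [this]; group
  have e2 : y * y = x ^ 2 ^ (n + 1) := by
    have h : x ^ 2 ^ n * x ^ 2 ^ n = x ^ 2 ^ (n + 1) := by rw [← pow_add, pow_succ, mul_two]
    rw [← h]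
    refine s2 _ y1 _ (fun c => ?_) yz (h ▸ xz)
    have := z2 _ c
    rw [h] at this
    exact s1 i0 y y1 (by simpa [this] using k4)
  have x1 : ∀ k : ℤ, x ^ k ∈ C i0 → x ^ k = 1 := fun k hk => by
    obtain ⟨l, rfl⟩ := (k2 k).1 hk
    have := z2 _ xz
    rw [← pow_add, ← zpow_natCast] at this
    rw [zpow_mul, show (2 * 2 ^ (n + 1) : ℤ) = (2 ^ (n + 1) + 2 ^ (n + 1) : ℕ) by push_cast; ring, this, one_zpow]
  have n1 : y ∈ N(⟪x⟫) := H3.mem_nrm_zpowers (e1 ▸ inv_mem (mem_zpowers x))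
  have hQ : (⟪x⟫ ⊔ ⟪y⟫) ⊓ C i0 = ⊥ := eq_bot_iff.2 fun s hs => by
    obtain ⟨_, ⟨k, rfl⟩, b, hb, rfl⟩ := (mem_sup_norm (zpowers_le.2 n1)).1 hs.1
    have l : ⟪y ^ 2⟫ ≤ ⟪x⟫ := zpowers_le.2 (by rw [sq, e2]; exact npow_mem_zpowers x _)
    rcases H3.mem_zpowers_sq_or hb with c | ⟨t, c, rfl⟩
    · obtain ⟨j, e⟩ := mem_zpowers_iff.1 (mul_mem (zpow_mem_zpowers x k) (l c))
      exact mem_bot.2 (e.symm.trans (x1 j (e ▸ hs.2)))
    · obtain ⟨j, e⟩ := mem_zpowers_iff.1 (mul_mem (zpow_mem_zpowers x k) (l c))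
      have c := hC _ hs.2
      simp only [← mul_assoc, ← e] at c
      exact (y0 j (by rwa [show y * x ^ j = y * (x ^ j * y) * y⁻¹ by group, mem_center_iff.1 c, mul_inv_cancel_right])).elim
  have hT : C i0 ⊔ (⟪x⟫ ⊔ ⟪y⟫) = ⊤ := eq_top_iff.2 fun s _ => by
    have mx : ∀ k : ℤ, x ^ k ∈ C i0 ⊔ (⟪x⟫ ⊔ ⟪y⟫) := fun k => mem_sup_right (mem_sup_left (zpow_mem_zpowers x k))
    obtain ⟨k, d, hd, rfl | rfl⟩ := k1 s
    exacts [mul_mem (mx k) (mem_sup_left hd),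
      mul_mem (mul_mem (mem_sup_right (mem_sup_right (mem_zpowers y))) (mx k)) (mem_sup_left hd)]
  let f := (QuotientGroup.mk' (C i0)).comp (⟪x⟫ ⊔ ⟪y⟫).subtype
  have fi : Function.Injective f := (injective_iff_map_eq_one f).2 fun s hs =>
    Subtype.ext (mem_bot.1 (hQ ▸ ⟨s.2, (QuotientGroup.eq_one_iff _).1 hs⟩))
  refine ⟨C i0, ⟪x⟫ ⊔ ⟪y⟫, ⟨le_top, le_top, fun a ha b _ => (mem_center_iff.1 (hC _ ha) b).symm, (inf_comm _ _).trans hQ, hT⟩,
    ⟨⟨⟨fun a b => Subtype.ext (mem_center_iff.1 (hC _ b.2) a)⟩⟩, fun a ha => (sq a).trans (z2 a (hC _ ha))⟩,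
    fun c => nc (Ab.comm c (mem_sup_left (mem_zpowers x)) (mem_sup_right (mem_zpowers y))), ?_⟩
  have yy : y * y ≠ 1 := fun e => s1 i0 y y1 (e ▸ one_mem _)
  refine ⟨⟨y * y, mem_sup_right (mul_mem (mem_zpowers y) (mem_zpowers y))⟩, ?_, fun s hs => ?_⟩
  · exact orderOf_eq_prime (Subtype.ext ((sq _).trans (z2 _ yz))) fun e => yy (congrArg Subtype.val e)
  · refine fi (h2.unique ((orderOf_injective f fi s).trans hs) ((orderOf_injective f fi _).trans ?_))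
    exact orderOf_eq_prime (Subtype.ext ((sq _).trans (z2 _ yz))) fun e => yy (congrArg Subtype.val e)

end Cfsg.Agent.GO
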