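import Cfsg.Agent.GO.Fs
import Cfsg.Agent.H2.Sig2
import Cfsg.Agent.AC.App2

/-! Normal four-groups in characteristic two; isolated points of involutions. -/

set_option autoImplicit false
set_option linter.unusedSectionVars false
set_option linter.unusedVariables false

namespace Cfsg.Agent.GO

open Cfsg Subgroup Cfsg.Agent.FT Cfsg.Agent.GW
open scoped commutatorElement

universe u

variable {G : Type u} [Group G] [Finite G] {D : Set G} {p : ℕ}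
  {A B E H J K L M P Q R S T U V W X Y Z : Subgroup G} {a b d e g r s t v w x y z : G}

theorem ix2_nrm (h : Ix2 A B) (hA : A ≤ B) : B ≤ N(A) := fun g hg => mem_nrm.2 fun x hx => by
  by_cases c : g ∈ A
  · exact conj_mem (le_nrm A c) hx
  simpa [mul_assoc] using h g⁻¹ (inv_mem hg) (x * g⁻¹) (mul_mem (hA hx) (inv_mem hg)) (by simpa using c)
    fun e => c (inv_mem_iff.1 ((mul_mem_cancel_left hx).1 e))

theorem four_core (hP : Syl 2 P ⊤) (hU : PnElem 2 2 U P) (hn : P ≤ N(U)) (hZ : ¬ Cyc Z(P) → U ≤ C(P))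
    {u : G} (hu : u ∈ U) (u1 : u ≠ 1) : O[{2}](C[u]) ≤ N(U) := by
  by_cases c : P ≤ C[u]
  · exact (pcore_le_syl (hP.subl c le_top)).trans hn
  have cy : Cyc Z(P) := by_contra fun e => c (le_cen1.2 (hZ e hu))
  obtain ⟨z, hz, zc, iz⟩ := hP.pi.exists_inv_cen (hU.abelem.pGrp hU.prime) hn fun e => u1 (mem_bot.1 (e ▸ hu))
  have ix : Ix2 (C[u] ⊓ P) P := (hU.ix2_cen1 hn hz (Invo.ne iz) zc hu).mono le_rfl le_rfl
  obtain ⟨t, ht, t1⟩ := SetLike.not_le_iff_exists.1 c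
  obtain ⟨R, hR, le⟩ := (hP.pi.mono (inf_le_right : C[u] ⊓ P ≤ P)).exists_syl inf_le_left
  have i2 : Ix2 (C[u] ⊓ P) R := ix2_of_card le ((hP.card_le hR.pi le_top).trans (by simpa using ix.card))
  have cz : ∀ w ∈ Z(C[u] ⊓ P), w * w = 1 → t * w * t⁻¹ = w → w ∈ ⟪z⟫ := fun w hw w2 e => by
    by_cases w1 : w = 1
    · exact w1 ▸ one_mem _
    refine Cyc.invo_eq cy ⟨hU.le hz, zc⟩ ⟨hw.1.2, mem_cen.2 fun g hg => ?_⟩ iz (invo_of w2 w1) ▸ mem_zpowers z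
    by_cases k : g ∈ C[u] ⊓ P
    · exact mem_cen.1 hw.2 g k
    have := mem_cen.1 hw.2 _ (ix t ht g hg (fun e => t1 e.1) k)
    symm
    calc w * g = t * w * t⁻¹ * g := by rw [e]
      _ = _ := by rw [mul_assoc, mul_assoc, ← this]; group
  have key : ∀ v ∈ Z(C[u] ⊓ P), v * v = 1 → v * (t * v * t⁻¹) ∈ ⟪z⟫ := fun v hv v2 => by
    have h1 := conj_mem (norms_center (ix2_nrm ix inf_le_right) ht) hv
    have h2 := mem_cen.1 hv.2 _ h1.1
    refine cz _ (mul_mem hv h1) ?_ ?_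
    · rw [mul_assoc, ← mul_assoc (t * v * t⁻¹), h2, mul_assoc, conj_mul, v2]; simp [v2]
    · rw [← conj_mul, ← h2, mul_right_inj, show t * (t * v * t⁻¹) * t⁻¹ = (t * t) * v * (t * t)⁻¹ by group,
        mem_cen.1 hv.2 _ (ix.sq_mem ht), mul_inv_cancel_right]
  have zu : z ≠ u := fun e => c (le_cen1.2 (e ▸ zc))
  have e1 : ∀ v ∈ U, v ∈ Z(C[u] ⊓ P) := fun v hv =>
    ⟨⟨hU.abelem.ab.le_cen1 hu hv, hU.le hv⟩, ((hU.eq_four hz hu (Invo.ne iz) u1 zu).ge.trans (sup_le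
      (zpowers_le.2 (cen_anti inf_le_right zc)) (zpowers_le.2 (le_cen1.1 inf_le_left)))) hv⟩
  have u2 := hU.abelem.mul_self hu
  have e2 : ∀ v ∈ Z(C[u] ⊓ P), v * v = 1 → v ∈ U := fun v hv v2 => by
    have l := zpowers_le.2 hz
    rcases (Invo.mem_zpowers iz).1 (key v hv v2) with k | k
    · exact l (cz v hv v2 (mul_left_cancel (k.trans v2.symm)))
    rcases (Invo.mem_zpowers iz).1 (key u (e1 u hu) u2) with j | j
    · exact (t1 (mem_cen1.2 (mul_inv_eq_iff_eq_mul.1 (mul_left_cancel (j.trans u2.symm))))).elim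
    have c1 := mem_cen1.1 hv.1.1
    have c2 := mem_cen.1 zc _ hv.1.2
    refine (mul_mem_cancel_left hu).1 (l (cz _ (mul_mem (e1 u hu) hv) ?_ ?_))
    · rw [mul_assoc, ← mul_assoc v, c1, mul_assoc, v2, mul_one, u2]
    · rw [← conj_mul, eq_inv_mul_iff_mul_eq.2 k, eq_inv_mul_iff_mul_eq.2 j, inv_eq_of_mul_eq_one_right u2,
        inv_eq_of_mul_eq_one_right v2, mul_assoc, ← mul_assoc z, ← c2, Invo.cancel' iz]
  refine (pcore_le_syl hR).trans fun g hg => mem_nrm.2 fun v hv =>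
    e2 _ (conj_mem (norms_center (ix2_nrm i2 le) hg) (e1 v hv)) (by rw [conj_mul, hU.abelem.mul_self hv]; simp)

theorem s1957 (hL : IsCharacteristicTwoType G) (hP : Syl 2 P ⊤) (hU : PnElem 2 2 U P) (hn : P ≤ N(U))
    (hZ : ¬ Cyc Z(P) → U ≤ C(P)) (hK : Odd #K) (hUK : U ≤ N(K)) : U ≤ C(K) := by
  have oK := odd_iff_p'.1 hK
  refine centsC (coprime_abelian_gen_cent1 hU.abelem.ab hU.not_cyc hUK (oK.cop' (hU.abelem.pGrp hU.prime)) fun u hu u1 => ?_)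
  have iu : Invo u := invo_of (hU.abelem.mul_self hu) u1
  have eN : N(⟪u⟫) = C[u] := le_antisymm (fun g hg => mem_cen1.2 (mul_inv_eq_iff_eq_mul.1
    ((iu.mem_zpowers.1 (conj_mem hg (mem_zpowers u))).resolve_left (iu.conj g).ne))) (norms_zpowers_of_cen1 le_rfl)
  have hc := map_mono (f := N(⟪u⟫).subtype) (hL.2 _ iu.pGrp.isPGroup (by simpa using u1))
  rw [map_subtype_cen, ← pcore_singleton Nat.prime_two, eN] at hc
  have qn := four_core hP hU hn hZ hu u1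
  have uc : U ≤ C[u] := hU.abelem.ab.le_cen1 hu
  have h1 : ⁅O[{2}](C[u]), U⁆ ≤ ⟪u⟫ := commutator_le.2 fun r hr v hv => by
    have i : Ix2 ⟪u⟫ U := ix2_of_card (zpowers_le.2 hu) (by rw [hU.four, iu.card])
    by_cases c : v ∈ ⟪u⟫
    · exact mul_mem (conj_mem (eN.ge (pcore_le _ _ hr)) c) (inv_mem c)
    have := i _ (inv_mem (conj_mem (qn hr) hv)) _ (inv_mem hv) (fun e => c ?_) (by simpa using c)
    · rwa [inv_inv] at this
    · simpa [mul_assoc] using conj_mem' (eN.ge (pcore_le _ _ hr)) (inv_mem e)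
  have n : U ≤ N(K ⊓ C[u]) := normsI hUK (uc.trans (le_nrm _))
  have l : ⁅U, K ⊓ C[u]⁆ ≤ K ⊓ C[u] := comm_le_right n
  have h2 := three_subgroup_mod (A := K ⊓ C[u]) (eN ▸ inf_le_right) (eN ▸ pcore_le _ _) (eN ▸ uc)
    ((commSS (comm_le_right (inf_le_right.trans (pcore_nrm _ _))) le_rfl).trans h1)
    ((commSS h1 le_rfl).trans (comm_le_left (eN ▸ inf_le_right)))
  have h3 := stable_factor_cent ((l.trans inf_le_right).trans (pcore_nrm _ _))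
    ((pcore_pi _ _).cop (oK.mono (l.trans inf_le_left))) ((commutator_comm _ _).trans_le h2)
    ((l.trans inf_le_right).trans (cen_zpowers u).ge)
  exact comm_eq_bot'.1 (eq_bot_of_le (le_inf ((le_inf (l.trans inf_le_right) h3).trans hc) (l.trans inf_le_left))
    ((pcore_pi _ _).cop oK).inf)

open AC AC.Ap in
theorem s1922 (hz : Invo z) (hH : H ≠ ⊤) (h0 : ∀ g, z ∈ cj g H ↔ g ∈ H) :
    (∀ t, IsConj z t → t ≠ z → t * z = z * t → ∀ g, z * t ∈ cj g H ↔ g ∈ H) ↔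
      ((∃ P, Syl 2 P ⊤ ∧ z ∈ Z(P)) ∧ ∀ t, IsConj z t → t ≠ z → t * z = z * t → C[z * t] ≤ H) := by
  have o : ∀ x, (∀ g, x ∈ cj g H ↔ g ∈ H) ↔ x ∈ H ∧ One H x := fun x =>
    ⟨fun h => ⟨by simpa [cj_one] using (h 1).2 (one_mem H), fun g hg => inv_mem_iff.1 ((h g⁻¹).1 (mem_cj.2 (by rwa [inv_inv])))⟩,
      fun h g => ⟨fun e => inv_mem_iff.1 (h.2 _ (by simpa using mem_cj.1 e)),
        fun e => mem_cj.2 (conj_mem' (le_nrm H e) h.1)⟩⟩
  obtain ⟨zH, h2⟩ := (o z).1 h0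
  refine ⟨fun h => ⟨?_, fun t a b c => ((o _).1 (h t a b c)).2.cen ((o _).1 (h t a b c)).1⟩,
    fun ⟨⟨P, hP, zP⟩, h⟩ t a b c => (o _).2 ⟨h t a b c (self_mem_cen1 _), one_of_cen hP zP.2
      ((le_cen1.2 zP.2).trans (h2.cen zH)) h2 ?_ (h t a b c)⟩⟩
  swap
  · obtain ⟨g, rfl⟩ := isConj_iff.1 a
    exact (hz.mul (hz.conj g) c.symm b.symm).sq
  have hh : HZ (G ⧸ H) {x | IsConj z x} := by
    simp only [isConj_iff] at h ⊢
    refine hz_coset ?_ ?_ ?_ ?_ ?_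
    · rintro _ ⟨g, rfl⟩
      exact hz.conj g
    · rintro _ ⟨g, rfl⟩ k
      exact ⟨k * g, by group⟩
    · rintro _ ⟨g, rfl⟩
      exact ⟨g⁻¹, by simpa [mul_assoc] using zH⟩
    · rintro _ ⟨g, rfl⟩ hg
      exact h2.conj (h2 g hg)
    rintro _ ⟨g, rfl⟩ _ ⟨k, rfl⟩ hg hk h4 h5
    have e : k * z * k⁻¹ = g * (g⁻¹ * k * z * (g⁻¹ * k)⁻¹) * g⁻¹ := by group
    rw [e, conj_mul, conj_mul, mul_left_inj, mul_right_inj] at h5
    rw [e, Ne, mul_left_inj, mul_right_inj] at h4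
    rw [e, conj_mul]
    exact ((o _).1 (h _ ⟨_, rfl⟩ (Ne.symm h4) h5.symm)).2.conj (h2 g hg)
  have st : MulAction.stabilizer G ((1 : G) : G ⧸ H) = H := MulAction.stabilizer_quotient H
  obtain ⟨P, hP⟩ := exists_syl 2 H
  obtain ⟨s, hs, -, k1, k2⟩ := hh.cen2 (L := ⊤) (ε := ((1 : G) : G ⧸ H)) ⟨trivial, IsConj.refl z, st.ge zH⟩
    (fun e => hH (top_le_iff.1 (st ▸ e))) hP.pi (le_top.trans (le_nrm ⊤)) (st.symm ▸ hP.le)
  obtain ⟨g, rfl⟩ := isConj_iff.1 k1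
  have gH := h2 g (st.le k2)
  have sP := hP.le_of_norm (hz.conj g).pGrp (zpowers_le.2 (st.le k2)) (zpowers_le.2 (cen_le_nrm P hs)) (mem_zpowers _)
  have := hP.syl_top_of_nrm_le fun x hx => (h2.conj gH) x (hP.le (conj_mem hx sP))
  exact ⟨cj g⁻¹ P, this.cj_le le_top, by rw [← cj_center, mem_cj, inv_inv]; exact ⟨sP, hs⟩⟩

end Cfsg.Agent.GO
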