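import Cfsg.Agent.H5.HS2
import Cfsg.Agent.H5.U3
import Cfsg.Agent.H2.Sig2
import Cfsg.Agent.H3.QD
import Cfsg.Agent.H1.POrb

/-! Small lemmas: four-groups, dihedral groups, inverted elements. -/

set_option autoImplicit false
set_option linter.unusedSectionVars false
set_option linter.unusedVariables false

namespace Cfsg.Agent.GO

open Cfsg Subgroup Cfsg.Agent.FT Cfsg.Agent.GW
open scoped commutatorElement

universe u

variable {G : Type u} [Group G] [Finite G] {D : Set G} {p : ℕ}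
  {A B E H J K L M P Q R S T U V W X Y Z : Subgroup G} {a b d e g s t v w x y z : G}

variable {l : ℕ} {c : G}

theorem klein2 (hx : x * x = 1) (hy : y * y = 1) (h : y * x = x * y) (x1 : x ≠ 1) (hn : y ∉ ⟪x⟫) :
    IsKleinFour (⟪x⟫ ⊔ ⟪y⟫ : Subgroup G) := by
  have hc : y ∈ C(⟪x⟫) := by rwa [cen_zpowers, mem_cen1]
  refine H3.klein_iff.2 ⟨?_, fun _ => ((abelem_zpowers (sq x ▸ hx)).sup_zpowers hc (sq y ▸ hy)).pow⟩
  rw [H3.card_sup_zpowers Nat.prime_two (cen_le_nrm _ hc) hn (by rw [sq, hy]; exact one_mem _), card_zpowers', orderOf_two hx x1]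

theorem s0502 (pG : PGrp 2 (⊤ : Subgroup G)) (hE : E8 E) (hn : E ⊴ ⊤) : IsFourConnected G := by
  obtain ⟨W, hW, nW⟩ : ∃ U, PnElem 2 2 U E ∧ ⊤ ≤ N(U) := by
    rcases four_or_mc pG hn with h | h | ⟨a, b, m, h, -⟩
    · exact h
    · exact absurd h hE.not_cyc
    · exact absurd h (hE.not_mc le_rfl)
  obtain ⟨z, hz, cz, oz⟩ := pG.exists_inv_cen hW.pGrp nW hW.ne_bot
  have z1 : z ≠ 1 := fun e => by simp [e] at oz
  have z2 : z * z = 1 := hW.abelem.mul_self hz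
  have key : ∀ U : Subgroup G, IsKleinFour U → ∃ F : Subgroup G, IsKleinFour F ∧ F ≤ C(W) ∧ F ≤ C(U) := fun U hU => by
    have hU' := pnElem_of_kleinFour hU
    by_cases h : U ≤ C(W)
    · exact ⟨W, hW.kleinFour, hW.ab.le_cen, centsC h⟩
    obtain ⟨v, hv, hv'⟩ := SetLike.not_le_iff_exists.1 h
    have h1 := ((hW.ix2_cen pG nW).mono (X := C(W)) (Y := U) inf_le_left le_top).card
    obtain ⟨u, hu, u1⟩ := FT.exists_ne_one (ne_bot_of_one_lt_card (H := C(W) ⊓ U) (by have := hU'.four; omega))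
    by_cases e : u = z
    · subst e
      have v2 := hU'.abelem.mul_self hv
      obtain ⟨e, he, he'⟩ : ∃ e ∈ E ⊓ C[v], e ∉ ⟪u⟫ := SetLike.not_le_iff_exists.1 fun h2 => by
        have n1 : ⟪v⟫ ≤ N(E) := le_top.trans hn.nrm
        obtain ⟨n, h3⟩ := (pG.mono (le_top (a := E ⊔ ⟪v⟫))).card
        have h4 : 3 ≤ n := (Nat.pow_le_pow_iff_right one_lt_two).1 (by rw [← h3]; exact hE.le.trans (card_le le_sup_left))
        obtain ⟨m, rfl⟩ : ∃ m, n = m + 1 := ⟨n - 1, by omega⟩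
        obtain ⟨a, b, h5⟩ := (H3.maxCl_of_cen1' Nat.prime_two h3 (by omega) (mem_sup_right (mem_zpowers v)) (by
          rw [inf_comm, inf_sup_right n1 (zpowers_le_cen1 v), inf_comm]
          exact (card_le (sup_le (h2.trans (zpowers_le.2 hu.2)) (zpowers_le.2 hv))).trans hU'.card.le)).mc (by omega)
        exact hE.not_mc le_sup_left h5
      refine ⟨_, klein2 z2 (hE.el.mul_self he.1) (hE.el.ab.comm he.1 (hW.le hz)) z1 he',
        hE.el.ab.cents hW.le (sup_le (zpowers_le.2 (hW.le hz)) (zpowers_le.2 he.1)),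
        sup_le (zpowers_le.2 (cen_anti le_top cz)) (zpowers_le.2 ?_)⟩
      rw [← hU'.eq_four hu.2 hv u1 (fun e => hv' (e ▸ one_mem _)) (fun e => hv' (e ▸ hu.1)), cen_sup, cen_zpowers, cen_zpowers]
      exact ⟨mem_cen1.2 (hE.el.ab.comm he.1 (hW.le hz)), he.2⟩
    · refine ⟨_, klein2 z2 (hU'.abelem.mul_self hu.2) (mem_cen.1 cz u (mem_top u)) z1 fun h2 => ?_,
        sup_le (zpowers_le.2 (cen_anti le_top cz)) (zpowers_le.2 hu.1),
        sup_le (zpowers_le.2 (cen_anti le_top cz)) (zpowers_le.2 (hU'.ab.le_cen hu.2))⟩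
      exact ((H3.mem_zpowers_two (sq z ▸ z2)).1 h2).elim u1 e
  intro U V hU hV
  obtain ⟨F, a1, a2, a3⟩ := key U hU
  obtain ⟨F', b1, b2, b3⟩ := key V hV
  refine .head ⟨hU, a1, fun a ha b hb => mem_cen.1 (a3 hb) a ha⟩ (.head ⟨a1, hW.kleinFour, fun a ha b hb => (mem_cen.1 (a2 ha) b hb).symm⟩
    (.head ⟨hW.kleinFour, b1, fun a ha b hb => mem_cen.1 (b2 hb) a ha⟩ (.single ⟨b1, hV, fun a ha b hb => (mem_cen.1 (b3 ha) b hb).symm⟩)))

section Dih
open DihedralGroup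
variable {n : ℕ} [NeZero n] {H : Subgroup (DihedralGroup n)}

theorem dih_sr (h : ¬ Cyc H) : ∃ j, sr j ∈ H := by
  by_contra! hn
  refine h ((cyc_zpowers (r 1)).mono fun x hx => ?_)
  rcases x with i | i
  · rw [← ZMod.natCast_zmod_val i, ← r_one_pow]; exact npow_mem_zpowers _ _
  · exact absurd hx (hn i)

theorem dih_r (h : ¬ Cyc H) : ∃ i, i ≠ 0 ∧ r i ∈ H := by
  obtain ⟨j, hj⟩ := dih_sr h
  by_contra! hn
  refine h ((cyc_zpowers (sr j)).mono fun x hx => ?_)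
  rcases x with i | i
  · obtain rfl : i = 0 := by_contra fun e => hn i e hx
    exact one_mem _
  · obtain rfl : j = i := sub_eq_zero.1 (by_contra fun e => hn _ e (by simpa using mul_mem hx hj))
    exact mem_zpowers _

theorem dih_cen (h : ¬ Cyc H) (hz : ∀ i : ZMod n, i + i = 0 → r i ∈ H) : C(H) ≤ H := fun x hx => by
  obtain ⟨j, hj⟩ := dih_sr h
  have := mem_cen.1 hx _ hj
  rcases x with i | i
  · simp only [sr_mul_r, r_mul_sr, sr.injEq] at this
    exact hz i (by linear_combination this)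
  · simp only [sr_mul_sr, r.injEq] at this
    simpa using mul_mem hj (hz (i - j) (by linear_combination this))

theorem zmod_two {i j : ZMod n} (hi : i + i = 0) (hj : j + j = 0) (i0 : i ≠ 0) : j = 0 ∨ j = i := by
  rcases (ZMod.neg_eq_self_iff j).1 (neg_eq_of_add_eq_zero_left hj) with e | e
  · exact Or.inl e
  · have := ((ZMod.neg_eq_self_iff i).1 (neg_eq_of_add_eq_zero_left hi)).resolve_left i0
    exact Or.inr (ZMod.val_injective n (by omega))

theorem dih_four (h : Abelem 2 H) (hc : ¬ Cyc H) : C(H) ≤ H := by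
  obtain ⟨i, i0, hi⟩ := dih_r hc
  have : i + i = 0 := r.inj (h.mul_self hi)
  refine dih_cen hc fun j hj => ?_
  rcases zmod_two this hj i0 with rfl | rfl
  exacts [one_mem _, hi]

end Dih

theorem cen_eq_of_map {Q : Type*} [Group Q] [Finite Q] (f : G →* Q) (hk : f.ker ≤ A) (h2 : #f.ker = 2) (hA : Abelem 2 A)
    (h8 : #A = 8) (h : ∀ V : Subgroup Q, Abelem 2 V → ¬ Cyc V → C(V) ≤ V) : C(A) = A := by
  refine le_antisymm (fun c hc => ?_) hA.ab.le_cen
  have h4 : #(A.map f) = 4 := by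
    have := FT.card_mul_relIndex hk
    rw [← card_map_eq, h2, h8] at this; omega
  have := h _ (hA.map f) ((hA.map f).not_cyc_of_card h4.ge) (map_cents f le_rfl (mem_map_of_mem f hc))
  rwa [← mem_comap, comap_map_eq_self hk] at this

theorem s1236 (ht : orderOf t = 2) [⟪t⟫.Normal] (hq : (∃ m : ℕ, 2 ≤ m ∧ Nonempty (G ⧸ ⟪t⟫ ≃* DihedralGroup m)) ∨
    IsQuasiDihedral (G ⧸ ⟪t⟫)) (hA : Abelem 2 A) (h8 : #A = 8) (htA : t ∈ A) : C(A) = A := by
  rcases hq with ⟨m, hm, ⟨e⟩⟩ | hq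
  · haveI : NeZero m := ⟨by omega⟩
    have : (e.toMonoidHom.comp (QuotientGroup.mk' ⟪t⟫)).ker = ⟪t⟫ := by
      ext x; simp
    exact cen_eq_of_map _ (this ▸ zpowers_le.2 htA) (by rw [this, card_zpowers', ht]) hA h8 fun _ => dih_four
  · obtain ⟨a, b, m, h⟩ := H3.exists_mcs_top hq
    exact cen_eq_of_map (QuotientGroup.mk' ⟪t⟫) (by rw [QuotientGroup.ker_mk']; exact zpowers_le.2 htA) (by rw [QuotientGroup.ker_mk', card_zpowers', ht])
      hA h8 fun V _ hc x hx => h.toMC.cen_le le_top hc ⟨mem_top x, hx⟩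

open DihedralGroup in
theorem s3920 (n : ℕ) (hn : 3 ≤ n) :
    (∀ H : Subgroup (DihedralGroup n), ¬ IsCyclic H → C(H) ≤ H) ↔ (Odd n ∨ ∃ k : ℕ, n = 2 ^ k) := by
  haveI : NeZero n := ⟨by omega⟩
  refine ⟨fun h => ?_, ?_⟩
  · by_contra! h1
    obtain ⟨m, hm⟩ := Nat.not_odd_iff_even.1 h1.1
    obtain ⟨q, hq, hd, h2⟩ : ∃ q, q.Prime ∧ q ∣ n ∧ q ≠ 2 := by
      by_contra! h2
      exact h1.2 _ (Nat.eq_prime_pow_of_unique_prime_dvd (by omega) fun {d} a b => h2 d a b)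
    have ox : orderOf ((r 1 : DihedralGroup n) ^ (n / q)) = q := by
      have := orderOf_pow_orderOf_div (x := (r 1 : DihedralGroup n)) (n := q) (by rw [orderOf_r_one]; omega) (by rwa [orderOf_r_one])
      rwa [orderOf_r_one] at this
    have oz : orderOf ((r 1 : DihedralGroup n) ^ (n / 2)) = 2 := by
      have := orderOf_pow_orderOf_div (x := (r 1 : DihedralGroup n)) (n := 2) (by rw [orderOf_r_one]; omega)
        (by rw [orderOf_r_one]; omega)
      rwa [orderOf_r_one] at this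
    rw [r_one_pow] at ox oz
    generalize ((n / q : ℕ) : ZMod n) = i at ox
    generalize ((n / 2 : ℕ) : ZMod n) = k at oz
    have k2 : k + k = 0 := by have := pow_orderOf_eq_one (r k); rw [oz, sq] at this; exact r.inj this
    have n1 : ⟪(sr 0 : DihedralGroup n)⟫ ≤ N(⟪r i⟫) := zpowers_le.2 (H3.mem_nrm_zpowers (by
      have : (sr 0 : DihedralGroup n) * r i * (sr 0)⁻¹ = (r i)⁻¹ := by simp
      rw [this]; exact inv_mem (mem_zpowers _)))
    have := h (⟪r i⟫ ⊔ ⟪sr 0⟫) (fun e => by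
      have := (Cyc.ab e).comm (mem_sup_left (mem_zpowers _)) (mem_sup_right (mem_zpowers _))
      simp only [sr_mul_r, r_mul_sr, sr.injEq] at this
      have e2 : r i ^ 2 = 1 := by rw [sq, r_mul_r, one_def, r.injEq]; linear_combination -this
      exact h2 ((Nat.prime_dvd_prime_iff_eq hq Nat.prime_two).1 (ox ▸ orderOf_dvd_of_pow_eq_one e2)))
      (x := r k) (fun y _ => by
        rcases y with j | j
        · simp [add_comm]
        · simp only [sr_mul_r, r_mul_sr, sr.injEq]; linear_combination k2)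
    obtain ⟨a, ha, b, hb, e⟩ := (mem_sup_norm n1).1 this
    rcases (H3.mem_zpowers_two (by simp [sq])).1 hb with rfl | rfl
    · rw [mul_one] at e
      have := orderOf_dvd_card' (e ▸ ha)
      rw [oz, card_zpowers', ox] at this
      exact h2 ((Nat.prime_dvd_prime_iff_eq Nat.prime_two hq).1 this).symm
    · obtain ⟨j, rfl⟩ := mem_zpowers_iff.1 ha
      simp at e
  · rintro (h | ⟨k, rfl⟩) H hc
    · refine dih_cen hc fun i hi => ?_
      rcases (ZMod.neg_eq_self_iff i).1 (neg_eq_of_add_eq_zero_left hi) with rfl | e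
      · exact one_mem _
      · exact absurd h (by rw [← e]; simp)
    · have : 2 ≤ k := by_contra fun e => by
        have : 2 ^ k ≤ 2 ^ 1 := Nat.pow_le_pow_right two_pos (by omega)
        omega
      exact fun x hx => (H3.mcd_dihedral this).toMC.cen_le le_top hc ⟨mem_top x, hx⟩

open H5c P22 in
theorem lift2 {G' : Type*} [Group G'] [Finite G'] {D : Subgroup G} (f : D →* G') (hH : H ≤ D) (hl : l ≠ 2) {s z : G'}
    (hs : s ∈ pmap f H) (hz : z ∈ pmap f H) (p2 : PiElt {2} s) (p3 : PiElt {l} z) (hi : s * z * s⁻¹ = z⁻¹) :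
    ∃ t ∈ H, ∃ y ∈ H, PiElt {2} t ∧ PiElt {l} y ∧ t * y * t⁻¹ = y⁻¹ ∧ pfun f y = z ^ 2 := by
  have nz : ⟪z⟫ ⊴ ⟪z⟫ ⊔ ⟪s⟫ := nml_sup_left (zpowers_le.2 (cj_eq_self.1 (by rw [cj_zpowers, hi, zpowers_inv])))
  have hY : H ⊓ ppre f ⟪z⟫ ⊴ H ⊓ ppre f (⟪z⟫ ⊔ ⟪s⟫) := (nz.ppre f).inf_left H
  obtain ⟨P, hP⟩ := exists_syl l (H ⊓ ppre f ⟪z⟫)
  have hPD : P ≤ D := hP.le.trans (inf_le_left.trans hH)
  have e1 : pmap f P = ⟪z⟫ := by
    have := hP.pmap f (inf_le_left.trans hH)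
    rw [pmap_inf_ppre_of_le (zpowers_le.2 hz)] at this
    exact this.eq_of_piGrp p3.zpowers
  have e2 := (hP.frattini hY).pmap f (inf_le_left.trans hH)
  rw [pmap_inf_ppre_of_le (zpowers_le.2 hz), pmap_inf_ppre_of_le (sup_le (zpowers_le.2 hz) (zpowers_le.2 hs)),
    ← e1] at e2
  have e3 : s ∈ pmap f (H ⊓ ppre f (pmap f P ⊔ ⟪s⟫) ⊓ N(P)) := by
    refine (e2.sup.ge.trans (sup_le (pmap_mono f (le_inf ?_ (le_nrm P))) le_rfl)) (mem_sup_right (mem_zpowers s))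
    exact le_inf (hP.le.trans inf_le_left) ((le_ppre_pmap f hPD).trans (ppre_mono f le_sup_left))
  obtain ⟨t₀, ht, ht', rfl⟩ := mem_pmap.1 e3
  have e4 : pfun f (constt {2} t₀) = pfun f t₀ := by rw [pfun_constt f _ ht', p2.constt_eq]
  have hH' : constt {2} t₀ ∈ H := constt_mem _ ht.1.1
  have hN : constt {2} t₀ ∈ N(P) := constt_mem _ ht.2
  have q2 := piElt_constt {2} t₀
  generalize constt {2} t₀ = t at e4 hH' hN q2
  rw [← e4] at hi
  have hD := hH hH'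
  have e5 := coprime_pmap_cent f hPD (zpowers_le.2 (mul_mem hD hD)) (zpowers_le.2 (mul_mem hN hN))
    ((hP.pi.inf_left _).cop_of_ne (q2.mul q2 rfl).zpowers hl) (Or.inr (sol_zpowers _))
  rw [pmap_zpowers f (mul_mem hD hD), pfun_mul f hD hD, e1, cen_zpowers, cen_zpowers] at e5
  have sc : pfun f t * pfun f t ∈ C[z] := by
    rw [mem_cen1]
    calc _ = pfun f t * (pfun f t * z * (pfun f t)⁻¹) * (pfun f t)⁻¹ * (pfun f t * pfun f t) := by group
      _ = _ := by rw [hi, ← conj_inv, hi, inv_inv]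
  obtain ⟨x, hx, hx', rfl⟩ := mem_pmap.1 (e5.ge ⟨mem_zpowers z, cen1_comm.1 sc⟩)
  obtain ⟨y, hy, h1, h2, h3⟩ := lift_inv f hD hx' (cen1_comm.1 hx.2) p3 hi
  exact ⟨t, hH', y, zpowers_le.2 (comm_mem_of_nrm (hP.le hx.1).1 (le_nrm H hH')) hy, q2, h1, h2, h3⟩

theorem mem_pmap_surj {G' : Type*} [Group G'] {D : Subgroup G} {f : D →* G'} (hf : Function.Surjective f) (x : G') :
    x ∈ pmap f D := let ⟨y, e⟩ := hf x; mem_pmap.2 ⟨y, y.2, y.2, by rw [← e, pfun_of_mem]⟩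

theorem inv_of_nrm (hp : p ≠ 2) (p2 : PiElt {2} x) (pP : PGrp p P) (hn : x ∈ N(P)) (hc : x ∉ C(P)) :
    ∃ x y : G, PiElt {2} x ∧ PiElt {p} y ∧ y ≠ 1 ∧ x * y * x⁻¹ = y⁻¹ := by
  obtain ⟨f, hf, h1, h2⟩ := exists_pow_sq p2 hc
  obtain ⟨g, hg, e⟩ : ∃ g ∈ P, g * f ≠ f * g := by by_contra! h; exact h1 (mem_cen.2 h)
  exact ⟨f, ⁅g, f⁆, p2.zpowers.piElt hf, pP.piElt (H5c.comm_mem_of_nrm hg (zpowers_le.2 hn hf)),
    mt commutatorElement_eq_one_iff_mul_comm.1 e, H5c.inv_comm (cen_le_cen1 hg h2)⟩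

theorem dih_of_inv (hp : p.Prime) (h2 : p ≠ 2) (p2 : PiElt {2} t) (p3 : PiElt {p} y) (h1 : y ≠ 1)
    (hi : t * y * t⁻¹ = y⁻¹) : Involves (DihedralGroup p) G := by
  have hd : p ∣ orderOf y := p3.dvd_of_ne_one (mt orderOf_eq_one_iff.1 h1)
  have o := orderOf_pow_orderOf_div (orderOf_pos y).ne' hd
  have hi' : t * y ^ (orderOf y / p) * t⁻¹ = (y ^ (orderOf y / p))⁻¹ := by rw [← conj_pow, hi, inv_pow]
  have p3' := p3.pow (orderOf y / p)
  generalize y ^ (orderOf y / p) = y at o hi' p3'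
  have n1 : t ∈ N(⟪t * t⟫) := norms_zpowers_of_cen1 (X := ⟪t⟫) (zpowers_le.2 (mem_cen1.2 (mul_assoc _ _ _).symm)) (mem_zpowers t)
  have n2 : y ∈ N(⟪t * t⟫) := norms_zpowers_of_cen1 (zpowers_le.2 (cen1_comm.1 (H5c.sq_cen hi'))) (mem_zpowers y)
  have y1 : coset(⟪t * t⟫, y) ≠ 1 := fun e => hp.one_lt.ne' (by
    rw [← o, p3'.eq_one_of_mem ((p2.mul p2 rfl).zpowers.p' h2.symm) ((coset_eq_one_iff n2).1 e), orderOf_one])
  haveI := Fact.mk hp
  have o' : orderOf coset(⟪t * t⟫, y) = p := orderOf_eq_prime (by rw [← coset_pow n2, ← o, pow_orderOf_eq_one, coset_one]) y1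
  have hc := coset_conj n1 n2
  rw [hi', coset_inv n2] at hc
  obtain ⟨e⟩ := H10.nonempty_closure_equiv_dihedral ((coset_mul n1 n1).symm.trans (coset_of_mem (mem_zpowers _))) hc.symm fun e => by
    rw [← H3.comm_of_mem_zpowers (mem_zpowers _) e, mul_inv_cancel_right, inv_eq_iff_mul_eq_one] at hc
    exact h2 ((Nat.prime_dvd_prime_iff_eq hp Nat.prime_two).1 (o' ▸ orderOf_dvd_of_pow_eq_one ((sq _).trans hc)))
  rw [o'] at e
  exact H18.Involves.trans ((H18.involves_congr_left e).1 (H18.involves_subgroup _))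
    (H18.Involves.trans (H18.involves_of_surjective _ (qhom_surjective _)) (H18.involves_subgroup _))

theorem inv_of_dih (hp : p.Prime) (h2 : p ≠ 2) (h : Involves (DihedralGroup p) G) :
    ∃ x y : G, PiElt {2} x ∧ PiElt {p} y ∧ y ≠ 1 ∧ x * y * x⁻¹ = y⁻¹ := by
  haveI : NeZero p := ⟨hp.ne_zero⟩
  obtain ⟨K, f, hf⟩ := H18.involves_iff.1 h
  obtain ⟨t, -, y, -, a1, a2, a3, a4⟩ := lift2 f le_rfl h2 (mem_pmap_surj hf (.sr 0)) (mem_pmap_surj hf (.r 1))
    (pElt_of_pow_eq_one Nat.prime_two (by simp [sq])) (pElt_of_pow_eq_one hp DihedralGroup.r_one_pow_n) (by simp)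
  refine ⟨t, y, a1, a2, fun e => h2 ((Nat.prime_dvd_prime_iff_eq hp Nat.prime_two).1 ?_), a3⟩
  rw [e, pfun_one] at a4
  exact DihedralGroup.orderOf_r_one (n := p) ▸ orderOf_dvd_of_pow_eq_one a4.symm

theorem piElt_iff (hp : p.Prime) : PiElt {p} x ↔ ∃ k, orderOf x = p ^ k :=
  haveI := Fact.mk hp
  ⟨H3.exists_ord, fun ⟨k, e⟩ => by rw [PiElt, e]; exact ((piNat_prime (π := {p}) hp).2 rfl).pow k⟩

theorem s2758 (hp : p.Prime) (h2 : p ≠ 2) : (Involves (DihedralGroup p) G ↔ ∃ (x : G) (P : Subgroup G),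
      (∃ k : ℕ, orderOf x = 2 ^ k) ∧ IsPGroup p P ∧ x ∈ N(P) ∧ x ∉ C(P)) ∧
    (Involves (DihedralGroup p) G ↔ ∃ x y : G, (∃ k : ℕ, orderOf x = 2 ^ k) ∧ (∃ k : ℕ, orderOf y = p ^ k) ∧ y ≠ 1 ∧
      x * y * x⁻¹ = y⁻¹) := by
  simp only [← piElt_iff hp, ← piElt_iff Nat.prime_two]
  refine ⟨⟨fun h => ?_, fun ⟨x, P, a1, a2, a3, a4⟩ => ?_⟩, inv_of_dih hp h2, fun ⟨x, y, a1, a2, a3, a4⟩ => dih_of_inv hp h2 a1 a2 a3 a4⟩
  · obtain ⟨x, y, a1, a2, a3, a4⟩ := inv_of_dih hp h2 h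
    refine ⟨x, ⟪y⟫, a1, a2.zpowers.isPGroup, cj_eq_self.1 (by rw [cj_zpowers, a4, zpowers_inv]), fun e => a3 ?_⟩
    rw [cen_zpowers, mem_cen1] at e
    rw [e, mul_inv_cancel_right, eq_inv_iff_mul_eq_one, ← sq] at a4
    exact H5c.eq_one_of_sq (a2.pi h2) a4
  · obtain ⟨x, y, a1, a2, a3, a4⟩ := inv_of_nrm h2 a1 (pGrp_of_isPGroup hp a2) a3 a4
    exact dih_of_inv hp h2 a1 a2 a3 a4

theorem s2759 : Involves (Equiv.Perm (Fin 4)) G ↔ ∃ T : Subgroup G, IsPGroup 2 T ∧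
    Involves (Equiv.Perm (Fin 3)) (N(T) ⧸ C(T).subgroupOf N(T)) := by
  refine ⟨fun h => ?_, fun ⟨T, hT, h⟩ => ?_⟩
  · obtain ⟨K, f, hf⟩ := H18.involves_iff.1 h
    have e : pmap f K = ⊤ := by rw [pmap_dom, MonoidHom.range_eq_top.2 hf]
    have nD : K ⊓ ppre f O[{2}](pmap f K) ⊴ K := Nml.inf_ppre le_rfl (pcore_nrm _ _)
    obtain ⟨P, hP⟩ := exists_syl 2 (K ⊓ ppre f O[{2}](pmap f K))
    have h1 := hP.pmap f inf_le_left
    rw [pmap_inf_ppre_of_le (pcore_le _ _)] at h1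
    have h2 := h1.eq_of_piGrp (pcore_pi _ _)
    have h3 := (hP.frattini nD).pmap f le_rfl
    rw [pmap_inf_ppre_of_le (pcore_le _ _), ← h2] at h3
    have h4 : pmap f (K ⊓ N(P)) = ⊤ := top_le_iff.1 (e.symm.trans_le (h3.sup.ge.trans
      (sup_le (pmap_mono f (le_inf (hP.le.trans inf_le_left) (le_nrm P))) le_rfl)))
    obtain ⟨t, ht, y, hy, a1, a2, a3, a4⟩ := lift2 (l := 3) f inf_le_left (by norm_num) (h4 ▸ mem_top (Equiv.swap 0 1))
      (h4 ▸ mem_top (Equiv.swap 0 1 * Equiv.swap 1 2)) (pElt_of_pow_eq_one Nat.prime_two (by decide))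
      (pElt_of_pow_eq_one Nat.prime_three (by decide)) (by decide)
    refine ⟨P, hP.pi.isPGroup, (H18.involves_congr_right topEquiv).1 (by_contra fun hn => ?_)⟩
    have := H5c.n3_of_s3 hn (QuotientGroup.mk ⟨t, ht.2⟩) (mem_top _) (QuotientGroup.mk ⟨y, hy.2⟩) (mem_top _)
      (by have := a1.pfun (QuotientGroup.mk' (C(P).subgroupOf N(P))); rwa [pfun_of_mem _ ht.2] at this)
      (by have := a2.pfun (QuotientGroup.mk' (C(P).subgroupOf N(P))); rwa [pfun_of_mem _ hy.2] at this)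
      (congrArg QuotientGroup.mk (Subtype.ext a3))
    rw [QuotientGroup.eq_one_iff, mem_subgroupOf] at this
    refine H5c.U3.pCore_s4 ?_
    rw [← piCore_singleton Nat.prime_two, ← pcore_top, ← e, ← h2, eq_bot_iff]
    intro v hv
    have pv := (hP.pi.pmap f).piElt hv
    obtain ⟨w, hw, hw', rfl⟩ := mem_pmap.1 hv
    have c := congrArg (pfun f) (mem_cen.1 this w hw)
    rw [pfun_mul f hw' hy.1, pfun_mul f hy.1 hw', a4] at c
    have k : ∀ v : Equiv.Perm (Fin 4), v * (Equiv.swap 0 1 * Equiv.swap 1 2) ^ 2 = (Equiv.swap 0 1 * Equiv.swap 1 2) ^ 2 * v →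
      v ^ 3 = 1 := by decide
    exact (pElt_of_pow_eq_one Nat.prime_three (k _ c)).eq_one (pv.pi (by norm_num))
  · have pT := pGrp_of_isPGroup Nat.prime_two hT
    have h1 := mt H5c.s3_of_n3 (not_not.2 h)
    simp only [H5c.N3, not_forall] at h1
    obtain ⟨s, -, z, -, p2, p3, hi, z1⟩ := h1
    obtain ⟨t, ht, y, hy, a1, a2, a3, a4⟩ := lift2 (QuotientGroup.mk' (C(T).subgroupOf N(T))) le_rfl (by norm_num)
      (mem_pmap_surj (QuotientGroup.mk'_surjective _) s) (mem_pmap_surj (QuotientGroup.mk'_surjective _) z) p2 p3 hi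
    have nP : N(T) ≤ N(Phi T) := norms_Phi le_rfl
    refine H18.Involves.trans (H5c.s4_of_inv pT.abelem_quo_Phi (quo_norms _ le_rfl (mem_quo_of_mem (nP ht) ht))
      (quo_norms _ le_rfl (mem_quo_of_mem (nP hy) hy)) (a1.pfun _) (a2.pfun _)
      (by rw [← coset_conj (nP ht) (nP hy), a3, coset_inv (nP hy)]) (fun e => z1 ?_) (quo_mono _ (le_nrm T))
      (mem_quo_of_mem (nP ht) ht) (mem_quo_of_mem (nP hy) hy))
      (H18.Involves.trans (H5c.inv_pmap _ nP) (H18.involves_subgroup _))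
    rw [← zpowers_le, ← quo_zpowers (nP hy)] at e
    have := coprime_cent_quo_Phi (zpowers_le.2 hy) (pT.cop (a2.zpowers.p' (by norm_num))) e (mem_zpowers y)
    rw [pfun_of_mem _ hy, QuotientGroup.mk'_apply, (QuotientGroup.eq_one_iff (⟨y, hy⟩ : N(T))).2 (mem_subgroupOf.2 this)] at a4
    exact H5c.eq_one_of_sq (p3.pi (by norm_num)) a4.symm

open DihedralGroup in
theorem s2873 (hp : p.Prime) (h2 : p ≠ 2) (f : G →* DihedralGroup p) (hf : Function.Surjective f) (pQ : PGrp 2 f.ker)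
    (hR : Syl p R ⊤) (hC : f.ker ⊓ C(R) = ⊥) : Nonempty (N(R) ≃* DihedralGroup p) ∧ ∀ a ∈ N(R), orderOf a = 2 →
      (∀ b : G, orderOf b = 2 → b ∉ f.ker → ∃ g : G, g * a * g⁻¹ = b) ∧ #(f.ker ⊓ C[a]) ^ 2 = #f.ker := by
  haveI := Fact.mk hp
  have t0 : (2 : ZMod p) ≠ 0 := fun e => h2 ((Nat.prime_dvd_prime_iff_eq hp Nat.prime_two).1 ((ZMod.natCast_eq_zero_iff 2 p).1 e))
  have pr : ∀ i : ZMod p, PiElt {p} (r i) := fun i => pElt_of_pow_eq_one hp (by rw [r_pow, ZMod.natCast_self, mul_zero]; rfl)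
  have n1 : ⟪(r 1 : DihedralGroup p)⟫ ⊴ ⊤ := ⟨le_top, fun g _ => H3.mem_nrm_zpowers (by
    rcases g with i | i
    · simp
    · have : sr i * r 1 * (sr i)⁻¹ = (r 1)⁻¹ := by simp
      rw [this]; exact inv_mem (mem_zpowers _))⟩
  have e1 : R.map f = ⟪r 1⟫ := by
    have := hR.map f
    rw [map_top_of_surjective f hf] at this
    refine (syl_of_not_dvd le_top (pr 1).zpowers ?_).uniq_of_nml n1.nrm this
    rw [H3.relIndex_of_card_mul (n := 2) le_top (by rw [card_zpowers', orderOf_r_one, card_top', nat_card])]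
    exact mt (Nat.prime_dvd_prime_iff_eq hp Nat.prime_two).1 h2
  have nQ : ∀ X : Subgroup G, X ≤ N(f.ker) := fun X => le_top.trans (nml_top_iff.2 inferInstance).nrm
  have i1 : f.ker ⊓ R = ⊥ := (pQ.cop_of_ne hR.pi h2.symm).inf
  have cR : #R = p := by
    have := card_inf_mul_relIndex f.ker R
    rwa [i1, card_bot', one_mul, ← card_map_eq, e1, card_zpowers', orderOf_r_one, eq_comm] at this
  have i2 : f.ker ⊓ N(R) = ⊥ := eq_bot_of_le (le_inf inf_le_left (comm_eq_bot.1 (eq_bot_of_le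
    (le_inf ((commSS inf_le_left le_rfl).trans (comm_le_left (nQ R))) (comm_le_right inf_le_right)) i1))) hC
  have e2 : N(R).map f = ⊤ := by
    have nK : (R.map f).comap f ⊴ ⊤ := by rw [e1, ← comap_top f]; exact n1.comap f
    have := ((hR.subl (le_comap_map f R) le_top).frattini nK).sup
    rw [comap_map_eq, top_inf_eq, sup_comm R, sup_assoc, sup_eq_right.2 (le_nrm R)] at this
    rw [← map_top_of_surjective f hf, ← this, Subgroup.map_sup, (Subgroup.map_eq_bot_iff _).2 le_rfl, bot_sup_eq]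
  have inj : ∀ x ∈ N(R), ∀ y ∈ N(R), f x = f y → x = y := fun x hx y hy e =>
    inv_mul_eq_one.1 (eq_one_of_mem_inf i2 (by rw [MonoidHom.mem_ker, map_mul, map_inv, e, inv_mul_cancel]) (mul_mem (inv_mem hx) hy))
  refine ⟨⟨MulEquiv.ofBijective (f.comp N(R).subtype) ⟨fun x y e => Subtype.ext (inj _ x.2 _ y.2 e), fun y => ?_⟩⟩, fun a ha oa => ?_⟩
  · obtain ⟨x, hx, rfl⟩ := e2.ge (mem_top y); exact ⟨⟨x, hx⟩, rfl⟩
  have refl : ∀ b : G, orderOf b = 2 → b ∉ f.ker → ∃ i, f b = sr i := fun b ob hb => by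
    have := congrArg f (pow_orderOf_eq_one b)
    rw [ob, map_pow, map_one, sq] at this
    rcases e : f b with i | i
    · rw [e] at this
      have : 2 * i = 0 := by linear_combination r.inj this
      exact absurd (by rw [MonoidHom.mem_ker, e, (mul_eq_zero.1 this).resolve_left t0]; rfl) hb
    · exact ⟨i, rfl⟩
  have key : ∀ w i, f w = r i → i ≠ 0 → ∃ y ∈ ⟪w⟫, ∃ g, ⟪y⟫ = cj g R := fun w i e i0 => by
    obtain ⟨g, -, hg⟩ := hR.syl_subJ (piElt_constt {p} w).zpowers le_top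
    refine ⟨_, constt_mem_zpowers {p} w, g, eq_of_le_prime (by rwa [card_cj, cR]) hg (zpowers_ne_bot' fun e' => i0 ?_)⟩
    have := constt_map f {p} w
    rw [e', map_one, e, (pr i).constt_eq] at this
    exact (r.inj this).symm
  have aQ : a ∉ f.ker := fun e => by simp [eq_one_of_mem_inf i2 e ha] at oa
  obtain ⟨j, hj⟩ := refl a oa aQ
  obtain ⟨x, -, hx⟩ := e2.ge (mem_top (r 1))
  have hj' : f (x * a * x⁻¹) = sr (j - 2) := by rw [map_mul, map_mul, map_inv, hx, hj]; simp; ring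
  have oa' : orderOf (x * a * x⁻¹) = 2 := (orderOf_conj x a).trans oa
  have inv : ∀ u v : G, orderOf u = 2 → orderOf v = 2 → u * (u * v) * u⁻¹ = (u * v)⁻¹ := fun u v ou ov => by
    have a1 : u * u = 1 := by rw [← sq, ← ou, pow_orderOf_eq_one]
    have a2 : v * v = 1 := by rw [← sq, ← ov, pow_orderOf_eq_one]
    rw [← mul_assoc, a1, one_mul, mul_inv_rev, inv_eq_of_mul_eq_one_right a2]
  have fpf : ∀ w i, f w = r i → i ≠ 0 → f.ker ⊓ C[w] = ⊥ := fun w i e i0 => by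
    obtain ⟨y, hy, g, hg⟩ := key w i e i0
    refine eq_bot_of_le (inf_le_inf_left _ (cen1_le_cen1_of_mem_zpowers hy)) ?_
    rw [← cen_zpowers, hg, ← cj_cen, ← cj_of_mem_nrm (nQ ⊤ (mem_top g)), ← cj_inf, hC, cj_bot]
  refine ⟨fun b ob hb => ?_, ?_⟩
  · obtain ⟨i, hi⟩ := refl b ob hb
    obtain ⟨v, k, ov, hv, hk⟩ : ∃ v k, orderOf v = 2 ∧ f v = sr k ∧ k - i ≠ 0 := by
      by_cases e : j - i = 0
      · exact ⟨_, _, oa', hj', fun e' => t0 (by linear_combination e - e')⟩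
      · exact ⟨a, j, oa, hj, e⟩
    obtain ⟨y, hy, g, hg⟩ := key (b * v) (k - i) (by rw [map_mul, hi, hv, sr_mul_sr]) hk
    have h1 : b ∈ N(⟪y⟫) := (cyc_zpowers (b * v)).norms_sub (zpowers_le.2 hy) le_rfl
      (cj_eq_self.1 (by rw [cj_zpowers, inv b v ob ov, zpowers_inv]))
    rw [hg, ← cj_nrm, mem_cj] at h1
    obtain ⟨m, hm⟩ := refl (g⁻¹ * b * g) (by have := orderOf_conj g⁻¹ b; rwa [inv_inv, ob] at this)
      fun e => hb (by have := conj_mem (nQ ⊤ (mem_top g)) e; rwa [show g * (g⁻¹ * b * g) * g⁻¹ = b by group] at this)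
    obtain ⟨c, hc, e⟩ := e2.ge (mem_top (r ((j - m) / 2)))
    refine ⟨g * c, ?_⟩
    have := inj _ (conj_mem (le_nrm _ hc) ha) _ h1 (by
      rw [map_mul, map_mul, map_inv, e, hj, hm]; simp only [inv_r, r_mul_sr, sr_mul_r, sr.injEq]; field_simp; ring)
    calc _ = g * (c * a * c⁻¹) * g⁻¹ := by group
      _ = _ := by rw [this]; group
  · have e3 : f (a * (x * a * x⁻¹)) = r (j - 2 - j) := by rw [map_mul, hj, hj', sr_mul_sr]
    have e4 : j - 2 - j ≠ 0 := fun e => t0 (by linear_combination -e)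
    have e5 : f.ker ⊓ C[x * a * x⁻¹] = cj x (f.ker ⊓ C[a]) := by rw [cj_inf, cj_cen1, cj_of_mem_nrm (nQ ⊤ (mem_top x))]
    have c1 := card_mul_le (inf_le_left : f.ker ⊓ C[a] ≤ _) (inf_le_left : f.ker ⊓ C[x * a * x⁻¹] ≤ _)
    rw [eq_bot_of_le (A := (f.ker ⊓ C[a]) ⊓ (f.ker ⊓ C[x * a * x⁻¹])) (le_inf (inf_le_left.trans inf_le_left) fun y hy => cen1_comm.1 (mul_mem (cen1_comm.1 hy.1.2) (cen1_comm.1 hy.2.2)))
      (fpf _ _ e3 e4), card_bot', mul_one, e5, card_cj] at c1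
    have c2 := card_inf_mul_relIndex C[a] f.ker
    have c3 := card_inf_mul_relIndex C[x * a * x⁻¹] f.ker
    rw [inf_comm] at c2 c3
    rw [e5, card_cj, ← c2, Nat.mul_right_inj (FT.card_pos _).ne'] at c3
    have fc : ∀ {u : G} {y : G}, (∃ k ∈ f.ker, y = k * u * k⁻¹) → f y = f u ∧ orderOf y = orderOf u := by
      rintro u _ ⟨k, hk, rfl⟩
      exact ⟨by rw [map_mul, map_mul, map_inv, (MonoidHom.mem_ker).1 hk]; group, orderOf_conj _ _⟩
    have c4 := Nat.card_le_card_of_injective (fun y : {y | ∃ k ∈ f.ker, y = k * a * k⁻¹} ×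
      {y | ∃ k ∈ f.ker, y = k * (x * a * x⁻¹) * k⁻¹} => (⟨y.1 * y.2 * (a * (x * a * x⁻¹))⁻¹, by
        rw [MonoidHom.mem_ker, map_mul, map_mul, map_inv, map_mul, (fc y.1.2).1, (fc y.2.2).1, mul_inv_cancel]⟩ : f.ker)) (by
      rintro ⟨u, v⟩ ⟨u', v'⟩ e
      have e6 : (u : G) * v = u' * v' := mul_right_cancel (congrArg Subtype.val e)
      have a1 := inv u v ((fc u.2).2.trans oa) ((fc v.2).2.trans oa')
      have a2 := inv u' v' ((fc u'.2).2.trans oa) ((fc v'.2).2.trans oa')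
      rw [← e6, ← a1] at a2
      have e7 : (u : G) = u' := inv_mul_eq_one.1 (eq_one_of_mem_inf (fpf (u * v) _ (by rw [map_mul, (fc u.2).1, (fc v.2).1, ← map_mul, e3]) e4)
        (by rw [MonoidHom.mem_ker, map_mul, map_inv, (fc u.2).1, (fc u'.2).1, inv_mul_cancel]) (mem_cen1.2 (by
          calc _ = (u : G)⁻¹ * (u' * (u * v) * (u' : G)⁻¹) * u' := by group
            _ = _ := by rw [a2]; group)))
      rw [e7] at e6
      exact Prod.ext (Subtype.ext e7) (Subtype.ext (mul_left_cancel e6)))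
    rw [Nat.card_prod, H1.card_cls, H1.card_cls, c3, ← c2] at c4
    refine le_antisymm (sq (#(f.ker ⊓ C[a])) ▸ c1) ?_
    rw [← c2, sq]
    exact Nat.mul_le_mul_left _ (Nat.le_of_mul_le_mul_right c4 (relIndex_pos _ _))

end Cfsg.Agent.GO
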