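import Cfsg.Agent.GW.U3
import Cfsg.Agent.H13.GalF

/-! Automorphisms of the Sylow 2-subgroup of the three-dimensional unitary group in characteristic two. -/

set_option autoImplicit false
set_option linter.unusedSectionVars false
set_option linter.unusedVariables false

namespace Cfsg.Agent.GO

open Cfsg Subgroup Cfsg.Agent.FT Cfsg.Agent.GW
open scoped commutatorElement

universe u

open H11 H18
open scoped MatrixGroups

variable {F : Type*} [Field F] [CharP F 2] {σ : F →+* F} {q : ℕ}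

theorem semi (hq : QConj σ q) (τ : F →+ F) (hτ : Function.Injective τ) (ρ : F → F) (h1 : τ 1 = 1)
    (ha : ∀ a b, σ a = a → σ b = b → ρ (a + b) = ρ a + ρ b) (h0 : ∀ a, σ a = a → ρ a = 0 → a = 0)
    (hN : ∀ a, τ a * σ (τ a) = ρ (a * σ a)) : (∀ a b, τ (a * b) = τ a * τ b) ∧ ∀ k, σ k = k → ρ k = τ k := by
  have t : (2 : F) = 0 := CharTwo.two_eq_zero
  have i := hq.invol
  have hB : ∀ a b, τ a * σ (τ b) + τ b * σ (τ a) = ρ (a * σ b + b * σ a) := fun a b => by
    have e := hN (a + b)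
    rw [show (a + b) * σ (a + b) = a * σ a + (b * σ b + (a * σ b + b * σ a)) by rw [map_add]; ring,
      ha _ _ (by simp [i, mul_comm]) (by simp [i, mul_comm, add_comm]),
      ha _ _ (by simp [i, mul_comm]) (by simp [i, mul_comm, add_comm]), ← hN, ← hN, map_add, map_add] at e
    linear_combination e
  have r0 : ρ 0 = 0 := by simpa using (hN 0).symm
  have r1 : ρ 1 = 1 := by simpa [h1] using (hN 1).symm
  have n0 : ∀ a, a ≠ 0 → τ a ≠ 0 := fun a h e => h (hτ (e.trans (map_zero τ).symm))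
  have f1 : ∀ k a, σ k = k → a ≠ 0 → σ (τ (k * a) / τ a) = τ (k * a) / τ a := fun k a hk h => by
    have e := hB a (k * a)
    rw [show a * σ (k * a) + k * a * σ a = 0 by rw [map_mul, hk]; linear_combination k * a * σ a * t, r0] at e
    rw [map_div₀, div_eq_div_iff ((map_ne_zero σ).2 (n0 a h)) (n0 a h)]
    linear_combination e - τ (k * a) * σ (τ a) * t
  have f2 : ∀ k a b, σ k = k → a * σ b + b * σ a ≠ 0 → τ (k * a) / τ a = τ (k * b) / τ b := fun k a b hk h => by
    have a0 : a ≠ 0 := by rintro rfl; simp at h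
    have b0 : b ≠ 0 := by rintro rfl; simp at h
    have e1 := hB (k * a) b
    have e2 := hB a (k * b)
    rw [show a * σ (k * b) + k * b * σ a = k * a * σ b + b * σ (k * a) by rw [map_mul, map_mul, hk]; ring, ← e1,
      ← div_mul_cancel₀ (τ (k * a)) (n0 a a0), ← div_mul_cancel₀ (τ (k * b)) (n0 b b0), map_mul σ, map_mul σ,
      f1 k a hk a0, f1 k b hk b0] at e2
    refine mul_right_cancel₀ (b := τ a * σ (τ b) + τ b * σ (τ a)) (fun e => h (h0 _ (by simp [i, mul_comm, add_comm])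
      (hB a b ▸ e))) ?_
    linear_combination -e2
  obtain ⟨ω, hω⟩ := exists_trace_eq hq.ne_id i (map_one σ)
  have f3 : ∀ k a, σ k = k → τ (k * a) = τ k * τ a := fun k a hk => by
    by_cases a0 : a = 0
    · simp [a0]
    have g : ∀ a, a + σ a ≠ 0 → τ (k * a) / τ a = τ k := fun a h => by
      simpa [h1] using f2 k a 1 hk (by simpa using h)
    rw [← div_eq_iff (n0 a a0)]
    by_cases c : a + σ a = 0
    · rw [f2 k a ω hk, g ω (hω ▸ one_ne_zero)]
      rwa [show a * σ ω + ω * σ a = a by linear_combination a * hω + ω * c - a * ω * t]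
    exact g a c
  have f4 : ∀ k, σ k = k → σ (τ k) = τ k := fun k hk => by
    simpa [h1] using f1 k 1 hk one_ne_zero
  have f5 : τ ω + σ (τ ω) = 1 := by simpa [h1, hω, r1] using hB ω 1
  have f6 : ∀ k, σ k = k → ρ k = τ k := fun k hk => by
    have := hB k ω
    rw [hk, f4 k hk, show k * σ ω + ω * k = k by linear_combination k * hω] at this
    linear_combination τ k * f5 - this
  have f7 : ∀ a, ∃ k l, σ k = k ∧ σ l = l ∧ a = k + l * ω := fun a => ⟨a + (a + σ a) * ω, a + σ a, by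
    simp only [map_add, map_mul, i]; linear_combination (a + σ a) * hω + (σ a - ω * (a + σ a)) * t,
      by simp [i, add_comm], by linear_combination -(a + σ a) * ω * t⟩
  have f8 : τ (ω * ω) = τ ω * τ ω := by
    rw [show ω * ω = ω + ω * σ ω by linear_combination ω * hω - ω * σ ω * t, map_add,
      ← f6 (ω * σ ω) (by simp [i, mul_comm]), ← hN]
    linear_combination τ ω * f5 + (τ ω - τ ω * τ ω) * t
  have f9 : ∀ a, τ (a * ω) = τ a * τ ω := fun a => by
    obtain ⟨k, l, hk, hl, rfl⟩ := f7 a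
    rw [add_mul, mul_assoc, map_add, map_add, f3 _ _ hk, f3 _ _ hl, f3 _ _ hl, f8]; ring
  refine ⟨fun a b => ?_, f6⟩
  obtain ⟨k, l, hk, hl, rfl⟩ := f7 b
  rw [show a * (k + l * ω) = k * a + l * (a * ω) by ring, map_add, map_add, f3 _ _ hk, f3 _ _ hl, f3 _ _ hl, f9]; ring

/-- coordinates for a Sylow `2`-subgroup of `SU₃` -/
structure UH {X : Type*} [Group X] (σ : F →+* F) (cx cy : X → F) : Prop where
  ext : ∀ g h, cx g = cx h → cy g = cy h → g = h
  rel : ∀ g, cy g + σ (cy g) = cx g * σ (cx g)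
  surj : ∀ x y, y + σ y = x * σ x → ∃ g, cx g = x ∧ cy g = y
  mx : ∀ g h, cx (g * h) = cx g + cx h
  my : ∀ g h, cy (g * h) = cy g + cy h + cx g * σ (cx h)

theorem uh_model (hσ : ∀ a, σ (σ a) = a) : UH (X := U0 hσ) σ (fun g => g.1.1 0 1) (fun g => g.1.1 0 2) := by
  refine ⟨?_, ?_, fun x y h => ⟨⟨_, x, y, h, rfl⟩, rfl, rfl⟩, ?_, ?_⟩
  · rintro ⟨_, x, y, h, rfl⟩ ⟨_, x', y', h', rfl⟩ e1 e2
    exact Subtype.ext (uMat_inj.2 ⟨e1, e2⟩)
  · rintro ⟨_, x, y, h, rfl⟩
    exact h
  · rintro ⟨_, x, y, h, rfl⟩ ⟨_, x', y', h', rfl⟩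
    exact congrArg (fun m : SL(3, F) => m.1 0 1) (uMat_mul x y x' y')
  · rintro ⟨_, x, y, h, rfl⟩ ⟨_, x', y', h', rfl⟩
    exact congrArg (fun m : SL(3, F) => m.1 0 2) (uMat_mul x y x' y')

namespace UH

variable {X : Type*} [Group X] {cx cy : X → F} (h : UH σ cx cy) {g k : X}
include h

theorem congr {Y : Type*} [Group Y] (e : Y ≃* X) : UH σ (cx ∘ e) (cy ∘ e) :=
  ⟨fun a b h1 h2 => e.injective (h.ext _ _ h1 h2), fun g => h.rel _, fun x y k =>
    let ⟨g, k⟩ := h.surj x y k; ⟨e.symm g, by simpa using k⟩, fun a b => by simp [h.mx], fun a b => by simp [h.my]⟩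

theorem x1 : cx 1 = 0 := by simpa using h.mx 1 1

theorem y1 : cy 1 = 0 := by simpa [h.x1] using h.my 1 1

theorem xi (g : X) : cx g⁻¹ = cx g := by
  have := h.mx g⁻¹ g
  rw [inv_mul_cancel, h.x1, eq_comm, add_eq_zero_iff_eq_neg, CharTwo.neg_eq] at this
  exact this

theorem x2 (g : X) : cx (g * g) = 0 := by rw [h.mx, CharTwo.add_self_eq_zero]

theorem y2 (g : X) : cy (g * g) = cx g * σ (cx g) := by rw [h.my, CharTwo.add_self_eq_zero, zero_add]

theorem sq_iff : g * g = 1 ↔ cx g = 0 :=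
  ⟨fun e => by simpa [e, h.y1] using h.y2 g, fun e => h.ext _ _ (by rw [h.x2, h.x1]) (by rw [h.y2, h.y1, e, zero_mul])⟩

theorem fix (e : cx g = 0) : σ (cy g) = cy g := by
  have := h.rel g
  rwa [e, zero_mul, add_comm, add_eq_zero_iff_eq_neg, CharTwo.neg_eq] at this

theorem cen (e : cx g = 0) : g ∈ center X := mem_center_iff.2 fun k =>
  h.ext _ _ (by rw [h.mx, h.mx, add_comm]) (by simp [h.my, e, add_comm])

theorem exz {c : F} (e : σ c = c) : ∃ g, cx g = 0 ∧ cy g = c := h.surj 0 c (by simp [e, CharTwo.add_self_eq_zero])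

theorem exx (hq : QConj σ q) (x : F) : ∃ g, cx g = x :=
  let ⟨y, e⟩ := exists_trace_eq hq.ne_id hq.invol (a := x * σ x) (by simp [hq.invol, mul_comm])
  let ⟨g, k, _⟩ := h.surj x y e; ⟨g, k⟩

theorem mem_cen (hq : QConj σ q) : g ∈ center X ↔ cx g = 0 := ⟨fun e => by_contra fun c => by
  obtain ⟨ω, hω⟩ := exists_trace_eq hq.ne_id hq.invol (map_one σ)
  obtain ⟨k, e1⟩ := h.exx hq (cx g * ω)
  have := congrArg cy (mem_center_iff.1 e k)
  rw [h.my, h.my, e1, map_mul] at this
  have t : (2 : F) = 0 := CharTwo.two_eq_zero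
  refine mul_ne_zero c ((map_ne_zero σ).2 c) ?_
  linear_combination this - cx g * σ (cx g) * hω + cx g * σ (cx g) * σ ω * t, h.cen⟩

theorem ax (α : MulAut X) : cx (α g) = 0 ↔ cx g = 0 := by rw [← h.sq_iff, ← h.sq_iff, ← map_mul, map_eq_one_iff α α.injective]

theorem aut (hq : QConj σ q) (α : MulAut X) : ∃ c : F, c ≠ 0 ∧ ∃ φ : F ≃+* F, (∀ g, cx (α g) = c * φ (cx g)) ∧
    ∀ g, cx g = 0 → cy (α g) = c * σ c * φ (cy g) := by
  classical
  have := hq.finite
  choose s hs using h.exx hq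
  have e1 : ∀ g k, cx (α g) = cx (α k) ↔ cx g = cx k := fun g k => by
    have := h.ax (g := g * k) α
    rwa [map_mul, h.mx, h.mx, add_eq_zero_iff_eq_neg, add_eq_zero_iff_eq_neg, CharTwo.neg_eq, CharTwo.neg_eq] at this
  have c0 : cx (α (s 1)) ≠ 0 := by rw [Ne, h.ax, hs]; exact one_ne_zero
  set c := cx (α (s 1))
  have c1 := mul_ne_zero c0 ((map_ne_zero σ).2 c0)
  let τ : F →+ F := AddMonoidHom.mk' (fun x => cx (α (s x)) / c) fun a b => by
    rw [← add_div, ← h.mx, ← map_mul, (e1 _ (s a * s b)).2 (by rw [hs, h.mx, hs, hs])]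
  have e2 : ∀ g, cx (α g) = c * τ (cx g) := fun g => by
    rw [← (e1 _ _).2 (hs _)]; exact (mul_div_cancel₀ _ c0).symm
  have hτ : Function.Injective τ := fun a b e => by
    rw [← hs a, ← hs b, ← e1, e2, e2, hs, hs, e]
  let ρ : F → F := fun y => if e : σ y = y then cy (α (h.exz e).choose) / (c * σ c) else 0
  have e3 : ∀ g, cx g = 0 → cy (α g) = c * σ c * ρ (cy g) := fun g e => by
    have := (h.exz (h.fix e)).choose_spec
    simp only [ρ, dif_pos (h.fix e)]
    rw [h.ext _ _ (this.1.trans e.symm) this.2, mul_div_cancel₀ _ c1]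
  obtain ⟨m, r⟩ := semi hq τ hτ ρ (div_self c0) (fun a b ha hb => by
      obtain ⟨g, k1, rfl⟩ := h.exz ha
      obtain ⟨k, k2, rfl⟩ := h.exz hb
      have := e3 (g * k) (by simp [h.mx, k1, k2])
      rw [map_mul, h.my, h.my, (h.ax α).2 k1, k1, e3 g k1, e3 k k2, zero_mul, zero_mul, add_zero, add_zero] at this
      exact mul_left_cancel₀ c1 (by rw [← this, mul_add]))
    (fun a ha e => by
      obtain ⟨g, k1, rfl⟩ := h.exz ha
      have := h.ext (α g) 1 (by rw [(h.ax α).2 k1, h.x1]) (by rw [e3 g k1, e, mul_zero, h.y1])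
      rw [(map_eq_one_iff α α.injective).1 this, h.y1])
    (fun a => by
      have := e3 _ (h.x2 (s a))
      rw [map_mul, h.y2, h.y2, e2, hs, map_mul] at this
      exact mul_left_cancel₀ c1 (by rw [← this]; ring))
  refine ⟨c, c0, RingEquiv.ofBijective ({ τ with map_one' := div_self c0, map_mul' := m } : F →+* F)
    (Finite.injective_iff_bijective.1 hτ), e2, fun g e => ?_⟩
  rw [e3 g e, r _ (h.fix e)]; rfl

/-- construction of automorphisms -/
theorem lift [Finite X] (a : F ≃+* F) (ha : ∀ x, a (σ x) = σ (a x)) {c : F} (hc : c ≠ 0) (f : F →+ F) (hf : ∀ x, σ (f x) = f x) (i : ∀ x, σ (σ x) = x) :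
    ∃ α : MulAut X, ∀ g, cx (α g) = c * a (cx g) ∧ cy (α g) = c * σ c * a (cy g) + f (cx g) := by
  have t : (2 : F) = 0 := CharTwo.two_eq_zero
  choose s hs using fun g => h.surj (c * a (cx g)) (c * σ c * a (cy g) + f (cx g)) (by
    have := congrArg a (h.rel g)
    simp only [map_add, map_mul, ha] at this
    simp only [map_add, map_mul, hf, i]
    linear_combination c * σ c * this + f (cx g) * t)
  let φ : X →* X := MonoidHom.mk' s fun g k => h.ext _ _
    (by rw [h.mx, (hs _).1, (hs _).1, (hs _).1, h.mx, map_add, mul_add]) (by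
      rw [h.my, (hs _).2, (hs _).2, (hs _).2, (hs _).1, (hs _).1, h.mx, h.my]
      simp only [map_add, map_mul, ha]; ring)
  refine ⟨MulEquiv.ofBijective φ (Finite.injective_iff_bijective.1 fun g k e => ?_), hs⟩
  have e1 := congrArg cx e
  have e2 := congrArg cy e
  change cx (s g) = cx (s k) at e1
  change cy (s g) = cy (s k) at e2
  rw [(hs _).1, (hs _).1, mul_right_inj' hc, a.injective.eq_iff] at e1
  rw [(hs _).2, (hs _).2, e1, add_left_inj, mul_right_inj' (mul_ne_zero hc ((map_ne_zero σ).2 hc)),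
    a.injective.eq_iff] at e2
  exact h.ext _ _ e1 e2

/-- an automorphism whose square is trivial modulo the centre fixes the centre -/
theorem fix_cen (hq : QConj σ q) (α : MulAut X) (h2 : ∀ g, cx (α (α g)) = cx g) (e : cx g = 0) : α g = g := by
  have := hq.finite
  obtain ⟨c, c0, φ, e1, e2⟩ := h.aut hq α
  have k : ∀ x, c * φ c * φ (φ x) = x := fun x => by
    obtain ⟨g, rfl⟩ := h.exx hq x
    rw [mul_assoc, ← map_mul, ← e1, ← e1, h2]
  have k1 : c * φ c = 1 := by simpa using k 1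
  have k2 : φ * φ = 1 := RingEquiv.ext fun x => by simpa [k1] using k x
  have k3 : ∀ y, σ y = y → φ y = y := fun y hy => by
    by_cases c : φ = 1
    · rw [c]; rfl
    let ψ : F ≃+* F := RingEquiv.ofRingHom σ σ (RingHom.ext hq.invol) (RingHom.ext hq.invol)
    haveI : Finite (F ≃+* F) := Finite.of_injective (fun ρ : F ≃+* F => (ρ : F → F)) DFunLike.coe_injective
    haveI := H13.ringAut_cyc (K := F)
    rw [Cyc.invo_eq (T := ⊤) inferInstance (mem_top φ) (mem_top ψ) (invo_of k2 c) (invo_of (RingEquiv.ext hq.invol)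
      fun e => hq.ne_id (RingHom.ext fun a => congrArg (fun ρ : F ≃+* F => ρ a) e))]
    exact hy
  have k4 : c * σ c = 1 := by
    have h1 := k3 (c * σ c) (by simp [hq.invol, mul_comm])
    have h3 := congrArg σ k1
    rw [map_mul, map_one, hq.eq (φ c), ← map_pow, ← hq.eq] at h3
    rw [map_mul] at h1
    have : (c * σ c) ^ 2 = 1 ^ 2 := by linear_combination (σ c * φ (σ c)) * k1 + h3 - c * σ c * h1
    exact CharTwo.sq_injective this
  exact h.ext _ _ (((h.ax α).2 e).trans e.symm) (by rw [e2 g e, k4, one_mul, k3 _ (h.fix e)])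

omit h in
/-- the automorphisms that are trivial modulo the centre -/
def Kx (cx : X → F) : Subgroup (MulAut X) where
  carrier := {α | ∀ g, cx (α g) = cx g}
  one_mem' := fun _ => rfl
  mul_mem' := fun ha hb g => (ha _).trans (hb g)
  inv_mem' := fun {a} ha g => (ha _).symm.trans (by simp)

theorem kx_el (hq : QConj σ q) : IsElementaryAbelian 2 (Kx cx) := by
  have k : ∀ α ∈ Kx cx, ∀ β ∈ Kx cx, ∀ g, α (β g) = α g * (g⁻¹ * β g) := fun α ha β hb g => by
    rw [← h.fix_cen hq α (fun g => (ha _).trans (ha g)) (g := g⁻¹ * β g)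
      (by rw [h.mx, h.xi, hb, CharTwo.add_self_eq_zero]), ← map_mul, mul_inv_cancel_left]
  have z : ∀ α ∈ Kx cx, ∀ g, cx (g⁻¹ * α g) = 0 := fun α ha g => by rw [h.mx, h.xi, ha, CharTwo.add_self_eq_zero]
  refine ⟨⟨⟨fun a b => Subtype.ext (MulEquiv.ext fun g => ?_)⟩⟩, fun a ha => MulEquiv.ext fun g => ?_⟩
  · change a.1 (b.1 g) = b.1 (a.1 g)
    rw [k _ a.2 _ b.2, k _ b.2 _ a.2, ← mul_inv_cancel_left g (a.1 g), mul_assoc, ← mem_center_iff.1 (h.cen (z _ a.2 g))]
    group
  · change a (a g) = g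
    rw [k _ ha _ ha, ← mul_right_inj g⁻¹, ← mul_assoc, h.sq_iff.2 (z a ha g), inv_mul_cancel]

theorem kx_eq (hq : QConj σ q) [Finite X] : pCore 2 (MulAut X) = Kx cx := by
  haveI := Fact.mk Nat.prime_two
  haveI : (Kx cx).Normal := ⟨fun α ha β g => by
    obtain ⟨c, -, φ, e, -⟩ := h.aut hq β
    rw [MulAut.mul_apply, MulAut.mul_apply, e, ha, ← e]; simp⟩
  refine le_antisymm (fun α ha => ?_) (H2.le_pCore fun a => ⟨1, Subtype.ext ((h.kx_el hq).2 a a.2)⟩)
  have sc : ∀ γ ∈ pCore 2 (MulAut X), ∀ u, (∀ g, cx (γ g) = u * cx g) → u = 1 := fun γ hγ u e => by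
    obtain ⟨k, hk⟩ := H2.pCore_isPGroup (p := 2) ⟨γ, hγ⟩
    have e1 : ∀ m : ℕ, ∀ g, cx ((γ ^ m) g) = u ^ m * cx g := fun m => by
      induction m with
      | zero => simp
      | succ m ih => intro g; rw [pow_succ', MulAut.mul_apply, e, ih, pow_succ', mul_assoc]
    obtain ⟨g, hg⟩ := h.exx hq 1
    have := e1 (2 ^ k) g
    rw [show γ ^ 2 ^ k = 1 from congrArg Subtype.val hk, MulAut.one_apply, hg, mul_one] at this
    exact (iterateFrobenius F 2 k).injective (by simpa [iterateFrobenius_def] using this.symm)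
  obtain ⟨c, c0, φ, e, -⟩ := h.aut hq α
  have e1 : ∀ d, φ d = d := fun d => by
    by_cases d0 : d = 0
    · simp [d0]
    obtain ⟨m, hm⟩ := h.lift (RingEquiv.refl F) (fun _ => rfl) d0 0 (by simp) hq.invol
    refine (div_eq_one_iff_eq d0).1 (sc (α * (m * α⁻¹ * m⁻¹)) (mul_mem ha
      (Normal.conj_mem (normal_of_characteristic _ (h := H2.pCore_characteristic)) _ (inv_mem ha) m)) _ fun g => ?_)
    obtain ⟨g, rfl⟩ := m.surjective g
    obtain ⟨g, rfl⟩ := α.surjective g
    simp [e, (hm _).1]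
    field_simp
  intro g
  rw [e, e1, sc α ha c fun g => by rw [e, e1], one_mul]

theorem card_kx (hq : QConj σ q) [Finite X] {n : ℕ} (hn : q = 2 ^ n) : Nat.card (Kx cx) = 2 ^ (2 * n ^ 2) := by
  have := hq.finite
  have t : (2 : F) = 0 := CharTwo.two_eq_zero
  haveI := Fact.mk Nat.prime_two
  let L := σ.eqLocusField (RingHom.id F)
  choose s hs using h.exx hq
  choose Ψ hΨ using fun f : F →+ L => h.lift (RingEquiv.refl F) (fun _ => rfl) one_ne_zero
    (L.subtype.toAddMonoidHom.comp f) (fun x => (f x).2) hq.invol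
  rw [← Nat.card_congr (Equiv.ofBijective (fun f => (⟨Ψ f, fun g => by simpa using (hΨ f g).1⟩ : Kx cx))
    ⟨fun f f' e => AddMonoidHom.ext fun x => ?_, fun α => ?_⟩)]
  · letI := ZMod.algebra F 2
    letI := ZMod.algebra L 2
    have r : ∀ (V : Type _) [AddCommGroup V] [Module (ZMod 2) V] [Finite V] (m : ℕ), Nat.card V = 2 ^ m →
        Module.finrank (ZMod 2) V = m := fun V _ _ _ m e => by
      rw [Module.natCard_eq_pow_finrank (K := ZMod 2), Nat.card_zmod] at e
      exact Nat.pow_right_injective le_rfl e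
    rw [Nat.card_congr (AddMonoidHom.toZModLinearMapEquiv 2).toEquiv, Module.natCard_eq_pow_finrank (K := ZMod 2),
      Module.finrank_linearMap, r F (n * 2) (by rw [hq.card, hn, pow_mul]), r L n (hq.card_fixed.trans hn), Nat.card_zmod]
    congr 1; ring
  · have e1 := (hΨ f (s x)).2
    rw [show Ψ f = Ψ f' from congrArg Subtype.val e, (hΨ f' _).2, add_right_inj, hs] at e1
    exact Subtype.ext e1.symm
  have d1 : ∀ g k, cy (α.1 (g * k)) + cy (g * k) = cy (α.1 g) + cy g + (cy (α.1 k) + cy k) := fun g k => by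
    rw [map_mul, h.my, h.my, α.2, α.2]; linear_combination cx g * σ (cx k) * t
  have d2 : ∀ g k, cx g = cx k → cy (α.1 g) + cy g = cy (α.1 k) + cy k := fun g k e => by
    rw [← mul_inv_cancel_left k g, d1, h.fix_cen hq α.1 (fun g => (α.2 _).trans (α.2 g)) (g := k⁻¹ * g)
      (by rw [h.mx, h.xi, e, CharTwo.add_self_eq_zero]), CharTwo.add_self_eq_zero, add_zero]
  refine ⟨AddMonoidHom.mk' (fun x => ⟨cy (α.1 (s x)) + cy (s x), ?_⟩) fun a b => Subtype.ext ?_,
    Subtype.ext (MulEquiv.ext fun g => h.ext _ _ (by simpa [α.2 g] using (hΨ _ g).1) ?_)⟩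
  · have e1 := h.rel (α.1 (s x))
    have e2 := h.rel (s x)
    rw [α.2] at e1
    change σ _ = (_ + _ : F)
    rw [map_add]
    linear_combination e1 + e2 + (cx (s x) * σ (cx (s x)) - cy (α.1 (s x)) - cy (s x)) * t
  · exact (d2 _ _ (by rw [hs, h.mx, hs, hs])).trans (d1 _ _)
  · rw [(hΨ _ g).2]
    have := d2 _ g (hs _)
    simp only [map_one, one_mul]
    change cy g + (cy (α.1 (s (cx g))) + cy (s (cx g))) = _
    linear_combination this + cy g * t

theorem card_aut (hq : QConj σ q) [Finite X] {n : ℕ} (hn : q = 2 ^ n) :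
    Nat.card (MulAut X) = 2 ^ (2 * n ^ 2) * (2 * n * ((2 ^ n) ^ 2 - 1)) := by
  have := hq.finite
  have := Fintype.ofFinite F
  haveI := Fact.mk Nat.prime_two
  choose Λ hΛ using fun v : (F ≃+* F) × Fˣ => h.lift v.1 (fun x => by rw [hq.eq, hq.eq, map_pow]) v.2.ne_zero 0
    (by simp) hq.invol
  have k : ∀ α β : MulAut X, (α : MulAut X ⧸ Kx cx) = β ↔ ∀ g, cx (α g) = cx (β g) := fun α β => by
    obtain ⟨c, c0, φ, e, -⟩ := h.aut hq α
    rw [QuotientGroup.eq]
    refine forall_congr' fun g => ?_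
    rw [← α.apply_symm_apply (β g), e, e, mul_right_inj' c0, φ.injective.eq_iff, eq_comm]; rfl
  rw [card_eq_card_quotient_mul_card_subgroup (Kx cx), h.card_kx hq hn, mul_comm,
    ← Nat.card_congr (Equiv.ofBijective (fun v => (Λ v : MulAut X ⧸ Kx cx)) ⟨fun v w e => ?_, fun α => ?_⟩),
    Nat.card_prod, Nat.card_units, hq.card, hn, (H13.ringAut_cyc_card (p := 2) (f := 2 * n)
      (by rw [← Nat.card_eq_fintype_card, hq.card, hn, ← pow_mul, mul_comm])).2]
  · have e1 : ∀ x, v.2 * v.1 x = w.2 * w.1 x := fun x => by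
      obtain ⟨g, rfl⟩ := h.exx hq x
      rw [← (hΛ v g).1, ← (hΛ w g).1, (k _ _).1 e]
    have e2 : v.2 = w.2 := Units.ext (by simpa using e1 1)
    exact Prod.ext (RingEquiv.ext fun x => mul_left_cancel₀ v.2.ne_zero (by rw [e1, e2])) e2
  · obtain ⟨α, rfl⟩ := QuotientGroup.mk_surjective α
    obtain ⟨c, c0, φ, e, -⟩ := h.aut hq α
    exact ⟨(φ, Units.mk0 c c0), (k _ _).2 fun g => by rw [e, (hΛ _ g).1]; rfl⟩

end UH

theorem uh_psu {F : Type*} [Field F] [Fintype F] {n : ℕ} (hn : 2 ≤ n) (hF : Fintype.card F = (2 ^ n) ^ 2)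
    {X : Type*} [Group X] (P : Sylow 2 (PSU 3 F (2 ^ n))) (e : X ≃* P) :
    CharP F 2 ∧ ∃ cx cy : X → F, UH (conjQ hF) cx cy := by
  have : Fact (Nat.Prime 2) := ⟨Nat.prime_two⟩
  have hq := H11.qConj_conjQ hF
  have : CharP F 2 := charP_of_card_eq_prime_pow (f := n * 2) (pow_mul 2 n 2 ▸ hF)
  have h := us_model hq (Nat.pow_le_pow_right (n := 2) two_pos hn)
  obtain ⟨ζ, hζ⟩ := H11.exists_trace_eq hq.ne_id hq.invol (map_one _)
  let f1 : U0 hq.invol →* SU 3 F (2 ^ n) :=
    ((MulAut.conj (H18.qMat hζ)).toMonoidHom.comp (U0 hq.invol).subtype).codRestrict _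
      (by rintro ⟨_, x, y, e, rfl⟩; exact H18.conj_uMat_mem hq hζ e)
  have h1 : Function.Injective f1 := fun a b e =>
    Subtype.ext ((MulAut.conj (H18.qMat hζ)).injective (congrArg Subtype.val e))
  have hZ : Nat.card (center (SU 3 F (2 ^ n))) = Nat.gcd 3 (2 ^ n + 1) := by
    rw [H11.card_center_equiv (H11.suEquiv hq 3), (hq.isHerm _).card_center_sisom hq
      (H11.hermB_sep _) (by simp), Module.finrank_fin_fun]
  let f := (QuotientGroup.mk' (center (SU 3 F (2 ^ n)))).comp f1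
  have hf : Function.Injective f := (injective_iff_map_eq_one f).2 fun g e => by
    refine orderOf_eq_one_iff.1 (Nat.eq_one_of_dvd_coprimes
      (((by decide : Nat.Coprime 2 3).pow_left n).pow_left 3) (h.card ▸ orderOf_dvd_natCard g) ?_)
    rw [← orderOf_injective f1 h1]
    exact (orderOf_dvd_natCard _ ((QuotientGroup.eq_one_iff _).1 e)).trans (hZ ▸ Nat.gcd_dvd_left _ _)
  have h2 := h.map f hf
  obtain ⟨Q, hQ⟩ := (IsPGroup.of_card (n := n * 3) (h2.card.trans (pow_mul 2 n 3).symm)).exists_le_sylow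
  obtain ⟨_, h3⟩ := us_psu hn hF Q
  have e1 : f.range = Q := eq_of_le_of_card_ge hQ (h3.card.trans h2.card.symm).le
  exact ⟨this, _, _, (uh_model hq.invol).congr (e.trans ((Sylow.equiv P Q).trans
    ((MulEquiv.subgroupCongr e1.symm).trans (f.ofInjective hf).symm)))⟩

theorem uh_su {F : Type*} [Field F] [Fintype F] {n : ℕ} (hn : 2 ≤ n) (hF : Fintype.card F = (2 ^ n) ^ 2)
    {X : Type*} [Group X] (P : Sylow 2 (SU 3 F (2 ^ n))) (e : X ≃* P) :
    CharP F 2 ∧ ∃ cx cy : X → F, UH (conjQ hF) cx cy := by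
  have : Fact (Nat.Prime 2) := ⟨Nat.prime_two⟩
  have hq := H11.qConj_conjQ hF
  have hZ : Nat.card (center (SU 3 F (2 ^ n))) = Nat.gcd 3 (2 ^ n + 1) := by
    rw [H11.card_center_equiv (H11.suEquiv hq 3), (hq.isHerm _).card_center_sisom hq
      (H11.hermB_sep _) (by simp), Module.finrank_fin_fun]
  let f := (QuotientGroup.mk' (center (SU 3 F (2 ^ n)))).comp P.1.subtype
  have hf : Function.Injective f := (injective_iff_map_eq_one f).2 fun g e => by
    obtain ⟨k, hk⟩ := IsPGroup.iff_orderOf.1 P.2 g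
    refine orderOf_eq_one_iff.1 (Nat.eq_one_of_dvd_coprimes ((by decide : Nat.Coprime 2 3).pow_left k) hk.dvd ?_)
    rw [← orderOf_coe]
    exact (orderOf_dvd_natCard _ ((QuotientGroup.eq_one_iff _).1 e)).trans (hZ ▸ Nat.gcd_dvd_left _ _)
  exact uh_psu hn hF (P.mapSurjective (QuotientGroup.mk'_surjective _)) (e.trans ((f.ofInjective hf).trans
    (MulEquiv.subgroupCongr (by rw [MonoidHom.range_comp, range_subtype]; rfl))))

theorem s3315 {R : Type*} [Group R] (hq : QConj σ q) (S : Subgroup R) {cx cy : S → F} (h : UH σ cx cy)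
    (hi : S.index = 2) : (center S).map S.subtype ≤ center R := by
  rintro _ ⟨z, hz, rfl⟩
  haveI := normal_of_index_eq_two hi
  refine mem_center_iff.2 fun r => mul_inv_eq_iff_eq_mul.1 (congrArg Subtype.val (h.fix_cen hq (MulAut.conjNormal r)
    (fun g => ?_) ((h.mem_cen hq).1 hz)))
  have : MulAut.conjNormal r (MulAut.conjNormal r g) = ⟨_, mul_self_mem_of_index_two hi r⟩ * g *
    (⟨_, mul_self_mem_of_index_two hi r⟩)⁻¹ := Subtype.ext (by simp [mul_assoc])
  rw [this, h.mx, h.mx, h.xi, add_right_comm, CharTwo.add_self_eq_zero, zero_add]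

theorem s3156 {X : Type*} [Group X] [Finite X] {cx cy : X → F} (hq : QConj σ 4) (h : UH σ cx cy)
    (H : Subgroup (MulAut X)) : ¬ Nonempty (H ≃* Equiv.Perm (Fin 3)) := fun ⟨e⟩ => by
  have := hq.finite
  have := Fintype.ofFinite F
  have := Fact.mk Nat.prime_two
  let f := H.subtype.comp e.symm.toMonoidHom
  have hf : Function.Injective f := H.subtype_injective.comp e.symm.injective
  have k : ∀ s, s * s = 1 → ∀ g, cx g = 0 → f s g = g := fun s hs g =>
    h.fix_cen hq _ fun g => by rw [← MulAut.mul_apply, ← map_mul, hs, map_one]; rfl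
  have k1 : ∀ g, cx g = 0 → f (Equiv.swap 0 1 * Equiv.swap 1 2) g = g := fun g hg => by
    rw [map_mul, MulAut.mul_apply, k (Equiv.swap 1 2) (by simp) g hg, k _ (by simp) g hg]
  have k2 : f (Equiv.swap 0 1 * Equiv.swap 1 2) ^ 3 = 1 := by rw [← map_pow, ← map_one f]; exact congrArg f (by decide)
  have k3 : f (Equiv.swap 0 1 * Equiv.swap 1 2) ^ 2 ≠ 1 := by
    rw [← map_pow, Ne, map_eq_one_iff f hf]; decide
  generalize f (Equiv.swap 0 1 * Equiv.swap 1 2) = a at k1 k2 k3
  obtain ⟨c, c0, φ, e1, e2⟩ := h.aut hq a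
  have k4 : ∀ x, c * φ (c * φ (c * φ x)) = x := fun x => by
    obtain ⟨g, rfl⟩ := h.exx hq x
    rw [← e1, ← e1, ← e1]
    exact congrArg (fun b : MulAut X => cx (b g)) k2
  have k5 := k4 1
  have k6 : φ ^ 3 = 1 := RingEquiv.ext fun x => by
    have := k4 x
    simp only [map_mul, map_one, mul_one] at this k5
    change φ (φ (φ x)) = x
    linear_combination this - φ (φ (φ x)) * k5
  have k7 := pow_card_eq_one' (x := φ)
  rw [(H13.ringAut_cyc_card (p := 2) (f := 4) (by rw [← Nat.card_eq_fintype_card, hq.card]; rfl)).2, pow_succ, k6,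
    one_mul] at k7
  subst k7
  obtain ⟨g, g1, g2⟩ := h.exz (map_one σ)
  have k8 := e2 g g1
  rw [k1 g g1, g2, hq.eq] at k8
  simp only [RingAut.one_apply, mul_one] at k5 k8 e1
  have k9 : c = 1 := by linear_combination (c ^ 3 + 1) * k5 + c * k8
  exact k3 ((h.kx_el hq).2 a fun g => by rw [e1, k9, one_mul])

end Cfsg.Agent.GO
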