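import Cfsg.Agent.GW.Fin
import Cfsg.Agent.GW.Pl2
import Cfsg.Agent.GO.App

/-! Simple groups of degree three times a prime, I: involutions with three fixed points. -/

set_option autoImplicit false
set_option linter.unusedSectionVars false
set_option linter.unusedVariables false
set_option linter.style.haveILetI false

namespace Cfsg.Agent.GO

open Cfsg Subgroup Cfsg.Agent.FT Cfsg.Agent.GW
open scoped commutatorElement

universe u

variable {G : Type u} [Group G] [Finite G] {p : ℕ}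
  {A B D E H J K L M P Q R S T U V W X Y Z : Subgroup G} {a b c d e g j m n r s t u v w x y z : G}


open MulAction
open scoped Pointwise

namespace Tp

variable {Ω : Type*} [Finite Ω] [MulAction G Ω] {Δ : Set Ω}

theorem s3a : ∀ τ : Equiv.Perm (Fin 3), Equiv.Perm.sign τ = 1 → τ ^ 3 = 1 := by decide

theorem s3b (τ : Equiv.Perm (Fin 3)) : τ ^ 6 = 1 := by
  simpa [Fintype.card_perm, Nat.factorial] using pow_card_eq_one (x := τ)

theorem exists_sgn (h3 : Δ.ncard = 3) : ∃ D : Subgroup G, D ≤ stabilizer G Δ ∧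
    (∀ x ∈ stabilizer G Δ, ∀ y ∈ stabilizer G Δ, x * y ∈ D ↔ (x ∈ D ↔ y ∈ D)) ∧
    (∀ x ∈ D, ∀ a ∈ Δ, x ^ 3 • a = a) ∧ (∀ x ∈ stabilizer G Δ, (∀ a ∈ Δ, x • a = a) → x ∈ D) ∧
    ∀ x ∈ stabilizer G Δ, ∀ a ∈ Δ, x ^ 6 • a = a := by
  classical
  let e : Δ ≃ Fin 3 := Finite.equivFinOfCardEq h3
  let φ : stabilizer G Δ →* Equiv.Perm (Fin 3) :=
    e.permCongrHom.toMonoidHom.comp (toPermHom (stabilizer G Δ) Δ)
  have h1 : ∀ x : stabilizer G Δ, φ x = 1 ↔ ∀ a ∈ Δ, (x : G) • a = a := fun x => by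
    simp only [φ, MonoidHom.comp_apply, MulEquiv.coe_toMonoidHom, EmbeddingLike.map_eq_one_iff, Equiv.ext_iff,
      Subtype.forall]
    exact forall₂_congr fun a ha => Subtype.ext_iff
  have h2 : ∀ x : stabilizer G Δ, (x : G) ∈ (Equiv.Perm.sign.comp φ).ker.map (stabilizer G Δ).subtype ↔
      Equiv.Perm.sign (φ x) = 1 := fun x => mem_map_iff_mem (subtype_injective _)
  refine ⟨(Equiv.Perm.sign.comp φ).ker.map (stabilizer G Δ).subtype, map_subtype_le _, fun x hx y hy => ?_,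
    ?_, fun x hx h => (h2 ⟨x, hx⟩).2 (by rw [(h1 _).2 h, map_one]),
    fun x hx => (h1 (⟨x, hx⟩ ^ 6)).1 (by rw [map_pow, s3b])⟩
  · rw [h2 ⟨x, hx⟩, h2 ⟨y, hy⟩]
    refine (h2 (⟨x, hx⟩ * ⟨y, hy⟩)).trans ?_
    rw [map_mul, map_mul]
    rcases Int.units_eq_one_or (Equiv.Perm.sign (φ ⟨x, hx⟩)) with a | a <;>
      rcases Int.units_eq_one_or (Equiv.Perm.sign (φ ⟨y, hy⟩)) with b | b <;> rw [a, b] <;> decide
  · rintro _ ⟨x, hx, rfl⟩
    exact (h1 (x ^ 3)).1 (by rw [map_pow, s3a _ hx])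

theorem two_dvd (hs : Invo s) (h1 : ∀ a ∈ Δ, s • a ∈ Δ) (h2 : ∀ a ∈ Δ, s • a ≠ a) : 2 ∣ Δ.ncard :=
  hs.card ▸ PP.card_dvd_of_free ⟪s⟫ Δ (fun g hg a ha => by
    rcases hs.mem_zpowers.1 hg with rfl | rfl
    exacts [by rwa [one_smul], h1 a ha]) fun a ha g hg e =>
      (hs.mem_zpowers.1 hg).resolve_right fun c => h2 a ha (c ▸ e)

theorem odd_fix (ho : Odd (Nat.card Ω)) (hs : Invo s) : Odd (fixedBy Ω s).ncard := by
  have h1 := two_dvd (Δ := (fixedBy Ω s)ᶜ) hs (fun a ha c => ha (smul_mem_fixedBy_iff_mem_fixedBy.1 c)) fun a ha => ha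
  have h2 := Set.ncard_add_ncard_compl (fixedBy Ω s)
  rw [Nat.odd_iff] at ho ⊢
  omega

theorem cen_le : C[z] ≤ stabilizer G (fixedBy Ω z) := fun g hg => by
  rw [mem_stabilizer_iff, smul_fixedBy, mem_cen1.1 hg, mul_inv_cancel_right]

theorem smul_mem (hg : g ∈ stabilizer G Δ) {a : Ω} (ha : a ∈ Δ) : g • a ∈ Δ :=
  mem_stabilizer_iff.1 hg ▸ Set.smul_mem_smul_set ha

theorem fix_of_cop {k : ℕ} {a : Ω} (h : x ^ k • a = a) (hc : (orderOf x).Coprime k) : x • a = a := by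
  obtain ⟨n, hn⟩ := exists_pow_eq_self_of_coprime hc.symm
  rw [← hn]
  exact pow_mem (mem_stabilizer_iff.2 h) n

/-- if commuting involutions have the same fixed points there is a strongly embedded subgroup -/
theorem se_of (h1 : OneCl (⊤ : Subgroup G)) (hf : ∀ i : G, Invo i → (fixedBy Ω i).ncard = 3) (hz : Invo z)
    (hne : stabilizer G (fixedBy Ω z) ≠ ⊤) (h : ∀ t ∈ C[z], Invo t → fixedBy Ω z ⊆ fixedBy Ω t) :
    IsStronglyEmbedded (stabilizer G (fixedBy Ω z)) := by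
  set M := stabilizer G (fixedBy Ω z)
  obtain ⟨S, hS⟩ := exists_syl 2 C[z]
  have hS' := (h1.syl hz trivial (by rwa [top_inf_eq])).subl (hS.le.trans (cen_le (Ω := Ω))) le_top
  have k : ∀ t ∈ M, Invo t → fixedBy Ω t = fixedBy Ω z := fun t ht h2 => by
    obtain ⟨g, hg, e⟩ := hS'.syl_elt ht h2.pElt
    have h3 := Set.eq_of_subset_of_ncard_le (h _ (hS.le e) (h2.conj g)) (by rw [hf _ hz, hf _ (h2.conj g)])
    rw [← smul_fixedBy] at h3
    exact smul_left_cancel g (h3.symm.trans (mem_stabilizer_iff.1 hg).symm)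
  refine ⟨hne, even_iff_two_dvd.2 (hz.two_dvd (cen_le (mem_cen1.2 rfl))), fun g hg => ?_⟩
  by_contra c
  obtain ⟨t, ⟨t1, w, t2, rfl⟩, t3⟩ := exists_invo (Nat.not_odd_iff_even.1 c).two_dvd
  have t4 : Invo (g * w * g⁻¹) := t3
  refine hg (mem_stabilizer_iff.2 ?_)
  rw [← k w t2 (invo_conj.1 t4), smul_fixedBy, k w t2 (invo_conj.1 t4)]
  exact k _ t1 t4

theorem core (h1 : OneCl (⊤ : Subgroup G)) (hf : ∀ i : G, Invo i → (fixedBy Ω i).ncard = 3) (hz : Invo z)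
    (ht : Invo t) (hzt : t ∈ C[z]) (hne : ¬ fixedBy Ω z ⊆ fixedBy Ω t) : ∃ S D : Subgroup G, Syl 2 S ⊤ ∧ S ≤ C[z] ∧
      z ∈ S ∧ t ∈ S ∧ D ≤ C[z] ∧ (∀ x ∈ C[z], ∀ y ∈ C[z], x * y ∈ D ↔ (x ∈ D ↔ y ∈ D)) ∧ z ∈ D ∧ t ∉ D ∧
      #(S ⊓ C[t] : Subgroup G) ≤ 4 ∧ #(S ⊓ D : Subgroup G) ∣ Nat.card Ω - 3 := by
  set Δ := fixedBy Ω z with hΔ
  obtain ⟨D, d1, d2, d3, d4, -⟩ := exists_sgn (G := G) (hf z hz)
  obtain ⟨S, hS, tS⟩ := ht.pGrp.exists_syl (zpowers_le.2 hzt)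
  replace tS := tS (mem_zpowers t)
  have hzz : z ∈ C[z] := mem_cen1.2 rfl
  have zS : z ∈ S := by
    obtain ⟨g, hg, e⟩ := hS.syl_elt hzz hz.pElt
    rwa [mem_cen1.1 hg, mul_inv_cancel_right] at e
  have k1 : ∀ q ∈ D, PiElt {2} q → Δ ⊆ fixedBy Ω q := fun q hq h2 a ha => by
    obtain ⟨n, hn⟩ := (piElt_iff.1 h2).card
    rw [card_zpowers'] at hn
    exact fix_of_cop (d3 q hq a ha) (hn ▸ Nat.Coprime.pow_left n (by norm_num))
  have tD : t ∉ D := fun c => hne (k1 t c ht.pElt)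
  have zD : z ∈ D := d4 z (cen_le hzz) fun a ha => ha
  have k2 : ∀ a ∈ Δᶜ, ∀ q ∈ S ⊓ D, q • a = a → q = 1 := fun a ha q hq e => by
    by_contra c
    have pq := hS.pi.mono (zpowers_le.2 hq.1)
    obtain ⟨w, hw, h2⟩ := exists_invo (pq.dvd (zpowers_ne_bot.2 c))
    refine ha ?_
    rw [Set.eq_of_subset_of_ncard_le (k1 w (zpowers_le.2 hq.2 hw) h2.pElt) (by rw [hf _ hz, hf _ h2])]
    exact zpowers_le.2 (mem_stabilizer_iff.2 e) hw
  have k3 : ∀ g ∈ C[z], ∀ a ∈ Δᶜ, g • a ∈ Δᶜ := fun g hg a ha c => ha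
    (inv_smul_smul g a ▸ smul_mem (inv_mem (cen_le hg)) c)
  refine ⟨S, D ⊓ C[z], h1.syl hz trivial (by rwa [top_inf_eq]), hS.le, zS, tS, inf_le_right, fun x hx y hy => ?_,
    ⟨zD, hzz⟩, fun c => tD c.1, ?_, ?_⟩
  · simpa only [mem_inf, hx, hy, mul_mem hx hy, and_true] using d2 x (cen_le hx) y (cen_le hy)
  · have h2 := PP.card_dvd_of_free (S ⊓ C[t] ⊓ D) (fixedBy Ω t \ Δ)
      (fun g hg a ha => ⟨smul_mem (cen_le hg.1.2) ha.1, k3 g (hS.le hg.1.1) a ha.2⟩)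
      fun a ha g hg => k2 a ha.2 g ⟨hg.1.1, hg.2⟩
    have h3 : (fixedBy Ω t \ Δ).Nonempty := Set.diff_nonempty.2 fun c =>
      hne (Set.eq_of_subset_of_ncard_le c (by rw [hf _ hz, hf _ ht])).ge
    have h4 : (fixedBy Ω t \ Δ).ncard < 3 := by
      rw [← hf t ht]
      refine Set.ncard_lt_ncard ⟨Set.diff_subset, fun c => ?_⟩
      have := two_dvd ht (Δ := Δ) (fun a => smul_mem (cen_le hzt)) fun a ha e => (c e).2 ha
      rw [hf z hz] at this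
      omega
    have h5 := Nat.le_of_dvd ((Set.ncard_pos (Set.toFinite _)).2 h3) h2
    have h6 : D.relIndex (S ⊓ C[t]) = 2 := relIndex_eq_two_iff.2 ⟨t, ⟨tS, mem_cen1.2 rfl⟩, fun b hb => by
      rw [d2 b (cen_le (hS.le hb.1)) t (cen_le hzt)]
      by_cases e : b ∈ D <;> simp [e, tD]⟩
    have h7 := card_mul_relIndex (inf_le_left : S ⊓ C[t] ⊓ D ≤ S ⊓ C[t])
    rw [inf_relIndex_left, h6] at h7
    omega
  · rw [← inf_assoc, inf_of_le_left (inf_le_left.trans hS.le), ← Set.ncard_add_ncard_compl Δ, hf z hz,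
      Nat.add_sub_cancel_left]
    exact PP.card_dvd_of_free _ _ (fun g hg => k3 g (hS.le hg.1)) k2

end Tp

end Cfsg.Agent.GO
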