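import Cfsg.Agent.H7.BR6
import Cfsg.Agent.S0224
import Cfsg.Agent.GO.Tp1

/-! Simple groups of degree three times a prime, II: the Sylow 2-subgroup. -/

set_option autoImplicit false
set_option linter.unusedSectionVars false
set_option linter.unusedVariables false
set_option linter.style.haveILetI false

namespace Cfsg.Agent.GO

open Cfsg Subgroup Cfsg.Agent.FT Cfsg.Agent.GW
open scoped commutatorElement

universe u

variable {G : Type u} [Group G] [Finite G] {p : ℕ}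
  {A B D E H J K L M P Q R S T U V W X Y Z : Subgroup G} {a b c d e g j m n r s t u v w x y z : G}


open MulAction Cfsg.Agent.H24.D1 Cfsg.Agent.H7
open scoped Pointwise

namespace Tp

variable {Ω : Type*} [Finite Ω] [MulAction G Ω] {Δ : Set Ω}

theorem card_P [hp : Fact p.Prime] (hp2 : p ≠ 2) (P : Sylow p G) (hN : #N((P : Subgroup G)) = 2 * p) :
    #(P : Subgroup G) = p := by
  have hd : p ∣ Nat.card G := (dvd_mul_left p 2).trans (hN ▸ card_subgroup_dvd_card _)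
  obtain ⟨k, hk⟩ := P.isPGroup'.exists_card_eq
  have h1 : #(P : Subgroup G) ∣ 2 * p := hN ▸ card_dvd_of_le le_normalizer
  have h2 : k ≠ 0 := fun e => P.ne_bot_of_dvd_card hd (card_eq_one.1 (by rw [hk, e, pow_zero]))
  rw [hk] at h1 ⊢
  have h3 := ((Nat.coprime_primes hp.out Nat.prime_two).2 hp2).pow_left k |>.dvd_of_dvd_mul_left h1
  have h4 := (Nat.pow_dvd_pow_iff_le_right hp.out.one_lt).1 (h3.trans (pow_one p).symm.dvd)
  rw [show k = 1 by omega, pow_one]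

theorem exists_sc [IsSimpleGroup G] (hG : ¬ IsMulCommutative G) [hp : Fact p.Prime] (hp2 : p ≠ 2) (P : Sylow p G)
    (hN : #N((P : Subgroup G)) = 2 * p) : ∃ x : G, H24.D1.SC p x ∧ ⟪x⟫ = (P : Subgroup G) := by
  obtain ⟨x, hx, hxP⟩ := exists_syl1 P (card_P hp2 P hN)
  rw [← hxP] at hN
  refine ⟨x, (SC_of_card hx hN fun e => ?_).1, hxP⟩
  obtain ⟨Q, K, hK, hKQ⟩ := hx.hasNPC e
  have h1 := hKQ.card_mul_card
  have hd : p ∣ Nat.card G := (dvd_mul_left p 2).trans (hN ▸ card_subgroup_dvd_card _)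
  rw [card_sylow_eq hd hx.not_sq_dvd Q] at h1
  rcases hK.eq_bot_or_eq_top with rfl | rfl
  · rw [card_bot, one_mul] at h1
    haveI := isCyclic_of_prime_card h1.symm
    exact hG inferInstance
  · rw [card_top] at h1
    have := hp.out.one_lt
    have : 0 < Nat.card G := Nat.card_pos
    nlinarith

theorem not_dvd [hp : Fact p.Prime] [IsPretransitive G Ω] (hΩ : Nat.card Ω = 3 * p) (h : H24.D1.SC p x) (a : Ω) :
    ¬ p ∣ #(stabilizer G a) := fun hd => h.syl1.not_sq_dvd (by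
  rw [H16.card_eq_card_mul_stabilizer (G := G) a, hΩ, pow_two, mul_comm 3, mul_assoc]
  exact Nat.mul_dvd_mul_left p (hd.mul_left 3))

theorem fix3 [hp : Fact p.Prime] (hp2 : p ≠ 2) [IsPretransitive G Ω] (hΩ : Nat.card Ω = 3 * p) (h : H24.D1.SC p x)
    (hu : Invo u) (hN : u ∈ N(⟪x⟫)) : Nat.card (fixedBy Ω u) ≤ 3 := by
  have k : ∀ w ∈ ⟪x⟫, ∀ a : Ω, w • a = a → w = 1 := fun w hw a e => by
    by_contra c
    exact not_dvd hΩ h a (h.syl1.orderOf_eq hw c ▸ orderOf_dvd_natCard _ (mem_stabilizer_iff.2 e))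
  have h1 := Nat.card_le_card_of_injective (fun q : fixedBy Ω u × ⟪x⟫ => (q.2 : G) • (q.1 : Ω)) (by
    rintro ⟨⟨a, ha⟩, y, hy⟩ ⟨⟨b, hb⟩, w, hw⟩ e
    have e1 : (w⁻¹ * y) • a = b := by rw [mul_smul, inv_smul_eq_iff]; exact e
    have hv := mul_mem (inv_mem hw) hy
    have e2 : (w⁻¹ * y)⁻¹ • a = b := by
      rw [← SC_inv_inverts h hp2 hu hN hv, mul_smul, mul_smul, inv_smul_eq_iff.2 (mem_fixedBy.1 ha).symm, e1]
      exact hb
    have e3 := k _ (mul_mem hv hv) a (by rw [mul_smul, e1, ← e2, smul_inv_smul])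
    have e4 : w⁻¹ * y = 1 := by
      by_contra c
      exact hp2 ((h.syl1.orderOf_eq hv c).symm.trans (invo_of e3 c))
    rw [e4, one_smul] at e1
    obtain rfl := inv_mul_eq_one.1 e4
    subst e1
    rfl)
  rw [Nat.card_prod, h.syl1.card_zp, hΩ] at h1
  exact Nat.le_of_mul_le_mul_right h1 hp.out.pos

theorem arith {n c i p : ℕ} (hp : Odd p) (hn : 3 ≤ n) (hd : 2 ^ n ∣ 3 * p - 3) (hc : ¬ 2 ^ (n + 2) ∣ c)
    (h : c * i * (3 * p - 3) ^ 2 = p * c ^ 2 * ((3 * p - 1) * (3 * p - 2))) : False := by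
  have c0 : c ≠ 0 := fun e => hc (e ▸ dvd_zero _)
  have h8 := (pow_dvd_pow 2 hn).trans hd
  obtain ⟨w, hw⟩ : ∃ w, 3 * p - 1 = 2 * (2 * w + 1) := ⟨(3 * p - 3) / 4, by obtain ⟨k, rfl⟩ := hp; omega⟩
  have h1 : i * (3 * p - 3) ^ 2 = c * 2 * (p * ((2 * w + 1) * (3 * p - 2))) :=
    Nat.eq_of_mul_eq_mul_left (Nat.pos_of_ne_zero c0) (by rw [← mul_assoc, h, hw]; ring)
  have h2 : (2 ^ n) ^ 2 ∣ c * 2 * (p * ((2 * w + 1) * (3 * p - 2))) := h1 ▸ (pow_dvd_pow_of_dvd hd 2).mul_left i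
  have h3 : Odd (p * ((2 * w + 1) * (3 * p - 2))) :=
    hp.mul ((odd_two_mul_add_one w).mul (by obtain ⟨k, rfl⟩ := hp; exact ⟨3 * k, by omega⟩))
  have h4 := (((Nat.coprime_two_left.2 h3).pow_left n).pow_left 2).dvd_of_dvd_mul_right h2
  refine hc (Nat.dvd_of_mul_dvd_mul_right two_pos (dvd_trans ?_ h4))
  rw [← pow_succ, ← pow_mul]
  exact pow_dvd_pow 2 (by omega)

theorem dich (h1 : OneCl (⊤ : Subgroup G)) (hf : ∀ i : G, Invo i → (fixedBy Ω i).ncard = 3) (hz : Invo z)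
    (ht : Invo t) (hzt : t ∈ C[z]) (hne : ¬ fixedBy Ω z ⊆ fixedBy Ω t) : (∃ S T w, Syl 2 S (⊤ : Subgroup G) ∧ Dh S T w) ∨
      ∃ (D : Subgroup G) (n : ℕ), D ≤ C[z] ∧ D.relIndex C[z] = 2 ∧ z ∈ D ∧ (∀ w ∈ D, Invo w → w = z) ∧
        (∀ s ∈ C[z], ∀ s' ∈ C[z], s ∉ D → s' ∉ D → Invo s → Invo s' → ∃ g ∈ C[z], g * s * g⁻¹ = s') ∧
        3 ≤ n ∧ 2 ^ n ∣ Nat.card Ω - 3 ∧ ¬ 2 ^ (n + 2) ∣ #C[z] := by
  obtain ⟨S, D, hS, SC, zS, tS, DC, d2, zD, tD, h4, hd⟩ := core h1 hf hz ht hzt hne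
  have hi : ∀ X ≤ C[z], t ∈ X → D.relIndex X = 2 := fun X hX tX => relIndex_eq_two_iff.2 ⟨t, tX, fun b hb => by
    rw [d2 b (hX hb) t hzt]
    by_cases e : b ∈ D <;> simp [e, tD]⟩
  have hc := card_mul_relIndex (inf_le_left : S ⊓ D ≤ S)
  rw [inf_relIndex_left, hi S SC tS] at hc
  obtain ⟨n, hn⟩ := (hS.pi.mono (inf_le_left : S ⊓ D ≤ S)).card
  have n0 : n ≠ 0 := fun e => by
    have := hz.two_dvd (mem_inf.2 ⟨zS, zD⟩)
    rw [hn, e] at this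
    omega
  have hc' : #S = 2 ^ (n + 1) := by rw [← hc, hn, pow_succ]
  by_cases n1 : n = 1
  · subst n1
    refine .inl ⟨S, ⟪z⟫, z, hS, dh_of_four hc' (fun x hx => ?_) zS hz.ne⟩
    have e : ⟪z⟫ = S ⊓ D := eq_of_le_of_card_ge (zpowers_le.2 ⟨zS, zD⟩) (by rw [hn, hz.card]; rfl)
    have k : ∀ y ∈ S, y ∈ D → y = 1 ∨ y = z := fun y a b => hz.mem_zpowers.1 (e ▸ mem_inf.2 ⟨a, b⟩)
    by_cases c : x ∈ D
    · rcases k x hx c with rfl | rfl
      exacts [mul_one 1, hz.sq]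
    · rcases k _ (mul_mem hx tS) ((d2 x (SC hx) t hzt).2 (iff_of_false c tD)) with e | e
      · rw [eq_inv_of_mul_eq_one_left e, ht.inv, ht.sq]
      · rw [eq_mul_inv_of_mul_eq e, ht.inv, mul_assoc, ← mul_assoc t, mem_cen1.1 hzt, ht.cancel', hz.sq]
  obtain ⟨a, b, h⟩ := (H3.maxCl_of_cen1' Nat.prime_two hc' (by omega) tS h4).mc (by omega)
  have ez : z = a ^ 2 ^ (n - 1) :=
    (h.mem_z_iff.1 (h.center ▸ mem_inf.2 ⟨zS, le_cen1.1 SC⟩)).resolve_left hz.ne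
  rcases h.cases with h | h | ⟨b, h⟩
  · exact .inl ⟨S, _, _, hS, dh_of_mcd h⟩
  · exact absurd ((h.eq_z_of_sq tS ((sq t).trans ht.sq) ht.ne).trans ez.symm ▸ zD) tD
  have hS' := hS.subl SC le_top
  have k : ∀ s ∈ C[z], Invo s → s ≠ z → ∃ g ∈ C[z], g * b * g⁻¹ = s := fun s hs h2 h3 => by
    obtain ⟨g, hg, e⟩ := hS'.syl_elt hs h2.pElt
    have h5 := (sq _).trans (h2.conj g).sq
    obtain ⟨y, hy, e'⟩ := h.conj_two e (fun c => h3 (by
      have := (h.eq_z c h5 (h2.conj g).ne).trans ez.symm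
      rw [mul_inv_eq_iff_eq_mul, ← mem_cen1.1 hg] at this
      exact mul_left_cancel this)) h5
    exact ⟨g⁻¹ * y, mul_mem (inv_mem hg) (SC (h.le hy)), by
      rw [show g⁻¹ * y * b * (g⁻¹ * y)⁻¹ = g⁻¹ * (y * b * y⁻¹) * g by group, e']; group⟩
  have k2 : ∀ s ∈ C[z], ∀ s' ∈ C[z], s ≠ z → s' ≠ z → Invo s → Invo s' → ∃ g ∈ C[z], g * s * g⁻¹ = s' :=
    fun s hs s' hs' a1 a2 a3 a4 => by
      obtain ⟨g, hg, rfl⟩ := k s hs a3 a1
      obtain ⟨y, hy, rfl⟩ := k s' hs' a4 a2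
      exact ⟨y * g⁻¹, mul_mem hy (inv_mem hg), by group⟩
  refine .inr ⟨D, n, DC, hi _ le_rfl hzt, zD, fun w hw h2 => ?_,
    fun s hs s' hs' a1 a2 => k2 s hs s' hs' (fun e => a1 (e ▸ zD)) fun e => a2 (e ▸ zD), h.three_le, hn ▸ hd, fun c => ?_⟩
  · by_contra c
    obtain ⟨g, hg, rfl⟩ := k2 w (DC hw) t hzt c (fun e => tD (e ▸ zD)) h2 ht
    refine tD ?_
    have h5 := d2 g hg g⁻¹ (inv_mem hg)
    rw [d2 _ (mul_mem hg (DC hw)) _ (inv_mem hg), d2 g hg w (DC hw), inv_mem_iff]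
    simp [hw]
  · have := hS'.card_syl Nat.prime_two
    rw [hc', Nat.pow_right_inj one_lt_two] at this
    have := (Nat.prime_two.pow_dvd_iff_le_factorization (FT.card_pos _).ne').1 c
    omega

end Tp

end Cfsg.Agent.GO
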