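import Cfsg.Agent.H10.TpD
import Cfsg.Agent.H10.TpH
import Cfsg.Agent.H12.TpM
import Cfsg.Agent.H12.TpF
import Cfsg.Agent.H16.TpG
import Cfsg.Agent.H24.TpE
import Cfsg.Agent.H29.TpC
import Cfsg.Agent.H9.TpA
import Cfsg.Agent.GO.Tp2

/-! Simple groups of degree three times a prime, III: the primitive case. -/

set_option autoImplicit false
set_option linter.unusedSectionVars false
set_option linter.unusedVariables false
set_option linter.style.haveILetI false

namespace Cfsg.Agent.GO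

open Cfsg Subgroup Cfsg.Agent.FT Cfsg.Agent.GW
open scoped commutatorElement

universe u

variable {G : Type u} [Group G] [Finite G] {p : ℕ}
  {A B D E H J K L M P Q R S T U V W X Y Z : Subgroup G} {a b c d e g j m n r s t u v w x y z : G}


open MulAction Cfsg.Agent.H24.D1 Cfsg.Agent.H7
open scoped Pointwise MatrixGroups

namespace Tp

variable {Ω : Type*} [Finite Ω] [MulAction G Ω] {Δ : Set Ω}

theorem not_a7 [hp : Fact p.Prime] (hp3 : 3 < p) (P : Sylow p G) (hN : #N((P : Subgroup G)) = 2 * p) :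
    Nat.card G ≠ 2520 := fun e => by
  have h1 := card_sylow_modEq_one p G
  have h2 := (N((P : Subgroup G))).card_mul_index
  rw [P.card_eq_index_normalizer] at h1
  rw [hN, e] at h2
  generalize (N((P : Subgroup G))).index = i at h1 h2
  have h3 : p ∣ 2 ^ 3 * 3 ^ 2 * 5 * 7 := (dvd_mul_left p 2).trans ⟨_, h2.symm⟩
  have k : ∀ q k : ℕ, q.Prime → p ∣ q ^ k → p = q := fun q k hq h =>
    (Nat.prime_dvd_prime_iff_eq hp.out hq).1 (hp.out.dvd_of_dvd_pow h)
  unfold Nat.ModEq at h1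
  rcases (Nat.Prime.dvd_mul hp.out).1 h3 with h3 | h3
  · rcases (Nat.Prime.dvd_mul hp.out).1 h3 with h3 | h3
    · rcases (Nat.Prime.dvd_mul hp.out).1 h3 with h3 | h3
      · have := k 2 3 Nat.prime_two h3; omega
      · have := k 3 2 Nat.prime_three h3; omega
    · obtain rfl := k 5 1 Nat.prime_five h3; omega
  · obtain rfl := k 7 1 Nat.prime_seven h3; omega

theorem prim [IsSimpleGroup G] (hG : ¬ IsMulCommutative G) [hp : Fact p.Prime] (hp3 : 3 < p) (P : Sylow p G)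
    (hN : #N((P : Subgroup G)) = 2 * p) [FaithfulSMul G Ω] [IsPreprimitive G Ω] (hΩ : Nat.card Ω = 3 * p) :
    p = 5 ∧ Nonempty (G ≃* alternatingGroup (Fin 6)) := by
  have hp2 : p ≠ 2 := by omega
  have po := hp.out.odd_of_ne_two hp2
  have ho : Odd (Nat.card Ω) := hΩ ▸ (by decide : Odd 3).mul po
  obtain ⟨x, h, hxP⟩ := exists_sc hG hp2 P hN
  haveI : Nontrivial Ω := Finite.one_lt_card_iff_nontrivial.1 (by omega)
  obtain ⟨a⟩ : Nonempty Ω := inferInstance
  have hi : (stabilizer G a).index = 3 * p := by rw [index_stabilizer_of_transitive, hΩ]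
  have h3 : ∀ u ∈ N((P : Subgroup G)), orderOf u = 2 → Nat.card (fixedBy Ω u) ≤ 3 := fun u hu h2 =>
    fix3 hp2 hΩ h h2 (hxP ▸ hu)
  obtain ⟨hconj, u, c, hu, huN, hc, ⟨h1, h2, h3⟩ | ⟨hse, hform⟩ | ⟨M, hM, hMi, e⟩⟩ := H9.Tp.tpA hG hp3 P hN hΩ h3
    (fun χ => H16.TpG.tpG hG hp3 P (card_P hp2 P hN) hN χ) fun M => H10.TpH.tpH hG hp.out M
  · exact absurd ((isCoatom_stabilizer_iff_preprimitive G a).2 inferInstance)
      (H12.tpM hp.out hp3 hconj hu (hc.trans h1) h2 h3 _ hi)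
  swap
  · exact absurd e (H29.Tp.tpC hG hp3 M hM hMi u hu hc)
  have h1 : OneCl (⊤ : Subgroup G) := fun v _ w _ a b =>
    let ⟨g, e⟩ := isConj_iff.1 (hconj v w a b); ⟨g, trivial, e⟩
  have hfu : ∀ i : G, Invo i → (fixedBy Ω i).ncard = (fixedBy Ω u).ncard := fun i h2 => by
    obtain ⟨g, rfl⟩ := isConj_iff.1 (hconj u i hu h2)
    rw [← smul_fixedBy, Set.ncard_smul_set]
  have hf : ∀ i : G, Invo i → (fixedBy Ω i).ncard = 3 := by
    have h4 : (fixedBy Ω u).ncard ≤ 3 := h3 u huN hu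
    have h5 := Nat.odd_iff.1 (odd_fix ho hu)
    have h6 : (fixedBy Ω u).ncard ≠ 1 := fun e => not_dvd hΩ h a (hse _ ⟨fun c => by
      rw [c, index_top] at hi; omega, ?_, fun g hg => ?_⟩)
    · exact fun i h2 => (hfu i h2).trans (by omega)
    · have h7 := (stabilizer G a).card_mul_index
      rw [hi, ← hΩ] at h7
      by_contra c
      exact (Nat.not_even_iff_odd.2 (h7 ▸ (Nat.not_even_iff_odd.1 c).mul ho))
        (even_iff_two_dvd.2 (hu ▸ orderOf_dvd_natCard u))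
    · by_contra c
      obtain ⟨t, ⟨t1, w, t2, rfl⟩, t3⟩ := exists_invo (Nat.not_odd_iff_even.1 c).two_dvd
      obtain ⟨b, hb⟩ := Set.ncard_eq_one.1 ((hfu _ t3).trans e)
      have e1 : a ∈ ({b} : Set Ω) := hb ▸ t1
      have e2 : g • a ∈ ({b} : Set Ω) := hb ▸ (by
        change (g * w * g⁻¹) • g • a = g • a
        rw [mul_smul, inv_smul_smul, mul_smul, mem_stabilizer_iff.1 t2])
      exact hg (e2.trans e1.symm)
  have hd : ¬ p ∣ #(stabilizer G (fixedBy Ω u)) := fun c => by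
    obtain ⟨y, hy, e⟩ := exists_elt_of_prime_dvd hp.out c
    obtain ⟨-, -, -, -, -, d5⟩ := exists_sgn (G := G) (hf u hu)
    obtain ⟨b, hb⟩ := Set.nonempty_of_ncard_ne_zero (s := fixedBy Ω u) (by rw [hf u hu]; norm_num)
    refine not_dvd hΩ h b (e ▸ orderOf_dvd_natCard _ (mem_stabilizer_iff.2 (fix_of_cop (d5 y hy b hb) ?_)))
    rw [e]
    exact Nat.Coprime.mul_right (m := 2) (n := 3) ((Nat.coprime_primes hp.out Nat.prime_two).2 hp2)
      ((Nat.coprime_primes hp.out Nat.prime_three).2 hp3.ne')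
  obtain ⟨t, hzt, ht, hne⟩ : ∃ t ∈ C[u], Invo t ∧ ¬ fixedBy Ω u ⊆ fixedBy Ω t := by
    by_contra! c
    refine hd (hse _ (se_of h1 hf hu (fun e => hd ?_) c))
    rw [e, card_top, ← (stabilizer G a).card_mul_index, hi]
    exact (dvd_mul_left p 3).mul_left _
  rcases dich h1 hf hu ht hzt hne with ⟨S, T, w, hS, hD⟩ | ⟨D, n, a1, a2, a3, a4, a5, a6, a7, a8⟩
  · rcases gw_iso' (nsol_top hG) (hD.d2.dg hS) with ⟨F, _, _, b1, b2, ⟨e⟩⟩ | ⟨⟨e⟩⟩
    · obtain ⟨b3, b4⟩ := H10.TpD.tpD e b1 b2 hp.out hp3 _ hi u hu hc (hform.imp_left And.left)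
      obtain ⟨f⟩ := H10.PSL2_nine_equiv (F := F) (by rw [Nat.card_eq_fintype_card, b4])
      exact ⟨b3, ⟨e.trans f⟩⟩
    · refine absurd ?_ (not_a7 hp3 P hN)
      rw [Nat.card_congr e.toEquiv, nat_card_alternatingGroup]
      simp [Nat.factorial]
  · exfalso
    rcases hform with ⟨-, e⟩ | e
    · exact e.not_ge (H24.TpE.tpE hconj hu a1 a2 a3 a4 a5)
    · rw [← (C[u]).card_mul_index, hc] at e
      exact arith po a6 (hΩ ▸ a7) (hc ▸ a8) e

end Tp

end Cfsg.Agent.GO
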