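import Cfsg.Agent.GO.A5x
import Cfsg.Agent.GO.Su

/-! The centralizer of an involution in the unitary group of dimension three over the field with sixteen elements. -/

set_option autoImplicit false
set_option linter.unusedSectionVars false
set_option linter.unusedVariables false

namespace Cfsg.Agent.GO

open Cfsg Subgroup Cfsg.Agent.FT Cfsg.Agent.GW
open scoped commutatorElement

universe u

variable {G : Type u} [Group G] [Finite G] {D : Set G} {p : ℕ}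
  {A B E H J K L M P Q R S T U V W X Y Z : Subgroup G} {a b d e g r s t v w x y z : G}

variable {c : G}

theorem nrm_step (hy : y ∈ N(K)) (h : ⁅y, a⁆ ∈ K) : y ∈ N(K ⊔ ⟪a⟫) := mem_nrm_of_cj_le (by
  rw [cj_sup, cj_of_mem_nrm hy, cj_zpowers]
  refine sup_le le_sup_left (zpowers_le.2 ?_)
  rw [show y * a * y⁻¹ = ⁅y, a⁆ * a by rw [commutatorElement_def]; group]
  exact mul_mem_sup h (mem_zpowers a))

/-- central involution or identity -/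
def CI2 {G : Type*} [Group G] (r x c : G) : Prop := Commute c r ∧ Commute c x ∧ c * c = 1

/-- relations for the group of order `320` -/
structure R5 {G : Type*} [Group G] (r x : G) : Prop where
  r5 : r ^ 5 = 1
  p5 : (x * r) ^ 5 = 1
  c0 : CI2 r x (x * x)
  c1 : CI2 r x ⁅x, r * x * r⁻¹⁆
  c2 : CI2 r x ⁅x, r * (r * x * r⁻¹) * r⁻¹⁆

theorem CI2.cen (h : CI2 r x c) : c ∈ C(⟪r⟫ ⊔ ⟪x⟫) := by
  rw [cen_sup, cen_zpowers, cen_zpowers]; exact ⟨mem_cen1.2 h.1, mem_cen1.2 h.2.1⟩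

theorem CI2.fix (h : CI2 r x c) : r * c * r⁻¹ = c := by rw [← h.1.eq, mul_inv_cancel_right]

theorem R5.prod {G' : Type*} [Group G'] {r' x' : G'} (h : R5 r x) (h' : R5 r' x') : R5 (r, r') (x, x') :=
  ⟨Prod.ext h.r5 h'.r5, Prod.ext h.p5 h'.p5,
    ⟨Prod.ext h.c0.1 h'.c0.1, Prod.ext h.c0.2.1 h'.c0.2.1, Prod.ext h.c0.2.2 h'.c0.2.2⟩,
    ⟨Prod.ext h.c1.1 h'.c1.1, Prod.ext h.c1.2.1 h'.c1.2.1, Prod.ext h.c1.2.2 h'.c1.2.2⟩,
    ⟨Prod.ext h.c2.1 h'.c2.1, Prod.ext h.c2.2.1 h'.c2.2.1, Prod.ext h.c2.2.2 h'.c2.2.2⟩⟩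

theorem R5.card_le (h : R5 r x) : #(⟪r⟫ ⊔ ⟪x⟫) ≤ 320 := by
  set x1 := r * x * r⁻¹ with e1
  set x2 := r * x1 * r⁻¹ with e2
  set x3 := r * x2 * r⁻¹ with e3
  set x4 := r * x3 * r⁻¹ with e4
  have e5 : r * x4 * r⁻¹ = x := by
    calc _ = r ^ 5 * x * (r ^ 5)⁻¹ := by simp only [e4, e3, e2, e1, pow_succ, pow_zero, one_mul, mul_inv_rev, mul_assoc]
      _ = x := by rw [h.r5]; group
  have p : x * x1 * x2 * x3 * x4 = 1 := by
    calc _ = (x * r) ^ 5 * (r ^ 5)⁻¹ := by simp only [e4, e3, e2, e1, pow_succ]; group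
      _ = 1 := by rw [h.r5, h.p5]; group
  have a1 := h.c1
  have a2 := h.c2
  rw [← e1] at a1 a2
  rw [← e2] at a2
  set N := ⟪⁅x, x1⁆⟫ ⊔ ⟪⁅x, x2⁆⟫ with hN
  have m1 : ⁅x, x1⁆ ∈ N := mem_sup_left (mem_zpowers _)
  have m2 : ⁅x, x2⁆ ∈ N := mem_sup_right (mem_zpowers _)
  have nL : ⟪r⟫ ⊔ ⟪x⟫ ≤ N(N) := (centsC (sup_le (zpowers_le.2 a1.cen) (zpowers_le.2 a2.cen))).trans (cen_le_nrm _)
  have nr : r ∈ N(N) := nL (mem_sup_left (mem_zpowers r))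
  have n0 : x ∈ N(N) := nL (mem_sup_right (mem_zpowers x))
  have cj : ∀ y ∈ N(N), r * y * r⁻¹ ∈ N(N) := fun y hy => mul_mem (mul_mem nr hy) (inv_mem nr)
  have n1 : x1 ∈ N(N) := cj _ n0
  have n2 : x2 ∈ N(N) := cj _ n1
  have n3 : x3 ∈ N(N) := cj _ n2
  have n4 : x4 ∈ N(N) := cj _ n3
  have cc : ∀ a b, ⁅a, b⁆ ∈ N → ⁅r * a * r⁻¹, r * b * r⁻¹⁆ ∈ N := fun a b e => by
    rw [← conjugate_commutatorElement]; exact conj_mem nr e
  have sw : ∀ a b : G, ⁅a, b⁆ ∈ N → ⁅b, a⁆ ∈ N := fun a b e => by rw [← commutatorElement_inv]; exact inv_mem e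
  have m12 : ⁅x1, x2⁆ ∈ N := cc _ _ m1
  have m23 : ⁅x2, x3⁆ ∈ N := cc _ _ m12
  have m13 : ⁅x1, x3⁆ ∈ N := cc _ _ m2
  have m30 : ⁅x3, x⁆ ∈ N := e5 ▸ cc _ _ (cc _ _ m13)
  have s1 : x1 * x1 = x * x := by rw [e1, conj_mul, h.c0.fix]
  have s2 : x2 * x2 = x * x := by rw [e2, conj_mul, s1, h.c0.fix]
  have s3 : x3 * x3 = x * x := by rw [e3, conj_mul, s2, h.c0.fix]
  have s4 : x4 * x4 = x * x := by rw [e4, conj_mul, s3, h.c0.fix]
  have sN : x * x ∈ N := by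
    have k : ∀ a b, a ∈ N(N) → b ∈ N(N) → ⁅a, b⁆ ∈ N → Commute coset(N, a) coset(N, b) := fun a b ha hb e =>
      (coset_commute_iff ha hb).2 e
    have q : ∀ a, a ∈ N(N) → a * a = x * x → coset(N, a) ^ 2 = coset(N, x * x) := fun a ha e => by
      rw [sq, ← coset_mul ha ha, e]
    have n01 := mul_mem n0 n1
    have : coset(N, x4)⁻¹ = coset(N, x) * coset(N, x1) * coset(N, x2) * coset(N, x3) := by
      rw [← coset_mul n0 n1, ← coset_mul n01 n2, ← coset_mul (mul_mem n01 n2) n3, ← coset_inv n4,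
        eq_inv_of_mul_eq_one_left p]
    have h2 := congrArg (· ^ 2) this
    rw [(((k _ _ n0 n3 (sw _ _ m30)).mul_left (k _ _ n1 n3 m13)).mul_left (k _ _ n2 n3 m23)).mul_pow,
      ((k _ _ n0 n2 m2).mul_left (k _ _ n1 n2 m12)).mul_pow, (k _ _ n0 n1 m1).mul_pow, inv_pow, q _ n0 rfl, q _ n1 s1,
      q _ n2 s2, q _ n3 s3, q _ n4 s4, ← coset_mul (mul_mem n0 n0) (mul_mem n0 n0), h.c0.2.2, coset_one, one_mul,
      ← coset_mul (mul_mem n0 n0) (mul_mem n0 n0), h.c0.2.2, coset_one, inv_eq_one, coset_eq_one_iff (mul_mem n0 n0)] at h2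
    exact h2
  have c0 : #N ≤ 4 := by
    have b1 := H3.card_sup_zpowers_le (K := ⟪⁅x, x1⁆⟫) (x := ⁅x, x2⁆) Nat.prime_two
      (cen_le_nrm _ (centsC (zpowers_le.2 a1.cen) (mul_mem (mul_mem (mul_mem (mem_sup_right (mem_zpowers x)) ?_)
        (inv_mem (mem_sup_right (mem_zpowers x)))) (inv_mem ?_)))) (by rw [sq, a2.2.2]; exact one_mem _)
    · have := Nat.le_of_dvd two_pos (orderOf_dvd_of_pow_eq_one ((sq _).trans a1.2.2))
      rw [card_zpowers', ← hN] at b1; omega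
    all_goals
      have hr : r ∈ ⟪r⟫ ⊔ ⟪x⟫ := mem_sup_left (mem_zpowers r)
      exact mul_mem (mul_mem hr (mul_mem (mul_mem hr (mem_sup_right (mem_zpowers x))) (inv_mem hr))) (inv_mem hr)
  have l := fun (K : Subgroup G) (a : G) => (le_sup_left : K ≤ K ⊔ ⟪a⟫)
  have b1 := H3.card_sup_zpowers_le Nat.prime_two n0 (by rw [sq]; exact sN)
  have b2 := H3.card_sup_zpowers_le Nat.prime_two (nrm_step n1 (sw _ _ m1)) (by rw [sq, s1]; exact l _ _ sN)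
  have b3 := H3.card_sup_zpowers_le Nat.prime_two (nrm_step (nrm_step n2 (sw _ _ m2)) (l _ _ (sw _ _ m12)))
    (by rw [sq, s2]; exact l _ _ (l _ _ sN))
  have b4 := H3.card_sup_zpowers_le Nat.prime_two (nrm_step (nrm_step (nrm_step n3 m30) (l _ _ (sw _ _ m13)))
    (l _ _ (l _ _ (sw _ _ m23)))) (by rw [sq, s3]; exact l _ _ (l _ _ (l _ _ sN)))
  have k0 : x ∈ N ⊔ ⟪x⟫ ⊔ ⟪x1⟫ ⊔ ⟪x2⟫ ⊔ ⟪x3⟫ := l _ _ (l _ _ (l _ _ (mem_sup_right (mem_zpowers _))))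
  have k1 : x1 ∈ N ⊔ ⟪x⟫ ⊔ ⟪x1⟫ ⊔ ⟪x2⟫ ⊔ ⟪x3⟫ := l _ _ (l _ _ (mem_sup_right (mem_zpowers _)))
  have k2 : x2 ∈ N ⊔ ⟪x⟫ ⊔ ⟪x1⟫ ⊔ ⟪x2⟫ ⊔ ⟪x3⟫ := l _ _ (mem_sup_right (mem_zpowers _))
  have k3 : x3 ∈ N ⊔ ⟪x⟫ ⊔ ⟪x1⟫ ⊔ ⟪x2⟫ ⊔ ⟪x3⟫ := mem_sup_right (mem_zpowers _)
  have k4 : x4 ∈ N ⊔ ⟪x⟫ ⊔ ⟪x1⟫ ⊔ ⟪x2⟫ ⊔ ⟪x3⟫ := by
    rw [eq_inv_of_mul_eq_one_right p]; exact inv_mem (mul_mem (mul_mem (mul_mem k0 k1) k2) k3)
  have b5 := H3.card_sup_zpowers_le (K := N ⊔ ⟪x⟫ ⊔ ⟪x1⟫ ⊔ ⟪x2⟫ ⊔ ⟪x3⟫) (x := r) (by norm_num : Nat.Prime 5)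
    (mem_nrm_of_cj_le (by
      simp only [cj_sup, cj_zpowers, cj_of_mem_nrm nr, sup_le_iff, zpowers_le]
      exact ⟨⟨⟨⟨fun _ e => l _ _ (l _ _ (l _ _ (l _ _ e))), k1⟩, k2⟩, k3⟩, k4⟩)) (by rw [h.r5]; exact one_mem _)
  have := FT.card_le (A := ⟪r⟫ ⊔ ⟪x⟫) (sup_le le_sup_right (zpowers_le.2 (l _ r k0)))
  omega

theorem R5.iso {G' : Type*} [Group G'] [Finite G'] {r' x' : G'} (h : R5 r x) (h' : R5 r' x')
    (c : #(⟪r⟫ ⊔ ⟪x⟫) = 320) (c' : #(⟪r'⟫ ⊔ ⟪x'⟫) = 320) :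
    Nonempty ((⟪r⟫ ⊔ ⟪x⟫ : Subgroup G) ≃* (⟪r'⟫ ⊔ ⟪x'⟫ : Subgroup G')) := by
  have := (h.prod h').card_le
  obtain ⟨f, -⟩ := H3.equiv_of_graph (H := ⟪(r, r')⟫ ⊔ ⟪(x, x')⟫) (E := ⟪r⟫ ⊔ ⟪x⟫) (E' := ⟪r'⟫ ⊔ ⟪x'⟫)
    (by simp [Subgroup.map_sup, MonoidHom.map_zpowers]) (by simp [Subgroup.map_sup, MonoidHom.map_zpowers])
    (c ▸ this) (c' ▸ this)
  exact ⟨f⟩

theorem C5.exists_R5 (h : C5 Q r) (hQ : #Q = 64) : ∃ x, R5 r x ∧ ⟪r⟫ ⊔ ⟪x⟫ = Q ⊔ ⟪r⟫ ∧ #(Q ⊔ ⟪r⟫) = 320 := by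
  have h4 : #(Phi Q) = 4 := by have := h.card; omega
  have hc : ⟪r⟫ ≤ C(Phi Q) := by_contra fun e => by
    have := (five16 (h.pQ.mono (Phi_le Q)) (by omega) h.o5 h.nPhi e).1; omega
  have hz := h.phi_cen hc
  have hab := h.phi_ab hc
  have r5 : r ^ 5 = 1 := h.o5 ▸ pow_orderOf_eq_one r
  obtain ⟨y, hy, hn⟩ := SetLike.exists_of_lt (lt_of_card_lt (Phi_le Q) (by omega))
  have cr : ∀ c ∈ Phi Q, Commute c r := fun c e => (FT.mem_cen.1 (hc (mem_zpowers r)) c e)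
  have cq : ∀ c ∈ Phi Q, ∀ x ∈ Q, Commute c x := fun c e x hx => (FT.mem_cen.1 (hz e) x hx).symm
  have ci : ∀ x ∈ Q, ∀ c ∈ Phi Q, CI2 r x c := fun x hx c e => ⟨cr c e, cq c e x hx, (sq c).symm.trans (hab.pow e)⟩
  have hφ : (y * r) ^ 5 ∈ Phi Q := by
    have y1 := conj_mem h.rN hy
    have y2 := conj_mem h.rN y1
    have y3 := conj_mem h.rN y2
    have q : (y * r) ^ 5 ∈ Q := by
      rw [← mul_one ((y * r) ^ 5), ← inv_one, ← r5, show (y * r) ^ 5 * (r ^ 5)⁻¹ = y * (r * y * r⁻¹) * (r * (r * y * r⁻¹) * r⁻¹) *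
        (r * (r * (r * y * r⁻¹) * r⁻¹) * r⁻¹) * (r * (r * (r * (r * y * r⁻¹) * r⁻¹) * r⁻¹) * r⁻¹) by
          simp only [pow_succ]; group]
      exact mul_mem (mul_mem (mul_mem (mul_mem hy y1) y2) y3) (conj_mem h.rN y3)
    rw [← coset_eq_one_iff (Phi_nrm Q q), ← mem_bot, ← h.top.2, cen_zpowers]
    refine ⟨mem_quo_of_mem (Phi_nrm Q q) q, mem_cen1.2 ((coset_commute_iff (Phi_nrm Q q) h.nPhi).2 ?_)⟩
    rw [show ⁅(y * r) ^ 5, r⁆ = ⁅(y * r) ^ 5, y⁻¹⁆ by simp only [commutatorElement_def, pow_succ]; group]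
    exact h.pQ.der_le_Phi (commutator_mem_commutator q (inv_mem hy))
  have xQ := mul_mem (Phi_le Q hφ) hy
  have x1 := conj_mem h.rN xQ
  have rQ : r ∉ Q := fun e => by
    have : r = 1 := mem_bot.1 (h.cop.inf ▸ ⟨e, mem_zpowers r⟩)
    have h5 := h.o5
    rw [this, orderOf_one] at h5; omega
  refine ⟨(y * r) ^ 5 * y, ⟨r5, ?_, ci _ xQ _ (sq_Phi h.pQ xQ), ci _ xQ _ (h.pQ.der_le_Phi (commutator_mem_commutator xQ x1)),
    ci _ xQ _ (h.pQ.der_le_Phi (commutator_mem_commutator xQ (conj_mem h.rN x1)))⟩, le_antisymm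
      (sup_le le_sup_right ((zpowers_le.2 xQ).trans le_sup_left)) (sup_le ?_ le_sup_left), ?_⟩
  · rw [mul_assoc, ((cq _ hφ y hy).mul_right (cr _ hφ)).mul_pow, ← pow_succ, show 5 + 1 = 2 * 3 from rfl, pow_mul,
      hab.pow hφ, one_pow]
  · have hr : r ∈ N(Q ⊓ (⟪r⟫ ⊔ ⟪(y * r) ^ 5 * y⟫)) :=
      zpowers_le.1 (normsI (zpowers_le.2 h.rN) (le_sup_left.trans (le_nrm _)))
    have := (h.irr (W := Phi Q ⊔ Q ⊓ (⟪r⟫ ⊔ ⟪(y * r) ^ 5 * y⟫)) le_sup_left (sup_le (Phi_le Q) inf_le_left)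
      (zpowers_le.1 (normsY (zpowers_le.2 h.nPhi) (zpowers_le.2 hr)))).resolve_left fun e =>
        hn ((mul_mem_cancel_left hφ).1 (e ▸ mem_sup_right ⟨xQ, mem_sup_right (mem_zpowers _)⟩))
    exact (Phi_nongen inf_le_left this.ge).ge.trans inf_le_right
  · rw [H3.card_sup_zpowers (by norm_num : Nat.Prime 5) h.rN rQ (by rw [r5]; exact one_mem _), hQ]

theorem sr64 (pQ : PGrp 2 Q) (hQ : #Q = 64) (h1 : 4 ≤ #(Phi Q)) (h2 : ∀ K ≤ Q, Abelem 2 K → #K ≤ 16) : SR 4 Q := by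
  intro K N hK hN hs
  have := FT.card_pos N
  by_cases e : K = Q
  · subst e
    have := card_le ((pQ.Phi_le_iff Nat.prime_two).2 ⟨GW.der_le_of_sq hs, fun x hx => by rw [sq]; exact hs x hx⟩)
    omega
  by_cases e1 : N = ⊥
  · subst e1
    have := h2 K hK ⟨ab_iff_der.2 (le_bot_iff.1 (GW.der_le_of_sq hs)), fun x hx => (sq x).trans (hs x hx)⟩
    omega
  have h3 := one_lt_card e1
  have h4 := card_lt (lt_of_le_of_ne hK e)
  obtain ⟨k, hk⟩ := card_dvd hK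
  have : 2 ≤ k := by
    rcases k with _ | _ | k <;> omega
  nlinarith

theorem c5_of_320 (hG : Nat.card G = 320) (hD : #(commutator G) = 64) (hZ : #Z(commutator G) = 4) :
    ∃ r, C5 (commutator G) r := by
  set Q := commutator G with hQ
  have pQ : PGrp 2 Q := pGrp_of_card Nat.prime_two (n := 6) hD
  obtain ⟨r, -, o5⟩ := exists_elt_of_prime_dvd (H := (⊤ : Subgroup G)) (by norm_num : Nat.Prime 5)
    (by rw [card_top', hG]; norm_num)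
  have nQ : ∀ x : G, x ∈ N(Q) := fun x => (normalizer_eq_top Q).ge (mem_top x)
  have rN := zpowers_le.2 (nQ r)
  have cp := cop5 pQ o5
  have top : Q ⊔ ⟪r⟫ = ⊤ := eq_of_card_eq le_top (by
    rw [card_sup_of_inf rN cp.inf, hD, card_zpowers', o5, card_top', hG])
  have comm : ⁅Q, ⟪r⟫⁆ = Q := Phi_nongen (comm_le_left rN) (by
    have := der_sup_eq rN
    rw [top, ab_iff_der.1 (ab_zpowers r), sup_bot_eq] at this
    exact (show Q ≤ ⁅⊤, ⊤⁆ from le_rfl).trans (this.le.trans (sup_le_sup_right pQ.der_le_Phi _)))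
  refine ⟨r, pQ, o5, nQ r, fun e => ?_, sr64 pQ hD ?_ fun K hK a => ?_⟩
  · rw [← comm, comm_eq_bot'.2 e, card_bot'] at hD; omega
  · have nP := norms_Phi rN
    have h1 := SC.card_modEq (by norm_num : Nat.Prime 5)
      ((pGrp_of_card_prime (by norm_num) ((card_zpowers' r).trans o5)).quo (Phi Q)) (quo_norms (Phi Q) rN)
    have h2 := coprime_abel_cent_TI (quo_norms (Phi Q) rN) (cp.quo _) pQ.abelem_quo_Phi.ab
    rw [← quo_comm (Phi_nrm Q) nP, comm] at h2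
    rw [h2, card_bot'] at h1
    have h3 := card_quo_mul (Phi_nml Q)
    have := FT.card_pos (Phi Q)
    by_contra! h4
    rw [hD] at h3
    unfold Nat.ModEq at h1
    interval_cases #(Phi Q) <;> omega
  · by_contra! h1
    have ne : K ≠ Q := fun e => by rw [← e, a.ab.center, e, hD] at hZ; omega
    have h3 := card_lt (lt_of_le_of_ne hK ne)
    have h4 : #K = 32 := by
      obtain ⟨k, hk⟩ := (pQ.mono hK).card
      rw [hk] at h1 h3 ⊢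
      have a1 : 4 < k := (Nat.pow_lt_pow_iff_right one_lt_two).1 h1
      have a2 : k < 6 := (Nat.pow_lt_pow_iff_right one_lt_two).1 (h3.trans_eq hD)
      rw [show k = 5 by omega]; rfl
    have i2 : K.relIndex Q = 2 := H3.relIndex_of_card_mul hK (by rw [h4, hD])
    have nK := pQ.nml_of_relIndex Nat.prime_two hK i2
    by_cases e : r ∈ N(K)
    · have := cen_of_two (X := Q /ₛ K) (by rw [card_quo nK.nrm, i2]) (quo_norms K rN)
      rw [quo_cents_iff (zpowers_le.2 e) nK.nrm, commC, comm] at this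
      exact ne (le_antisymm hK this)
    have h5 : FT.cj r K ≤ Q := cj_of_mem_nrm (nQ r) ▸ cj_mono r hK
    have h6 : K ⊔ FT.cj r K = Q := (eq_or_eq_of_prime_relIndex (i2 ▸ Nat.prime_two) le_sup_left (sup_le hK h5)).resolve_left
      fun e' => e (mem_nrm_of_cj_le (sup_eq_left.1 e'))
    have h7 : K ⊓ FT.cj r K ≤ Z(Q) := le_inf (inf_le_left.trans hK) (by
      rw [← h6, cen_sup]; exact inf_le_inf (ab_iff.1 a.ab) (ab_iff.1 (a.cj r).ab))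
    have h8 := card_mul_le hK h5
    have := card_le h7
    rw [card_cj, h4, hD] at h8
    omega

section
open H11 H18
open scoped MatrixGroups
variable {F : Type*} [Field F] [CharP F 2] {σ : F →+* F}

/-- the hyperbolic hermitian form -/
def J3 (σ : F →+* F) (u v : Fin 3 → F) : F := u 0 * σ (v 2) + u 1 * σ (v 1) + u 2 * σ (v 0)

theorem conj_mem_SU {q : ℕ} (hq : QConj σ q) {ζ : F} (hζ : ζ + σ ζ = 1) (g : SL(3, F)) :
    qMat hζ * g * (qMat hζ)⁻¹ ∈ SU 3 F q ↔ ∀ u v, J3 σ (g.1.mulVec u) (g.1.mulVec v) = J3 σ u v := by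
  have t : (2 : F) = 0 := CharTwo.two_eq_zero
  have hζ' : σ ζ = 1 - ζ := by linear_combination hζ
  have e1 : ∀ u v, hermForm 3 F q ((qMat hζ).1.mulVec u) ((qMat hζ).1.mulVec v) = J3 σ u v := by
    intro u v
    simp [hermForm, ← hq.eq, J3, qMat, Fin.sum_univ_three, Matrix.mulVec, dotProduct, hq.invol, hζ']
    linear_combination (u 0 * σ (v 0) + u 2 * σ (v 2) * (ζ - ζ * ζ)) * t
  have e3 : ∀ u, (qMat hζ).1.mulVec ((qMat hζ)⁻¹.1.mulVec u) = u := fun u => by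
    rw [Matrix.mulVec_mulVec, ← Matrix.SpecialLinearGroup.coe_mul, mul_inv_cancel]; simp
  have e4 : ∀ u, (qMat hζ)⁻¹.1.mulVec ((qMat hζ).1.mulVec u) = u := fun u => by
    rw [Matrix.mulVec_mulVec, ← Matrix.SpecialLinearGroup.coe_mul, inv_mul_cancel]; simp
  change (∀ u v, hermForm 3 F q (Matrix.mulVec (qMat hζ * g * (qMat hζ)⁻¹).1 u)
    (Matrix.mulVec (qMat hζ * g * (qMat hζ)⁻¹).1 v) = _) ↔ _
  simp only [Matrix.SpecialLinearGroup.coe_mul, ← Matrix.mulVec_mulVec, e1]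
  refine ⟨fun h u v => ?_, fun h u v => by rw [h, ← e1, e3, e3]⟩
  have := h ((qMat hζ).1.mulVec u) ((qMat hζ).1.mulVec v)
  rwa [e4, e4, e1] at this

/-- diagonal matrices -/
def dMat {a : F} (ha : a ^ 5 = 1) : SL(3, F) :=
  ⟨!![a, 0, 0; 0, a ^ 3, 0; 0, 0, a], by simp [Matrix.det_fin_three]; linear_combination ha⟩

theorem dMat_pow {a : F} (ha : a ^ 5 = 1) (n : ℕ) :
    dMat ha ^ n = dMat (show (a ^ n) ^ 5 = 1 by rw [← pow_mul, mul_comm, pow_mul, ha, one_pow]) := by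
  induction n with
  | zero => rw [pow_zero]; refine Subtype.ext ?_; ext i j; fin_cases i <;> fin_cases j <;> simp [dMat]
  | succ n ih =>
    rw [pow_succ, ih]
    refine Subtype.ext ((Matrix.SpecialLinearGroup.coe_mul _ _).trans ?_)
    ext i j; fin_cases i <;> fin_cases j <;> simp [dMat, Matrix.mul_apply, Fin.sum_univ_three] <;> ring

theorem dMat_conj (hq : QConj σ 4) {a : F} (ha : a ^ 5 = 1) (x y : F) :
    dMat ha * uMat σ x y * (dMat ha)⁻¹ = uMat σ (a ^ 3 * x) y := by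
  rw [mul_inv_eq_iff_eq_mul]
  refine Subtype.ext ((Matrix.SpecialLinearGroup.coe_mul _ _).trans (Eq.trans ?_ (Matrix.SpecialLinearGroup.coe_mul _ _).symm))
  ext i j; fin_cases i <;> fin_cases j <;> simp [dMat, uMat, Matrix.mul_apply, Fin.sum_univ_three, hq.eq a]
  · linear_combination -a * x * ha
  · ring
  · linear_combination -(a ^ 3 * σ x * (a ^ 5 + 1)) * ha

theorem cen_mat (hq : QConj σ 4) {g : SL(3, F)} (h : ∀ u v, J3 σ (g.1.mulVec u) (g.1.mulVec v) = J3 σ u v)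
    (hc : g * uMat σ 0 1 = uMat σ 0 1 * g) : ∃ (a : F) (ha : a ^ 5 = 1), ∃ u ∈ U0 hq.invol, g = u * dMat ha := by
  have t : (2 : F) = 0 := CharTwo.two_eq_zero
  have c : g.1 * (uMat σ 0 1).1 = (uMat σ 0 1).1 * g.1 := congrArg Subtype.val hc
  have c1 := congrFun (congrFun c 0) 0
  have c2 := congrFun (congrFun c 0) 1
  have c3 := congrFun (congrFun c 0) 2
  have c4 := congrFun (congrFun c 1) 2
  simp [uMat, Matrix.mul_apply, Fin.sum_univ_three] at c1 c2 c3 c4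
  have c5 : g.1 2 2 = g.1 0 0 := by linear_combination -c3
  have h1 := h ![1, 0, 0] ![0, 0, 1]
  have h2 := h ![0, 0, 1] ![0, 1, 0]
  have h3 := h ![0, 0, 1] ![0, 0, 1]
  have h4 := (Matrix.det_fin_three g.1).symm.trans g.2
  simp [J3, Matrix.mulVec, dotProduct, Fin.sum_univ_three, c1, c2, c4, c5] at h1 h2 h3 h4
  set a := g.1 0 0 with ea
  have ha : a ^ 5 = 1 := by rw [hq.eq a] at h1; linear_combination h1
  have h5 : g.1 1 1 = a ^ 3 := by linear_combination a ^ 3 * h4 - g.1 1 1 * ha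
  rw [h5, hq.eq (a ^ 3)] at h2
  have h6 : g.1 1 2 = a ^ 4 * σ (g.1 0 1) := by
    linear_combination a ^ 3 * h2 - g.1 1 2 * (a ^ 10 + a ^ 5 + 1) * ha - a ^ 4 * σ (g.1 0 1) * t
  rw [h6, map_mul, hq.invol, hq.eq (a ^ 4), hq.eq a] at h3
  refine ⟨a, ha, uMat σ (g.1 0 1 * a ^ 2) (g.1 0 2 * a ^ 4), ⟨_, _, ?_, rfl⟩, ?_⟩
  · rw [map_mul, map_mul, hq.eq (a ^ 4), hq.eq (a ^ 2)]
    linear_combination h3 + σ (g.1 0 2) * a * (a ^ 10 + a ^ 5 + 1) * ha -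
      g.1 0 1 * σ (g.1 0 1) * ((a ^ 5 + 1) + (a ^ 15 + a ^ 10 + a ^ 5 + 1)) * ha - g.1 0 1 * σ (g.1 0 1) * t
  · refine Subtype.ext (Eq.trans ?_ (Matrix.SpecialLinearGroup.coe_mul _ _).symm)
    ext i j; fin_cases i <;> fin_cases j <;>
      simp [dMat, uMat, Matrix.mul_apply, Fin.sum_univ_three, c1, c2, c4, c5, h5, h6, ← ea, hq.eq a]
    · linear_combination -g.1 0 1 * ha
    · linear_combination -g.1 0 2 * ha
    · linear_combination -(a ^ 4 * σ (g.1 0 1)) * ha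

theorem dMat_J (hq : QConj σ 4) {a : F} (ha : a ^ 5 = 1) (u v : Fin 3 → F) :
    J3 σ ((dMat ha).1.mulVec u) ((dMat ha).1.mulVec v) = J3 σ u v := by
  simp [J3, dMat, Matrix.mulVec, dotProduct, Fin.sum_univ_three, hq.eq a]
  linear_combination (u 0 * σ (v 2) + u 1 * σ (v 1) * (a ^ 10 + a ^ 5 + 1) + u 2 * σ (v 0)) * ha

theorem c5_model [Finite F] (hq : QConj σ 4) {a : F} (ha : IsPrimitiveRoot a 5) :
    C5 (U0 hq.invol) (dMat ha.pow_eq_one) ∧ #(U0 hq.invol) = 64 := by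
  have h := us_model hq le_rfl
  have c : #(U0 hq.invol) = 64 := h.card
  have pQ : PGrp 2 (U0 hq.invol) := pGrp_of_card Nat.prime_two (n := 6) c
  haveI : Fact (Nat.Prime 5) := ⟨by norm_num⟩
  refine ⟨⟨pQ, orderOf_eq_prime ?_ fun e => ha.ne_one (by norm_num) (congrArg (fun m : SL(3, F) => m.1 0 0) e),
    FT.mem_nrm.2 ?_, fun e => ?_, sr64 pQ c (h.cardZ.ge.trans (card_le (h.le_der.trans pQ.der_le_Phi))) fun K hK ab => ?_⟩, c⟩
  · rw [dMat_pow]; refine Subtype.ext ?_; ext i j; fin_cases i <;> fin_cases j <;> simp [dMat, ha.pow_eq_one]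
  · rintro _ ⟨x, y, e, rfl⟩
    refine ⟨_, _, ?_, dMat_conj hq _ x y⟩
    rw [e, map_mul, hq.eq (a ^ 3)]
    linear_combination -(x * σ x * (a ^ 10 + a ^ 5 + 1)) * ha.pow_eq_one
  · obtain ⟨ζ, hζ⟩ := H11.exists_trace_eq hq.ne_id hq.invol (map_one σ)
    have := FT.mem_cen.1 (e (mem_zpowers _)) (uMat σ 1 ζ) ⟨1, ζ, by simpa using hζ, rfl⟩
    rw [eq_comm, ← mul_inv_eq_iff_eq_mul, dMat_conj hq, uMat_inj, mul_one] at this
    exact absurd ((ha.pow_eq_one_iff_dvd 3).1 this.1) (by norm_num)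
  · have := card_le (show K ≤ Z0 σ from fun x hx => (h.mem x).2 ⟨hK hx, (sq x).symm.trans (ab.pow hx)⟩)
    rw [h.cardZ] at this; omega

end

theorem s1903 (hG : Nat.card G = 320) (hD : #(commutator G) = 64) (hZ : #Z(commutator G) = 4)
    {F : Type*} [Field F] [Fintype F] (hF : Fintype.card F = 16) :
    ∃ t : PSU 3 F 4, orderOf t = 2 ∧ Nonempty (G ≃* C[t]) := by
  have hq := H11.qConj_conjQ (q := 4) hF
  haveI : Fact (Nat.Prime 2) := ⟨Nat.prime_two⟩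
  haveI : CharP F 2 := charP_of_card_eq_prime_pow (f := 4) hF
  set σ := H11.conjQ (q := 4) hF
  obtain ⟨ζ, hζ⟩ := H11.exists_trace_eq hq.ne_id hq.invol (map_one σ)
  obtain ⟨a, ha⟩ : ∃ a : F, IsPrimitiveRoot a 5 := by
    obtain ⟨u, -, hu⟩ := exists_elt_of_prime_dvd (H := (⊤ : Subgroup Fˣ)) (by norm_num : Nat.Prime 5)
      (by rw [card_top', Nat.card_units, Nat.card_eq_fintype_card, hF]; norm_num)
    exact ⟨u, IsPrimitiveRoot.coe_units_iff.2 (hu ▸ IsPrimitiveRoot.orderOf u)⟩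
  obtain ⟨r, h⟩ := c5_of_320 hG hD hZ
  obtain ⟨x, h1, h2, h3⟩ := h.exists_R5 hD
  obtain ⟨h', hD'⟩ := c5_model hq ha
  obtain ⟨x', h1', h2', h3'⟩ := h'.exists_R5 hD'
  obtain ⟨e⟩ := h1.iso h1' (h2 ▸ h3) (h2' ▸ h3')
  have hZ' : center (SU 3 F 4) = ⊥ := by
    rw [← Subgroup.card_eq_one, H11.card_center_equiv (H11.suEquiv hq 3),
      (hq.isHerm (Fin 3)).card_center_sisom hq (H11.hermB_sep _) (by simp)]
    simp
  let ε : SU 3 F 4 ≃* PSU 3 F 4 := MulEquiv.ofBijective (QuotientGroup.mk' _)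
    ⟨by rw [← MonoidHom.ker_eq_bot_iff, QuotientGroup.ker_mk', hZ'], QuotientGroup.mk'_surjective _⟩
  let κ := MulAut.conj (H18.qMat hζ)
  let ι : PSU 3 F 4 →* Matrix.SpecialLinearGroup (Fin 3) F :=
    κ.symm.toMonoidHom.comp ((SU 3 F 4).subtype.comp ε.symm.toMonoidHom)
  have hι : Function.Injective ι := κ.symm.injective.comp ((SU 3 F 4).subtype_injective.comp ε.symm.injective)
  have k1 : ∀ g (hg : κ g ∈ SU 3 F 4), ι (ε ⟨κ g, hg⟩) = g := fun g hg => by simp [ι]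
  have k2 : ∀ y, κ (ι y) ∈ SU 3 F 4 := fun y => by simp [ι]
  have m0 : κ (H18.uMat σ 0 1) ∈ SU 3 F 4 := H18.conj_uMat_mem hq hζ (by simp [CharTwo.add_self_eq_zero])
  have k3 : ∀ y, y ∈ C[ε ⟨_, m0⟩] ↔ ι y * H18.uMat σ 0 1 = H18.uMat σ 0 1 * ι y := fun y => by
    rw [mem_cen1, ← hι.eq_iff, map_mul, map_mul, k1]
  have k4 : C[ε ⟨_, m0⟩].map ι = U0 hq.invol ⊔ ⟪dMat ha.pow_eq_one⟫ := by
    refine le_antisymm ?_ (sup_le ?_ (zpowers_le.2 ?_))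
    · rintro _ ⟨y, hy, rfl⟩
      obtain ⟨b, hb, u, hu, e⟩ := cen_mat hq ((conj_mem_SU hq hζ _).1 (k2 y)) ((k3 y).1 hy)
      obtain ⟨i, -, rfl⟩ := ha.eq_pow_of_pow_eq_one hb
      rw [e, ← dMat_pow ha.pow_eq_one]
      exact mul_mem_sup hu (npow_mem_zpowers _ _)
    · rintro _ ⟨x, y, e, rfl⟩
      refine ⟨ε ⟨_, H18.conj_uMat_mem hq hζ e⟩, (k3 _).2 ?_, k1 _ _⟩
      erw [k1]; simp [H18.uMat_mul, add_comm]
    · refine ⟨ε ⟨_, (conj_mem_SU hq hζ _).2 (dMat_J hq ha.pow_eq_one)⟩, (k3 _).2 ?_, k1 _ _⟩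
      erw [k1]; rw [← mul_inv_eq_iff_eq_mul, dMat_conj hq, mul_zero]
  refine ⟨ε ⟨_, m0⟩, ?_, ⟨(topEquiv.symm.trans (MulEquiv.subgroupCongr ?_)).trans (e.trans
    ((MulEquiv.subgroupCongr (h2'.trans k4.symm)).trans (equivMapOfInjective _ ι hι).symm))⟩⟩
  · rw [← orderOf_injective ι hι, k1]
    refine orderOf_eq_prime (by rw [sq, H18.uMat_mul]; simp [CharTwo.add_self_eq_zero, uMat_zero]) fun e => ?_
    rw [← uMat_zero (σ := σ), uMat_inj] at e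
    exact one_ne_zero e.2
  · exact (eq_of_card_eq le_top (by rw [h2, h3, card_top', hG])).symm

end Cfsg.Agent.GO
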